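import Cfsg.Agent.Lib.Forms.Max.SL3.SympType.Classes

/-!
# Counting in a group with a dihedral-type involution centraliser: the contradiction
-/

set_option autoImplicit false
set_option linter.unusedSectionVars false

namespace Cfsg.Agent.Forms.Max.SL3.SympType

/-! ### arithmetic -/

theorem bracket {N M : ℕ} (hN : 0 < N) (hdvd : M ∣ N) {K : ℤ} (h : (N : ℤ) * K = M) : K = 1 := by
  obtain ⟨c, rfl⟩ := hdvd
  have hM : 0 < M := Nat.pos_of_ne_zero fun e => by simp [e] at hN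
  have h' : (M : ℤ) * ((c : ℤ) * K) = (M : ℤ) * 1 := by push_cast at h; rw [mul_one, ← mul_assoc, h]
  have h1 : (c : ℤ) * K = 1 := mul_left_cancel₀ (by exact_mod_cast hM.ne') h'
  have hc : (c : ℤ) = 1 := Int.eq_one_of_mul_eq_one_right (Int.natCast_nonneg c) h1
  rwa [hc, one_mul] at h1

theorem arith_bound {N m x e f b : ℕ} (h : N * (5 * m + 9) = 108 * m + 36 * m * e) (hxe : x ≤ e) (hm : 4 ≤ m)
    (hx : x * f * b = N * (b - 1)) (hfb : 0 < f * b) : 144 * (b - 1) < 29 * (f * b) := by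
  have h1 : 36 * m * x < N * (5 * m + 9) := by nlinarith
  have h2 : 36 * m * (N * (b - 1)) < N * (5 * m + 9) * (f * b) := by
    rw [← hx]; nlinarith
  by_contra hle
  push Not at hle
  nlinarith [Nat.mul_le_mul_left (N * m) hle, Nat.mul_le_mul_left (N * (f * b)) (show 4 * (5 * m + 9) ≤ 29 * m by omega)]

theorem arith_two {N m x y e b c : ℕ} (h : N * (5 * m + 9) = 108 * m + 36 * m * e) (he : x + y ≤ e) (hm : 4 ≤ m)
    (hb : 7 ≤ b) (hc : 7 ≤ c) (hx : x * 6 * b = N * (b - 1)) (hy : y * 6 * c = N * (c - 1)) : False := by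
  obtain ⟨b', rfl⟩ : ∃ b', b = b' + 1 := ⟨b - 1, by omega⟩
  obtain ⟨c', rfl⟩ : ∃ c', c = c' + 1 := ⟨c - 1, by omega⟩
  rw [Nat.add_sub_cancel] at hx hy
  have h1 : N ≤ 7 * x := by nlinarith
  have h2 : N ≤ 7 * y := by nlinarith
  nlinarith [Nat.mul_le_mul_left (36 * m) (show 2 * N ≤ 7 * e by omega)]

theorem arith_T {N m x b : ℕ} (h : N * (5 * m + 9) = 108 * m + 36 * m * x) (h4 : 4 ∣ m) (hb : 7 ≤ b)
    (hN : 0 < N) (hd : 108 * m * b ∣ N) (hx : x * 6 * b = N * (b - 1)) : False := by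
  have hk : (9 * b - m * b + 6 * m : ℤ) = 1 := by
    refine bracket hN hd ?_
    obtain ⟨b', rfl⟩ : ∃ b', b = b' + 1 := ⟨b - 1, by omega⟩
    rw [Nat.add_sub_cancel] at hx
    zify at h hx ⊢
    linear_combination ((b' : ℤ) + 1) * h + (6 * (m : ℤ)) * hx
  have h9 : 9 < m := by
    by_contra hle
    have : (m : ℤ) ≤ 9 := by exact_mod_cast (not_lt.1 hle)
    nlinarith
  have he : (m - 9) * (b - 6) = 53 := by
    zify [h9.le, show 6 ≤ b by omega]
    linarith
  rcases (Nat.dvd_prime (by norm_num)).1 (Dvd.intro_left _ he) with e | e <;> rw [e] at he <;> omega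

theorem arith_U9 {N m x p : ℕ} (h : N * (5 * m + 9) = 108 * m + 36 * m * x) (hp : 7 ≤ p) (hN : 0 < N)
    (hd : 108 * m * p ∣ N) (hx : x * 9 * p = N * (p - 1)) : False := by
  have hk : ((p : ℤ) * (m + 9) + 4 * m) = 1 := by
    refine bracket hN hd ?_
    obtain ⟨p', rfl⟩ : ∃ p', p = p' + 1 := ⟨p - 1, by omega⟩
    rw [Nat.add_sub_cancel] at hx
    zify at h hx ⊢
    linear_combination ((p' : ℤ) + 1) * h + (4 * (m : ℤ)) * hx
  have : (7 : ℤ) ≤ p := by exact_mod_cast hp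
  nlinarith

theorem arith_TU9 {N m x y b p : ℕ} (h : N * (5 * m + 9) = 108 * m + 36 * m * (x + y)) (hm : 4 ≤ m) (hp : 7 ≤ p)
    (hb : 7 ≤ b) (hN : 0 < N) (hd : 108 * m * (b * p) ∣ N) (hx : x * 9 * p = N * (p - 1))
    (hy : y * 6 * b = N * (b - 1)) : False := by
  have hk : ((b : ℤ) * p * (9 - 5 * m) + 4 * m * b + 6 * m * p) = 1 := by
    refine bracket hN hd ?_
    obtain ⟨p', rfl⟩ : ∃ p', p = p' + 1 := ⟨p - 1, by omega⟩
    obtain ⟨b', rfl⟩ : ∃ b', b = b' + 1 := ⟨b - 1, by omega⟩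
    rw [Nat.add_sub_cancel] at hx hy
    zify at h hx hy ⊢
    linear_combination ((p' : ℤ) + 1) * ((b' : ℤ) + 1) * h + (4 * (m : ℤ)) * ((b' : ℤ) + 1) * hx +
      (6 * (m : ℤ)) * ((p' : ℤ) + 1) * hy
  have h1 : (7 : ℤ) ≤ b := by exact_mod_cast hb
  have h2 : (7 : ℤ) ≤ p := by exact_mod_cast hp
  have h3 : (4 : ℤ) ≤ m := by exact_mod_cast hm
  nlinarith [mul_le_mul_of_nonneg_left h2 (show (0 : ℤ) ≤ m * b by positivity),
    mul_le_mul_of_nonneg_left h1 (show (0 : ℤ) ≤ m * p by positivity),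
    mul_le_mul_of_nonneg_left h3 (show (0 : ℤ) ≤ b * p by positivity)]

theorem arith_U {N m x f p : ℕ} (h : N * (5 * m + 9) = 108 * m + 36 * m * x) (hf : 5 ≤ f) (hp : 7 ≤ p) (hN : 0 < N)
    (hd : 108 * m * p ∣ N) (hfp : f ∣ p - 1) (hfm : f ∣ 2 * m) (hx : x * f * p = N * (p - 1)) : False := by
  obtain ⟨k, hk⟩ := hfm
  obtain ⟨a, ha⟩ := hfp
  obtain ⟨p', rfl⟩ : ∃ p', p = p' + 1 := ⟨p - 1, by omega⟩
  rw [Nat.add_sub_cancel] at hx ha
  have hK : (((p' : ℤ) + 1) * (5 * m + 9) - 18 * k * p') = 1 := by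
    refine bracket hN hd ?_
    zify at h hx hk ⊢
    linear_combination ((p' : ℤ) + 1) * h + (18 * (k : ℤ)) * hx + 18 * (x : ℤ) * ((p' : ℤ) + 1) * hk
  have h16 : (f : ℤ) ∣ 16 := by
    refine ⟨-2 * (a * (5 * m + 9 - 18 * k)) - 5 * k, ?_⟩
    zify at ha hk
    linear_combination 2 * hK - 5 * hk - 2 * (5 * (m : ℤ) + 9 - 18 * k) * ha
  have h16' : f ∣ 16 := by exact_mod_cast h16
  have h8 : 8 ≤ f := by
    have := Nat.le_of_dvd (by norm_num) h16'
    by_contra hlt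
    interval_cases f <;> omega
  have h8k : 8 * k ≤ 2 * m := hk ▸ Nat.mul_le_mul_right k h8
  have hlo : (18 * k : ℤ) ≤ 5 * m := by omega
  have : (6 : ℤ) ≤ p' := by omega
  nlinarith

theorem arith_TU {N m x y b f p : ℕ} (h : N * (5 * m + 9) = 108 * m + 36 * m * (x + y)) (hm : 4 ≤ m) (hf : 5 ≤ f)
    (hb : 7 ≤ b) (hp : 7 ≤ p) (hfm : f ∣ 2 * m) (hx : x * f * p = N * (p - 1))
    (hy : y * 6 * b = N * (b - 1)) : False := by
  have hle := Nat.le_of_dvd (by omega) hfm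
  obtain ⟨p', rfl⟩ : ∃ p', p = p' + 1 := ⟨p - 1, by omega⟩
  obtain ⟨b', rfl⟩ : ∃ b', b = b' + 1 := ⟨b - 1, by omega⟩
  rw [Nat.add_sub_cancel] at hx hy
  have h1 : N ≤ 7 * y := by nlinarith
  have h2 : 6 * N ≤ 7 * (x * f) := by nlinarith
  have h3 : 6 * N ≤ 14 * (m * x) := by nlinarith [Nat.mul_le_mul_left x hle]
  nlinarith [Nat.mul_le_mul_left (36 * m) h1]

theorem arith_TU_b {N m x y b f p : ℕ} (h : N * (5 * m + 9) = 108 * m + 36 * m * (x + y)) (h4 : 4 ∣ m) (h3 : ¬ 3 ∣ m)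
    (hm : 4 ≤ m) (hb : 7 ≤ b) (hbo : Odd b) (hp : 7 ≤ p) (hpo : Odd p) (hN : 0 < N) (hd : 108 * m * (b * p) ∣ N)
    (hfp : f ∣ p - 1) (hfb : f ∣ b) (hx : x * f * p = N * (p - 1)) (hy : y * 6 * b = N * (b - 1)) : False := by
  have hf0 : 0 < f := Nat.pos_of_dvd_of_pos hfb (by omega)
  have h15 : 15 ≤ f := by
    obtain ⟨p', rfl⟩ : ∃ p', p = p' + 1 := ⟨p - 1, by omega⟩
    obtain ⟨b', rfl⟩ : ∃ b', b = b' + 1 := ⟨b - 1, by omega⟩
    rw [Nat.add_sub_cancel] at hx hy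
    have h1 : N ≤ 7 * y := by nlinarith
    have h2 : 6 * N ≤ 7 * (x * f) := by nlinarith
    have e : 36 * m * ((6 + f) * N) ≤ 36 * m * (7 * f * (x + y)) := Nat.mul_le_mul_left _ (by nlinarith)
    have e2 : N * (36 * m * (6 + f)) < N * (7 * f * (5 * m + 9)) := by
      nlinarith [Nat.mul_pos hf0 (show 0 < m by omega)]
    have e3 := Nat.lt_of_mul_lt_mul_left e2
    have e4 : 4 * f ≤ m * f := Nat.mul_le_mul_right f hm
    nlinarith
  obtain ⟨k, hk⟩ := hfb
  obtain ⟨a, ha⟩ := hfp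
  obtain ⟨hfo, -⟩ := Nat.odd_mul.1 (hk ▸ hbo)
  have ha2 : 2 ≤ a := by
    rcases a with _ | _ | a
    · omega
    · simp only [zero_add, mul_one] at ha
      obtain ⟨i, hi⟩ := hfo
      obtain ⟨l, hl⟩ := hpo
      omega
    · omega
  have hpf : 2 * f + 1 ≤ p := by
    have := Nat.mul_le_mul_left f ha2
    omega
  have hk0 : 0 < k := Nat.pos_of_ne_zero fun e => by simp [e] at hk; omega
  have hK : ((p : ℤ) * (9 * b - m * b + 6 * m - 36 * k * m) + 36 * k * m) = 1 := by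
    refine bracket hN hd ?_
    obtain ⟨p', rfl⟩ : ∃ p', p = p' + 1 := ⟨p - 1, by omega⟩
    rw [Nat.add_sub_cancel] at hx
    obtain ⟨b', rfl⟩ : ∃ b', b = b' + 1 := ⟨b - 1, by omega⟩
    rw [Nat.add_sub_cancel] at hy
    zify at h hx hy hk ⊢
    linear_combination ((p' : ℤ) + 1) * ((b' : ℤ) + 1) * h + (36 * (m : ℤ) * k) * hx +
      (6 * (m : ℤ)) * ((p' : ℤ) + 1) * hy + 36 * (m : ℤ) * x * ((p' : ℤ) + 1) * hk
  have hb' : (b : ℤ) = f * k := by exact_mod_cast hk
  have hp' : (p : ℤ) - 1 = f * a := by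
    have : p = f * a + 1 := by omega
    rw [this]; push_cast; ring
  have h6 : (f : ℤ) ∣ 6 * m - 1 := by
    refine ⟨(m : ℤ) * k - 9 * k - a * (9 * b - m * b + 6 * m - 36 * k * m), ?_⟩
    linear_combination hK - (9 * (b : ℤ) - m * b + 6 * m - 36 * k * m) * hp' + ((m : ℤ) - 9) * hb'
  have h6' : f ∣ 6 * m - 1 := by
    rw [← Int.natCast_dvd_natCast]
    push_cast [show 1 ≤ 6 * m by omega]
    exact h6
  obtain ⟨D, hD⟩ : ∃ D : ℤ, D = m * b - 9 * b - 6 * m + 36 * k * m := ⟨_, rfl⟩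
  have hpD : (p : ℤ) * D = 36 * k * m - 1 := by rw [hD]; linarith
  have hp2 : (2 * f + 1 : ℤ) ≤ p := by exact_mod_cast hpf
  have hk1 : (1 : ℤ) ≤ k := by exact_mod_cast hk0
  have hf15 : (15 : ℤ) ≤ f := by exact_mod_cast h15
  rw [hb'] at hD
  by_cases hm16 : 16 ≤ m
  · have hm' : (16 : ℤ) ≤ m := by exact_mod_cast hm16
    have hD1 : (f : ℤ) * k * (m - 9) ≤ D := by rw [hD]; nlinarith
    have hD0 : (0 : ℤ) ≤ f * k * (m - 9) := by
      have : (0 : ℤ) ≤ (m : ℤ) - 9 := by linarith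
      positivity
    have e1 : (2 * f + 1 : ℤ) * (f * k * (m - 9)) ≤ 36 * k * m - 1 := hpD ▸
      mul_le_mul hp2 hD1 hD0 (Int.natCast_nonneg p)
    have e2 : (450 : ℤ) ≤ (2 * f + 1) * f := by nlinarith
    have e3 : (450 : ℤ) * (k * (m - 9)) ≤ (2 * f + 1) * f * (k * (m - 9)) :=
      mul_le_mul_of_nonneg_right e2 (mul_nonneg (by linarith) (by linarith))
    have e4 : (16 : ℤ) * k ≤ k * m := by
      rw [mul_comm (16 : ℤ)]; exact mul_le_mul_of_nonneg_left hm' (by linarith)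
    linarith
  · have hm48 : m = 4 ∨ m = 8 := by omega
    rcases hm48 with rfl | rfl
    · rcases (Nat.dvd_prime (by norm_num : Nat.Prime 23)).1 h6' with e | e
      · omega
      subst e
      norm_num at hD hp2 hpD
      have hD0 : 0 ≤ D := by linarith
      have hp' : ((2 * 23 + 1 : ℕ) : ℤ) ≤ p := Int.ofNat_le.2 hpf
      have := mul_le_mul_of_nonneg_right hp' hD0
      push_cast at this
      linarith
    · rcases (Nat.dvd_prime (by norm_num : Nat.Prime 47)).1 h6' with e | e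
      · omega
      subst e
      norm_num at hD hp2 hpD
      have hD0 : 0 ≤ D := by linarith
      have hp' : ((2 * 47 + 1 : ℕ) : ℤ) ≤ p := Int.ofNat_le.2 hpf
      have := mul_le_mul_of_nonneg_right hp' hD0
      push_cast at this
      linarith

/-! ### the classes -/

namespace CountData

variable {G : Type*} [Group G] [Finite G] (D : CountData G)

theorem m_ge : 4 ≤ D.m := by
  have h0 : 0 < 6 * D.m := D.cardC ▸ Nat.card_pos
  exact Nat.le_of_dvd (by omega) D.four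

theorem B_dvd {z : G} {b : ℕ} (hb : Nat.card (B z) = 3 * b) : b ∣ Nat.card G :=
  (Dvd.intro_left 3 hb.symm).trans (Subgroup.card_subgroup_dvd_card _)

theorem coprime_108 {b : ℕ} (ho : Odd b) (h3 : ¬ 3 ∣ b) (hm : b.Coprime D.m) : Nat.Coprime (108 * D.m) b := by
  refine Nat.Coprime.mul_left ?_ hm.symm
  rw [show 108 = 2 ^ 2 * 3 ^ 3 by rfl]
  exact Nat.Coprime.mul_left (Nat.Coprime.pow_left 2 (Nat.coprime_two_left.2 ho))
    (Nat.Coprime.pow_left 3 ((Nat.Prime.coprime_iff_not_dvd (by norm_num)).2 h3))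

theorem p_not3 : ¬ 3 ∣ D.p := fun h => by
  have := (Nat.prime_dvd_prime_iff_eq (by norm_num) D.hp).1 h
  have := D.p7
  omega

theorem card_B_sat {z z' : G} (hz : z ∈ E D) (h : z' ∈ sat ((B z : Set G) \ D.Z)) :
    Nat.card (B z') = Nat.card (B z) := by
  obtain ⟨g, y, hy, rfl⟩ := h
  refine Nat.card_congr (Equiv.subtypeEquiv (MulAut.conj g⁻¹).toEquiv fun a => ?_)
  show a ∈ B (g * y * g⁻¹) ↔ g⁻¹ * a * g⁻¹⁻¹ ∈ B z
  constructor
  · intro ha
    refine B_centralizer D hz hy.1 hy.2 ?_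
    have := conj_commute (mem_B.1 ha) g⁻¹
    rwa [show g⁻¹ * (g * y * g⁻¹) * g⁻¹⁻¹ = y by group] at this
  · intro ha
    have := conj_commute (B_comm D hz ha hy.1) g
    rw [show g * (g⁻¹ * a * g⁻¹⁻¹) * g⁻¹ = a by group] at this
    exact mem_B.2 this

/-- classes with centraliser of order `3 p` coincide -/
theorem same_p {z z' : G} (hz : z ∈ E D) (hz' : z' ∈ E D) (hb : Nat.card (B z) = 3 * D.p)
    (hb' : Nat.card (B z') = 3 * D.p) : z' ∈ sat ((B z : Set G) \ D.Z) := by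
  haveI : Fact D.p.Prime := ⟨D.hp⟩
  obtain ⟨P, hP, hPle, hPZ, -⟩ := cube_sub D hz hb (p_not3 D)
  obtain ⟨Q, hQ, hQle, hQZ, -⟩ := cube_sub D hz' hb' (p_not3 D)
  have syl : ∀ H : Subgroup G, Nat.card H = D.p → ∃ S : Sylow D.p G, H = (S : Subgroup G) := fun H hH => by
    obtain ⟨S, hS⟩ := (IsPGroup.of_card (p := D.p) (n := 1) (by rw [hH, pow_one])).exists_le_sylow
    obtain ⟨v, hv⟩ := IsPGroup.iff_card.1 S.isPGroup'
    refine ⟨S, Subgroup.eq_of_le_of_card_ge hS ?_⟩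
    rw [hv, hH]
    have hv1 : v ≤ 1 := by
      by_contra h
      exact D.psq ((pow_dvd_pow D.p (show 2 ≤ v by omega)).trans (hv ▸ Subgroup.card_subgroup_dvd_card _))
    calc D.p ^ v ≤ D.p ^ 1 := Nat.pow_le_pow_right D.hp.pos hv1
      _ = D.p := pow_one _
  obtain ⟨S, rfl⟩ := syl P hP
  obtain ⟨T, rfl⟩ := syl Q hQ
  obtain ⟨g, hg⟩ := MulAction.exists_smul_eq G T S
  haveI : Nontrivial (T : Subgroup G) := Finite.one_lt_card_iff_nontrivial.1 (by rw [hQ]; exact D.hp.one_lt)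
  obtain ⟨⟨w, hw⟩, hw1⟩ := exists_ne (1 : (T : Subgroup G))
  have hw' : g * w * g⁻¹ ∈ (S : Subgroup G) := by
    rw [← hg, Sylow.coe_subgroup_smul, Subgroup.mem_pointwise_smul_iff_inv_smul_mem]
    have : (MulAut.conj g)⁻¹ • (g * w * g⁻¹) = w := by simp [MulAut.smul_def, mul_assoc]
    rw [this]; exact hw
  have hwZ : g * w * g⁻¹ ∉ D.Z := fun h => hw1 (Subtype.ext (conj_eq_one_iff.1 (hPZ _ hw' h)))
  refine ⟨g⁻¹, g * z' * g⁻¹, ⟨?_, fun h => E_not_Z D hz' (conj_mem_Z D h)⟩, by group⟩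
  exact B_centralizer D hz (hPle hw') hwZ (conj_commute (mem_B.1 (hQle hw)).symm g)

/-- a class of the second type gives a divisor -/
theorem cls_U {z : G} {f : ℕ} (hz : z ∈ E D) (hb : Nat.card (B z) = 3 * D.p)
    (hN : Nat.card (Subgroup.normalizer (B z : Set G)) = f * (3 * D.p)) (hf : 5 ≤ f) (hfp : f ∣ D.p - 1) :
    f ∣ 2 * D.m ∨ f = 9 ∨ ∃ z' ∈ E D, ∃ b, Nat.card (B z') = 3 * b ∧ b ≠ D.p ∧ f ∣ b := by
  classical
  haveI : Fact D.p.Prime := ⟨D.hp⟩
  set N := Subgroup.normalizer (B z : Set G) with hNdef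
  obtain ⟨P, hP, hPle, hPZ, hPn⟩ := cube_sub D hz hb (p_not3 D)
  have hPne : ∃ w ∈ P, w ∉ D.Z := by
    haveI : Nontrivial P := Finite.one_lt_card_iff_nontrivial.1 (by rw [hP]; exact D.hp.one_lt)
    obtain ⟨⟨w, hw⟩, hw1⟩ := exists_ne (1 : P)
    exact ⟨w, hw, fun h => hw1 (Subtype.ext (hPZ w hw h))⟩
  let φ : N →* MulAut P :=
    { toFun := fun g =>
        { toFun := fun w => ⟨g * w * (g : G)⁻¹, hPn _ g.2 _ w.2⟩
          invFun := fun w => ⟨(g : G)⁻¹ * w * (g : G)⁻¹⁻¹, hPn _ (inv_mem g.2) _ w.2⟩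
          left_inv := fun w => Subtype.ext (by simp [mul_assoc])
          right_inv := fun w => Subtype.ext (by simp [mul_assoc])
          map_mul' := fun a b => Subtype.ext (by simp [mul_assoc]) }
      map_one' := MulEquiv.ext fun w => Subtype.ext
        (show ((1 : N) : G) * w * ((1 : N) : G)⁻¹ = w by simp)
      map_mul' := fun a b => MulEquiv.ext fun w => Subtype.ext
        (show ((a * b : N) : G) * w * ((a * b : N) : G)⁻¹ = a * (b * w * (b : G)⁻¹) * (a : G)⁻¹ by simp [mul_assoc]) }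
  have hker : φ.ker = (B z).subgroupOf N := by
    ext g
    rw [MonoidHom.mem_ker, Subgroup.mem_subgroupOf]
    constructor
    · intro h
      obtain ⟨w, hw, hwZ⟩ := hPne
      have e : (g : G) * w * (g : G)⁻¹ = w := congrArg Subtype.val (DFunLike.congr_fun h ⟨w, hw⟩)
      exact B_centralizer D hz (hPle hw) hwZ (mul_inv_eq_iff_eq_mul.1 e)
    · intro h
      refine MulEquiv.ext fun w => Subtype.ext (show (g : G) * w * (g : G)⁻¹ = w from ?_)
      rw [(B_comm D hz h (hPle w.2)).eq, mul_inv_cancel_right]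
  have hrange : Nat.card φ.range = f := by
    rw [← Subgroup.index_ker, hker]
    have h1 := Subgroup.card_mul_index ((B z).subgroupOf N)
    rw [Nat.card_congr (Subgroup.subgroupOfEquivOfLe Subgroup.le_normalizer).toEquiv, hb, hN, mul_comm f] at h1
    exact Nat.eq_of_mul_eq_mul_left (by have := D.p7; omega) h1
  haveI : IsCyclic P := isCyclic_of_prime_card hP
  haveI : Fact (Nat.card P).Prime := ⟨hP ▸ D.hp⟩
  haveI : IsCyclic (MulAut P) :=
    isCyclic_of_surjective (IsCyclic.mulAutMulEquiv P).symm.toMonoidHom (IsCyclic.mulAutMulEquiv P).symm.surjective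
  obtain ⟨⟨_, g₀, rfl⟩, hg₀⟩ := IsCyclic.exists_ofOrder_eq_natCard (α := φ.range)
  rw [hrange] at hg₀
  have hcop : Nat.Coprime f D.p := ((D.hp.coprime_iff_not_dvd).2 fun h => by
    have := Nat.le_of_dvd (by omega) h
    have := Nat.le_of_dvd (by have := D.p7; omega) hfp
    omega).symm
  have hord : orderOf (φ (g₀ ^ D.p)) = f := by
    have : orderOf (φ g₀) = f := by rw [← hg₀, ← Subgroup.orderOf_coe]
    rw [map_pow, Nat.Coprime.orderOf_pow (this.symm ▸ hcop), this]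
  set n : G := ((g₀ ^ D.p : N) : G) with hn
  have up : ∀ k, n ^ k ∈ D.Z → f ∣ k := fun k hk => by
    rw [← hord, orderOf_dvd_iff_pow_eq_one, ← map_pow, ← MonoidHom.mem_ker, hker, Subgroup.mem_subgroupOf]
    exact Z_le_B D (by simpa [hn] using hk)
  rcases cover D n with h | h | h | h
  · have := Nat.le_of_dvd one_pos (up 1 (by rwa [pow_one]))
    omega
  · obtain ⟨g, y, hy, e⟩ := h
    have up' : ∀ k, y ^ k ∈ D.Z → f ∣ k := fun k hk => up k (by
      rw [← e, conj_pow, (Z_comm D hk g).symm.eq, mul_inv_cancel_right]; exact hk)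
    by_cases hC : y ∈ D.C
    · left
      refine up' _ (mem_Z_of_three D ?_ D.ht ((commute_of_mem D hC).pow_left _).symm)
      have h6 := congrArg Subtype.val (pow_card_eq_one' (x := (⟨y, hC⟩ : D.C)))
      rw [D.cardC] at h6
      simp only [SubmonoidClass.coe_pow, OneMemClass.coe_one] at h6
      rw [← pow_mul, show 2 * D.m * 9 = 6 * D.m * 3 by ring, pow_mul, h6, one_pow]
    · exfalso
      have hz0 := sq_case D hy hC
      have h4 : y ^ 4 ∈ D.Z := by
        have := mul_mem hz0 hz0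
        rwa [((hy.1.mul_left hy.1)).mul_mul_mul_comm, sq_one D.ht, one_mul, ← pow_two y, ← pow_add] at this
      have := Nat.le_of_dvd (by norm_num) (up' 4 h4)
      omega
  · obtain ⟨g, y, hy, e⟩ := h
    right; left
    haveI : (D.Z.subgroupOf D.R).Normal :=
      ⟨fun a ha b => by
        rw [Subgroup.mem_subgroupOf] at ha ⊢
        have : ((b * a * b⁻¹ : D.R) : G) = a := by
          rw [Subgroup.coe_mul, Subgroup.coe_mul, Subgroup.coe_inv, (Z_comm D ha (b : G)).symm.eq, mul_inv_cancel_right]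
        rwa [this]⟩
    have hidx : (D.Z.subgroupOf D.R).index = 9 := by
      have h1 := Subgroup.card_mul_index (D.Z.subgroupOf D.R)
      rw [Nat.card_congr (Subgroup.subgroupOfEquivOfLe D.hZR).toEquiv, D.cardZ, D.cardR] at h1
      omega
    have h9 := Subgroup.pow_index_mem (D.Z.subgroupOf D.R) (⟨y, hy.1⟩ : D.R)
    rw [hidx, Subgroup.mem_subgroupOf] at h9
    have hd : f ∣ 9 := up 9 (by
      rw [← e, conj_pow]
      simp only [SubmonoidClass.coe_pow] at h9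
      rw [(Z_comm D h9 g).symm.eq, mul_inv_cancel_right]; exact h9)
    have := Nat.le_of_dvd (by norm_num) hd
    interval_cases f <;> omega
  · right; right
    obtain ⟨b, hbn, -, -, -, -⟩ := card_B D h
    have hnb : n ^ b ∈ D.Z := B_three D h (pow_mem (mem_B.2 (Commute.refl n)) b) (by
      have h1 := congrArg Subtype.val (pow_card_eq_one' (x := (⟨n, mem_B.2 (Commute.refl n)⟩ : B n)))
      rw [hbn] at h1
      simp only [SubmonoidClass.coe_pow, OneMemClass.coe_one] at h1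
      rw [← pow_mul, show b * 9 = 3 * b * 3 by ring, pow_mul, h1, one_pow])
    refine ⟨n, h, b, hbn, fun e => ?_, up b hnb⟩
    have := Nat.Coprime.eq_one_of_dvd hcop (e ▸ up b hnb)
    omega

/-- the classes are of two types -/
theorem classify {z : G} (hz : z ∈ E D) :
    ∃ b f : ℕ, Nat.card (B z) = 3 * b ∧ Odd b ∧ ¬ 3 ∣ b ∧ b.Coprime D.m ∧
      Nat.card (Subgroup.normalizer (B z : Set G)) = f * (3 * b) ∧
      Nat.card (sat ((B z : Set G) \ D.Z)) * f * b = Nat.card G * (b - 1) ∧ f ∣ b - 1 ∧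
      ((f = 6 ∧ 7 ≤ b) ∨ (b = D.p ∧ 5 ≤ f ∧ ¬ f ∣ 6)) := by
  obtain ⟨b, hb, ho, h3, h5, hcop⟩ := card_B D hz
  obtain ⟨f, hN, hfb, hx, hor⟩ := cls D hz hb h3
  refine ⟨b, f, hb, ho, h3, hcop, hN, hx, hfb, ?_⟩
  have hf0 : 0 < f := Nat.pos_of_dvd_of_pos hfb (by omega)
  have hxe : Nat.card (sat ((B z : Set G) \ D.Z)) ≤ Nat.card (E D) := by
    rw [Nat.card_coe_set_eq, Nat.card_coe_set_eq]
    exact Set.ncard_le_ncard (cls_sub D hz)
  have hbd := arith_bound (card_eq D) hxe (m_ge D) hx (Nat.mul_pos hf0 (by omega))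
  have hf3 : ¬ f ≤ 3 := fun h => by
    have := Nat.mul_le_mul_right b h
    omega
  by_cases h6 : f ∣ 6
  · left
    have hf6 : f = 6 := by
      have := Nat.le_of_dvd (by norm_num) h6
      interval_cases f <;> omega
    refine ⟨hf6, ?_⟩
    subst hf6
    omega
  · right
    have hbp := hor.resolve_left h6
    refine ⟨hbp, ?_, h6⟩
    by_contra h
    obtain rfl : f = 4 := by omega
    have := D.p7
    omega

end CountData

open CountData in
/-- no group has such data -/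
theorem count_false {G : Type*} [Group G] [Finite G] (D : CountData G) : False := by
  classical
  have hN0 : 0 < Nat.card G := Nat.card_pos
  have hm := m_ge D
  have heq := card_eq D
  have hd := dvd_card D
  have twoT : ∀ z z' : G, z ∈ CountData.E D → z' ∈ CountData.E D → z' ∉ sat ((B z : Set G) \ D.Z) →
      (∃ b, Nat.card (sat ((B z : Set G) \ D.Z)) * 6 * b = Nat.card G * (b - 1) ∧ 7 ≤ b) →
      (∃ b, Nat.card (sat ((B z' : Set G) \ D.Z)) * 6 * b = Nat.card G * (b - 1) ∧ 7 ≤ b) → False := by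
    rintro z z' hz hz' hn ⟨b, hx, hb⟩ ⟨c, hy, hc⟩
    refine arith_two heq ?_ hm hb hc hx hy
    simp only [Nat.card_coe_set_eq]
    rw [← Set.ncard_union_eq (cls_disjoint D hz hz' hn)]
    exact Set.ncard_le_ncard (Set.union_subset (cls_sub D hz) (cls_sub D hz'))
  have hne : (CountData.E D).Nonempty := by
    rw [Set.nonempty_iff_ne_empty]
    intro h
    rw [h, Nat.card_coe_set_eq, Set.ncard_empty, mul_zero, add_zero] at heq
    obtain ⟨c, hc⟩ := hd
    rw [hc, mul_assoc] at heq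
    have : c * (5 * D.m + 9) = 1 := by
      apply Nat.eq_of_mul_eq_mul_left (show 0 < 108 * D.m by omega)
      rw [heq, mul_one]
    have := Nat.eq_one_of_mul_eq_one_left this
    omega
  by_cases hU : ∃ z ∈ CountData.E D, ∃ f, Nat.card (B z) = 3 * D.p ∧
      Nat.card (Subgroup.normalizer (B z : Set G)) = f * (3 * D.p) ∧ 5 ≤ f ∧ ¬ f ∣ 6
  · obtain ⟨z, hz, f, hb, hN, hf, hf6⟩ := hU
    obtain ⟨b₀, f₀, hb₀, ho, -, hcop, hN₀, hx, hfb, -⟩ := classify D hz
    obtain rfl : b₀ = D.p := by omega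
    obtain rfl : f₀ = f := Nat.eq_of_mul_eq_mul_right (by have := D.p7; omega) (hN₀.symm.trans hN)
    have hdp : 108 * D.m * D.p ∣ Nat.card G :=
      (coprime_108 D ho (p_not3 D) hcop).mul_dvd_of_dvd_of_dvd hd (B_dvd hb)
    have hdiv := cls_U D hz hb hN hf hfb
    by_cases hall : CountData.E D ⊆ sat ((B z : Set G) \ D.Z)
    · have e : CountData.E D = sat ((B z : Set G) \ D.Z) := hall.antisymm (cls_sub D hz)
      rw [← e] at hx
      rcases hdiv with h | h | ⟨z', hz', b', hb', hne', -⟩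
      · exact arith_U heq hf D.p7 hN0 hdp hfb h hx
      · subst h; exact arith_U9 heq D.p7 hN0 hdp hx
      · have := card_B_sat D hz (hall hz')
        omega
    obtain ⟨z', hz', hn⟩ := Set.not_subset.1 hall
    obtain ⟨b, f', hb', hbo, hb3, hbm, hN', hy, hfb', hty⟩ := classify D hz'
    have hbp : b ≠ D.p := fun h => hn (same_p D hz hz' hb (h ▸ hb'))
    obtain ⟨rfl, hb7⟩ := hty.resolve_right (fun h => hbp h.1)
    have hcover : CountData.E D = sat ((B z : Set G) \ D.Z) ∪ sat ((B z' : Set G) \ D.Z) := by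
      refine Set.Subset.antisymm (fun x hx => ?_) (Set.union_subset (cls_sub D hz) (cls_sub D hz'))
      by_contra hnx
      rw [Set.mem_union, not_or] at hnx
      obtain ⟨c, f'', hc, -, -, -, -, hw, -, hty'⟩ := classify D hx
      have hcp : c ≠ D.p := fun h => hnx.1 (same_p D hz hx hb (h ▸ hc))
      obtain ⟨rfl, hc7⟩ := hty'.resolve_right (fun h => hcp h.1)
      exact twoT z' x hz' hx hnx.2 ⟨b, hy, hb7⟩ ⟨c, hw, hc7⟩
    rw [hcover, Nat.card_coe_set_eq, Set.ncard_union_eq (cls_disjoint D hz hz' hn), ← Nat.card_coe_set_eq,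
      ← Nat.card_coe_set_eq] at heq
    have hpb : Nat.Coprime b D.p := by
      refine ((D.hp.coprime_iff_not_dvd).2 fun h => hn ?_).symm
      haveI : Fact D.p.Prime := ⟨D.hp⟩
      obtain ⟨w, hw⟩ := exists_prime_orderOf_dvd_card' (G := B z') D.p (by rw [hb']; exact Dvd.dvd.mul_left h 3)
      rw [← Subgroup.orderOf_coe] at hw
      obtain ⟨P, hP, hPle, hPZ, -⟩ := cube_sub D hz hb (p_not3 D)
      obtain ⟨S, hS⟩ := (IsPGroup.of_card (p := D.p) (n := 1) (by rw [hP, pow_one] : Nat.card P = D.p ^ 1)).exists_le_sylow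
      obtain ⟨T, hT⟩ := (IsPGroup.of_card (p := D.p) (n := 1)
        (by rw [Nat.card_zpowers, hw, pow_one] : Nat.card (Subgroup.zpowers (w : G)) = D.p ^ 1)).exists_le_sylow
      have hSP : P = (S : Subgroup G) := by
        obtain ⟨v, hv⟩ := IsPGroup.iff_card.1 S.isPGroup'
        refine Subgroup.eq_of_le_of_card_ge hS ?_
        rw [hv, hP]
        have hv1 : v ≤ 1 := by
          by_contra h'
          exact D.psq ((pow_dvd_pow D.p (show 2 ≤ v by omega)).trans (hv ▸ Subgroup.card_subgroup_dvd_card _))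
        calc D.p ^ v ≤ D.p ^ 1 := Nat.pow_le_pow_right D.hp.pos hv1
          _ = D.p := pow_one _
      obtain ⟨g, hg⟩ := MulAction.exists_smul_eq G T S
      have hw' : g * (w : G) * g⁻¹ ∈ P := by
        rw [hSP, ← hg, Sylow.coe_subgroup_smul, Subgroup.mem_pointwise_smul_iff_inv_smul_mem]
        have : (MulAut.conj g)⁻¹ • (g * (w : G) * g⁻¹) = (w : G) := by simp [MulAut.smul_def, mul_assoc]
        rw [this]; exact hT (Subgroup.mem_zpowers _)
      have hwZ : g * (w : G) * g⁻¹ ∉ D.Z := fun h' => by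
        rw [conj_eq_one_iff.1 (hPZ _ hw' h'), orderOf_one] at hw
        exact D.hp.ne_one hw.symm
      exact ⟨g⁻¹, g * z' * g⁻¹, ⟨B_centralizer D hz (hPle hw') hwZ (conj_commute (mem_B.1 w.2).symm g),
        fun h' => E_not_Z D hz' (conj_mem_Z D h')⟩, by group⟩
    have hdbp : 108 * D.m * (b * D.p) ∣ Nat.card G :=
      ((coprime_108 D hbo hb3 hbm).mul_right (coprime_108 D ho (p_not3 D) hcop)).mul_dvd_of_dvd_of_dvd hd
        (hpb.mul_dvd_of_dvd_of_dvd (B_dvd hb') (B_dvd hb))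
    rcases hdiv with h | h | ⟨x, hx', c, hc, hcp, hfc⟩
    · exact arith_TU heq hm hf hb7 D.p7 h hx hy
    · subst h; exact arith_TU9 heq hm D.p7 hb7 hN0 hdbp hx hy
    · have hcb : c = b := by
        rcases hcover ▸ hx' with h' | h'
        · have := card_B_sat D hz h'; omega
        · have := card_B_sat D hz' h'; omega
      subst hcb
      exact arith_TU_b heq D.four (three_m D) hm hb7 hbo D.p7 (D.hp.odd_of_ne_two (by have := D.p7; omega)) hN0 hdbp
        hfb hfc hx hy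
  · obtain ⟨z, hz⟩ := hne
    have allT : ∀ x ∈ CountData.E D, ∃ b, Nat.card (sat ((B x : Set G) \ D.Z)) * 6 * b = Nat.card G * (b - 1) ∧
        7 ≤ b ∧ Nat.card (B x) = 3 * b ∧ Odd b ∧ ¬ 3 ∣ b ∧ b.Coprime D.m := fun x hx => by
      obtain ⟨b, f, hb, ho, h3, hcop, hN, hw, -, hty⟩ := classify D hx
      rcases hty with ⟨rfl, h7⟩ | ⟨rfl, h5, h6⟩
      · exact ⟨b, hw, h7, hb, ho, h3, hcop⟩
      · exact absurd ⟨x, hx, f, hb, hN, h5, h6⟩ hU
    obtain ⟨b, hx, hb7, hb, ho, h3, hcop⟩ := allT z hz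
    have e : CountData.E D = sat ((B z : Set G) \ D.Z) := by
      refine Set.Subset.antisymm (fun x hx' => ?_) (cls_sub D hz)
      by_contra hnx
      obtain ⟨c, hw, hc7, -⟩ := allT x hx'
      exact twoT z x hz hx' hnx ⟨b, hx, hb7⟩ ⟨c, hw, hc7⟩
    rw [← e] at hx
    exact arith_T heq D.four hb7 hN0 ((coprime_108 D ho h3 hcop).mul_dvd_of_dvd_of_dvd hd (B_dvd hb)) hx

end Cfsg.Agent.Forms.Max.SL3.SympType
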