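import Mathlib
import Cfsg.Agent.Lib.Forms.DicksonCount
import Cfsg.Agent.Lib.Forms.DicksonAction
import Cfsg.Agent.Lib.Forms.DicksonPGL.AltFacts
import Cfsg.Agent.Lib.Forms.DicksonDihedral

/-!
# Finite subgroups of `GL₂(p)` of order prime to `p`, modulo scalars

Such a group is projectively dihedral or all its projective orders are small; in the latter case traces of
elements of determinant one take few values.
-/

set_option autoImplicit false
set_option linter.unusedSectionVars false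

namespace Cfsg.Agent.Forms.Max.SL3.SympType

open Matrix
open scoped MatrixGroups

/-- cyclic or dihedral behaviour -/
def DihShape (P : Type*) [Group P] : Prop :=
  (∀ x y : P, x * x ≠ 1 → y * y ≠ 1 → Commute x y) ∧
    ∀ a b : P, a * a = 1 → b * b = 1 → a ≠ 1 → b ≠ 1 → Commute a b → a * b ≠ 1 →
      (∀ g, Commute g a) ∨ (∀ g, Commute g b) ∨ ∀ g, Commute g (a * b)

/-- an element of order three and an involution -/
def HasTwoThree (P : Type*) [Group P] : Prop :=
  (∃ a : P, a ≠ 1 ∧ a ^ 3 = 1) ∧ ∃ b : P, b ≠ 1 ∧ b ^ 2 = 1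

theorem dihShape_dihedral (n : ℕ) : DihShape (DihedralGroup n) := by
  constructor
  · intro x y hx hy
    cases x with
    | sr i => exact absurd (by simp) hx
    | r i => cases y with
      | sr j => exact absurd (by simp) hy
      | r j => show _ = _; simp [add_comm]
  · have key : ∀ i : ZMod n, (DihedralGroup.r i) * DihedralGroup.r i = 1 →
        ∀ g, Commute g (DihedralGroup.r i) := by
      intro i hi g
      rw [DihedralGroup.r_mul_r, DihedralGroup.one_def, DihedralGroup.r.injEq] at hi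
      have hn : -i = i := neg_eq_of_add_eq_zero_left hi
      cases g with
      | r j => show _ = _; simp [add_comm]
      | sr j => show _ = _; simp [sub_eq_add_neg, hn]
    intro a b ha hb _ _ hc _
    cases a with
    | r i => exact Or.inl (key i ha)
    | sr i => cases b with
      | r j => exact Or.inr (Or.inl (key j hb))
      | sr j =>
        refine Or.inr (Or.inr ?_)
        have hab : (DihedralGroup.sr i * DihedralGroup.sr j) * (DihedralGroup.sr i * DihedralGroup.sr j) =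
            (1 : DihedralGroup n) := by
          rw [mul_assoc, ← mul_assoc (DihedralGroup.sr j), ← hc.eq, mul_assoc, hb, mul_one, ha]
        rw [DihedralGroup.sr_mul_sr] at hab ⊢
        exact key _ hab

theorem dihShape_comm (P : Type*) [Group P] (h : ∀ x y : P, Commute x y) : DihShape P :=
  ⟨fun x y _ _ => h x y, fun a _ _ _ _ _ _ _ => Or.inl fun g => h g a⟩

theorem DihShape.of_equiv {P Q : Type*} [Group P] [Group Q] (e : P ≃* Q) (h : DihShape Q) : DihShape P := by
  have hne : ∀ x : P, x ≠ 1 → e x ≠ 1 := fun x hx he => hx (e.injective (he.trans e.map_one.symm))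
  have hcm : ∀ x y : P, Commute (e x) (e y) → Commute x y := fun x y hxy =>
    e.injective (by rw [map_mul, map_mul]; exact hxy)
  refine ⟨fun x y hx hy => hcm x y (h.1 _ _ ?_ ?_), fun a b ha hb ha1 hb1 hab hab1 => ?_⟩
  · rw [← map_mul]; exact hne _ hx
  · rw [← map_mul]; exact hne _ hy
  rcases h.2 (e a) (e b) (by rw [← map_mul, ha, map_one]) (by rw [← map_mul, hb, map_one]) (hne a ha1) (hne b hb1)
      (hab.map e) (by rw [← map_mul]; exact hne _ hab1) with h | h | h
  · exact Or.inl fun g => hcm g a (h _)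
  · exact Or.inr (Or.inl fun g => hcm g b (h _))
  · exact Or.inr (Or.inr fun g => hcm g _ (by rw [map_mul]; exact h _))

theorem HasTwoThree.of_equiv {P Q : Type*} [Group P] [Group Q] (e : P ≃* Q) (h : HasTwoThree Q) : HasTwoThree P := by
  obtain ⟨⟨a, ha, ha'⟩, b, hb, hb'⟩ := h
  exact ⟨⟨e.symm a, by simpa using ha, by rw [← map_pow, ha', map_one]⟩,
    e.symm b, by simpa using hb, by rw [← map_pow, hb', map_one]⟩

theorem shape_of_coprime {P : Type} [Group P] (h : DicksonCount.Coprime' P) :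
    DihShape P ∨ ((∀ z : P, z ^ 3 = 1 ∨ z ^ 4 = 1) ∧ HasTwoThree P) ∨
      ((∀ z : P, z ^ 2 = 1 ∨ z ^ 3 = 1 ∨ z ^ 5 = 1) ∧ HasTwoThree P) := by
  rcases h with h | ⟨c, -, ⟨e⟩⟩ | ⟨⟨e⟩⟩ | ⟨⟨e⟩⟩ | ⟨⟨e⟩⟩
  · exact Or.inl (dihShape_comm P fun x y => IsMulCommutative.is_comm.comm x y)
  · exact Or.inl ((dihShape_dihedral _).of_equiv e)
  all_goals
    have back : ∀ (z : P) (n : ℕ), e z ^ n = 1 → z ^ n = 1 := fun z n hn =>
      e.injective (by rw [map_pow, hn, map_one])
  · refine Or.inr (Or.inl ⟨fun z => ?_, HasTwoThree.of_equiv e ⟨by decide, by decide⟩⟩)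
    rcases DicksonDihedral.alt4_inv (e z) with h | h
    · exact Or.inr (back z (2 * 2) (by rw [pow_mul, h, one_pow]))
    · exact Or.inl (back z 3 h)
  · refine Or.inr (Or.inl ⟨fun z => ?_, HasTwoThree.of_equiv e ⟨by decide, by decide⟩⟩)
    rcases DicksonDihedral.sym4_exp (e z) with h | h | h
    · exact Or.inr (back z (2 * 2) (by rw [pow_mul, h, one_pow]))
    · exact Or.inl (back z 3 h)
    · exact Or.inr (back z 4 h)
  · refine Or.inr (Or.inr ⟨fun z => ?_, HasTwoThree.of_equiv e ⟨by decide +kernel, by decide +kernel⟩⟩)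
    rcases DicksonDihedral.alt5_exp (e z) with h | h | h
    · exact Or.inl (back z 2 h)
    · exact Or.inr (Or.inl (back z 3 h))
    · exact Or.inr (Or.inr (back z 5 h))

variable {F : Type*} [Field F] [Fintype F]

local notation "M2" => Matrix (Fin 2) (Fin 2) F
local notation "GL2" => GL (Fin 2) F

/-- the matrix is scalar -/
def Scal (N : Matrix (Fin 2) (Fin 2) F) : Prop := ∃ c : F, N = c • 1

/-- the elements commute up to a scalar -/
def PC (g h : GL (Fin 2) F) : Prop :=
  ∃ c : F, (g : Matrix (Fin 2) (Fin 2) F) * (h : Matrix (Fin 2) (Fin 2) F) =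
    c • ((h : Matrix (Fin 2) (Fin 2) F) * (g : Matrix (Fin 2) (Fin 2) F))

theorem scal_comm_iff {g h : GL2} : Scal ((g * h * (h * g)⁻¹ : GL2) : M2) ↔ PC g h := by
  constructor
  · rintro ⟨c, hc⟩
    refine ⟨c, ?_⟩
    have h1 : g * h = (g * h * (h * g)⁻¹) * (h * g) := by group
    rw [← Units.val_mul, h1, Units.val_mul, hc, Units.val_mul, Matrix.smul_mul, one_mul]
  · rintro ⟨c, hc⟩
    refine ⟨c, ?_⟩
    rw [Units.val_mul, Units.val_mul, hc, Matrix.smul_mul, ← Units.val_mul h g, ← Units.val_mul,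
      mul_inv_cancel, Units.val_one]

/-- the projective special linear group over the quadratic extension receives the group modulo scalars -/
theorem exists_proj (p : ℕ) [Fact p.Prime] (hc : Fintype.card F = p) (hp2 : p ≠ 2) :
    ∃ ψ : GL2 →* Matrix.ProjectiveSpecialLinearGroup (Fin 2) (GaloisField p 2),
      ∀ g, ψ g = 1 ↔ Scal (g : M2) := by
  classical
  haveI : CharP F p := charP_of_card_eq_prime (by rw [hc])
  let E := GaloisField p 2
  haveI : Fintype E := Fintype.ofFinite E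
  have hE : Fintype.card E = p ^ 2 := by rw [← Nat.card_eq_fintype_card, GaloisField.card p 2 two_ne_zero]
  let φ : F →+* E := (ZMod.castHom (dvd_refl p) E).comp (ZMod.ringEquiv F hc).symm.toRingHom
  have hE2 : ringChar E ≠ 2 := by rw [ringChar.eq E p]; exact hp2
  have hsq : ∀ d : F, ∃ s : E, s * s = φ d := by
    intro d
    rcases eq_or_ne d 0 with rfl | hd
    · exact ⟨0, by simp⟩
    have hφ : φ d ≠ 0 := (map_ne_zero φ).2 hd
    obtain ⟨s, hs⟩ : IsSquare (φ d) := by
      rw [FiniteField.isSquare_iff hE2 hφ, hE, ← map_pow, ← map_one φ]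
      congr 1
      obtain ⟨k, hk⟩ := (Fact.out : p.Prime).odd_of_ne_two hp2
      have h1 : d ^ (p - 1) = 1 := by rw [← hc]; exact FiniteField.pow_card_sub_one_eq_one d hd
      have h2 : p ^ 2 / 2 = (p - 1) * (k + 1) := by
        subst hk
        rw [Nat.add_sub_cancel, show (2 * k + 1) ^ 2 = 1 + 2 * (2 * k * (k + 1)) by ring]
        omega
      rw [h2, pow_mul, h1, one_pow]
    exact ⟨s, hs.symm⟩
  choose sq hsq using hsq
  let s : GL2 → E := fun g => sq (g : M2).det
  have hs : ∀ g, s g * s g = φ (g : M2).det := fun g => hsq _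
  have hs0 : ∀ g, s g ≠ 0 := by
    intro g e
    have := hs g
    rw [e, mul_zero] at this
    exact Matrix.GeneralLinearGroup.det_ne_zero g ((map_eq_zero φ).1 this.symm)
  let mp : GL2 → SL(2, E) := fun g => ⟨(s g)⁻¹ • (g : M2).map φ, by
    rw [Matrix.det_smul, Fintype.card_fin,
      show ((g : M2).map φ) = φ.mapMatrix (g : M2) from rfl, ← RingHom.map_det, ← hs g, pow_two, mul_mul_mul_comm,
      inv_mul_cancel₀ (hs0 g), one_mul]⟩
  have hmul : ∀ g h : GL2, KleinPSL.pi E (mp (g * h)) = KleinPSL.pi E (mp g) * KleinPSL.pi E (mp h) := by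
    intro g h
    rw [← map_mul]
    apply KleinPSL.pi_eq_iff.2
    have h1 : s (g * h) * s (g * h) = (s g * s h) * (s g * s h) := by
      rw [hs, mul_mul_mul_comm, hs, hs, Units.val_mul, Matrix.det_mul, map_mul]
    have hm : ((g * h : GL2) : M2).map φ = (g : M2).map φ * (h : M2).map φ := by
      rw [Units.val_mul, Matrix.map_mul]
    rcases mul_self_eq_mul_self_iff.1 h1 with e | e
    · left
      refine Subtype.ext ?_
      show (s (g * h))⁻¹ • ((g * h : GL2) : M2).map φ = ((s g)⁻¹ • (g : M2).map φ) * ((s h)⁻¹ • (h : M2).map φ)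
      rw [hm, e, Matrix.smul_mul, Matrix.mul_smul, smul_smul, mul_inv]
    · right
      refine Subtype.ext ?_
      rw [Matrix.SpecialLinearGroup.coe_neg, Matrix.SpecialLinearGroup.coe_mul]
      show (s (g * h))⁻¹ • ((g * h : GL2) : M2).map φ = -(((s g)⁻¹ • (g : M2).map φ) * ((s h)⁻¹ • (h : M2).map φ))
      rw [hm, e, Matrix.smul_mul, Matrix.mul_smul, smul_smul, inv_neg, neg_smul, mul_inv]
  refine ⟨MonoidHom.mk' (fun g => KleinPSL.pi E (mp g)) hmul, fun g => ?_⟩
  show KleinPSL.pi E (mp g) = 1 ↔ _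
  rw [KleinPSL.pi_eq_one]
  constructor
  · intro h
    obtain ⟨e, he⟩ : ∃ e : E, (g : M2).map φ = e • 1 := by
      rcases h with h | h
      · refine ⟨s g, ?_⟩
        have := congrArg (fun M : SL(2, E) => s g • (M : Matrix (Fin 2) (Fin 2) E)) h
        simpa [mp, smul_smul, mul_inv_cancel₀ (hs0 g)] using this
      · refine ⟨-s g, ?_⟩
        have := congrArg (fun M : SL(2, E) => s g • (M : Matrix (Fin 2) (Fin 2) E)) h
        simpa [mp, smul_smul, mul_inv_cancel₀ (hs0 g)] using this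
    refine ⟨(g : M2) 0 0, ?_⟩
    have e00 := congrFun (congrFun he 0) 0
    have e01 := congrFun (congrFun he 0) 1
    have e10 := congrFun (congrFun he 1) 0
    have e11 := congrFun (congrFun he 1) 1
    simp only [Matrix.map_apply, Matrix.smul_apply, smul_eq_mul, Matrix.one_apply_eq,
      Matrix.one_apply_ne (zero_ne_one : (0 : Fin 2) ≠ 1), Matrix.one_apply_ne (one_ne_zero : (1 : Fin 2) ≠ 0),
      mul_zero, mul_one] at e00 e01 e10 e11
    have i01 := (map_eq_zero φ).1 e01
    have i10 := (map_eq_zero φ).1 e10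
    have i11 := φ.injective (e11.trans e00.symm)
    ext i j
    fin_cases i <;> fin_cases j <;> simp [i01, i10, i11]
  · rintro ⟨c, hgc⟩
    have h1 : s g * s g = φ c * φ c := by
      rw [hs, hgc, Matrix.det_smul, Fintype.card_fin, Matrix.det_one, mul_one, map_pow, pow_two]
    have hm : (g : M2).map φ = φ c • 1 := by
      rw [hgc]
      ext i j
      simp [Matrix.one_apply, apply_ite φ]
    rcases mul_self_eq_mul_self_iff.1 h1 with e | e
    · left
      refine Subtype.ext ?_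
      show (s g)⁻¹ • (g : M2).map φ = _
      rw [hm, ← e, smul_smul, inv_mul_cancel₀ (hs0 g), one_smul, Matrix.SpecialLinearGroup.coe_one]
    · right
      refine Subtype.ext ?_
      show (s g)⁻¹ • (g : M2).map φ = _
      rw [hm, show φ c = -s g by rw [e, neg_neg], smul_smul, mul_neg, inv_mul_cancel₀ (hs0 g), neg_smul, one_smul,
        Matrix.SpecialLinearGroup.coe_neg, Matrix.SpecialLinearGroup.coe_one]

/-- elements of small projective order -/
def SmallThree (G : Subgroup GL2) : Prop :=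
  (∀ z ∈ G, Scal ((z ^ 3 : GL2) : M2) ∨ Scal ((z ^ 4 : GL2) : M2))

/-- elements of small projective order, icosahedral case -/
def SmallFive (G : Subgroup GL2) : Prop :=
  (∀ z ∈ G, Scal ((z ^ 2 : GL2) : M2) ∨ Scal ((z ^ 3 : GL2) : M2) ∨ Scal ((z ^ 5 : GL2) : M2))

/-- projectively dihedral or cyclic -/
def Dihedralish (G : Subgroup GL2) : Prop :=
  (∀ x ∈ G, ∀ y ∈ G, ¬ Scal ((x * x : GL2) : M2) → ¬ Scal ((y * y : GL2) : M2) → PC x y) ∧
    ∀ a ∈ G, ∀ b ∈ G, Scal ((a * a : GL2) : M2) → Scal ((b * b : GL2) : M2) → ¬ Scal (a : M2) → ¬ Scal (b : M2) →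
      PC a b → ¬ Scal ((a * b : GL2) : M2) →
      (∀ g ∈ G, PC g a) ∨ (∀ g ∈ G, PC g b) ∨ ∀ g ∈ G, PC g (a * b)

/-- projective elements of order three and two -/
def TwoThree (G : Subgroup GL2) : Prop :=
  (∃ z ∈ G, ¬ Scal (z : M2) ∧ Scal ((z ^ 3 : GL2) : M2)) ∧ ∃ z ∈ G, ¬ Scal (z : M2) ∧ Scal ((z ^ 2 : GL2) : M2)

/-- Dickson's list for a group of order prime to the characteristic -/
theorem shapes (p : ℕ) [Fact p.Prime] (hc : Fintype.card F = p) (hp2 : p ≠ 2) (G : Subgroup GL2)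
    (hG : ∀ g ∈ G, g ^ p = 1 → g = 1) :
    Dihedralish G ∨ (SmallThree G ∧ TwoThree G) ∨ (SmallFive G ∧ TwoThree G) := by
  classical
  obtain ⟨ψ, hψ⟩ := exists_proj (F := F) p hc hp2
  haveI : Fintype (GaloisField p 2) := Fintype.ofFinite _
  set P := G.map ψ with hP
  have hT := (DicksonAction.twoPt (F := GaloisField p 2) p).subgroup P
  have hN : ∀ x : P, orderOf x ≠ p := by
    rintro ⟨x, g, hg, rfl⟩ ho
    rw [← Subgroup.orderOf_coe] at ho
    dsimp only at ho
    obtain ⟨c, hgc⟩ := (hψ (g ^ p)).1 (by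
      rw [map_pow]; exact orderOf_dvd_iff_pow_eq_one.1 (dvd_of_eq ho))
    have hc0 : c ≠ 0 := by
      intro e
      have := Matrix.GeneralLinearGroup.det_ne_zero (g ^ p)
      rw [hgc, e, zero_smul] at this
      simp at this
    have h1 : (g ^ (p - 1)) ^ p = 1 := by
      refine Units.ext ?_
      rw [← pow_mul, mul_comm, pow_mul, Units.val_pow_eq_pow_val, hgc, smul_pow, one_pow, Units.val_one]
      rw [show p - 1 = Fintype.card F - 1 by rw [hc], FiniteField.pow_card_sub_one_eq_one c hc0, one_smul]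
    have h2 : ψ g ^ (p - 1) = 1 := by rw [← map_pow, hG _ (pow_mem hg _) h1, map_one]
    have h3 := orderOf_dvd_of_pow_eq_one h2
    rw [ho] at h3
    have hp := (Fact.out : p.Prime).two_le
    exact absurd (Nat.le_of_dvd (by omega) h3) (by omega)
  have key : ∀ g, ∀ hg : g ∈ G, ∀ n : ℕ, (⟨ψ g, g, hg, rfl⟩ : P) ^ n = 1 ↔ Scal ((g ^ n : GL2) : M2) := by
    intro g hg n
    rw [← hψ, map_pow]
    exact ⟨fun h => by simpa using congrArg Subtype.val h, fun h => Subtype.ext (by simpa using h)⟩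
  have key2 : ∀ g h, ∀ hg : g ∈ G, ∀ hh : h ∈ G,
      Commute (⟨ψ g, g, hg, rfl⟩ : P) ⟨ψ h, h, hh, rfl⟩ ↔ PC g h := by
    intro g h hg hh
    rw [← scal_comm_iff, ← hψ, map_mul, map_inv, mul_inv_eq_one, map_mul, map_mul]
    exact ⟨fun e => congrArg Subtype.val e, fun e => Subtype.ext e⟩
  have key1 : ∀ g, ∀ hg : g ∈ G, (⟨ψ g, g, hg, rfl⟩ : P) = 1 ↔ Scal (g : M2) := fun g hg => by
    have := key g hg 1
    rwa [pow_one, pow_one] at this
  have key3 : ∀ g h, ∀ hg : g ∈ G, ∀ hh : h ∈ G,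
      (⟨ψ g, g, hg, rfl⟩ : P) * ⟨ψ h, h, hh, rfl⟩ = ⟨ψ (g * h), g * h, mul_mem hg hh, rfl⟩ := fun g h hg hh =>
    Subtype.ext (map_mul ψ g h).symm
  have two : HasTwoThree P → TwoThree G := by
    rintro ⟨⟨⟨-, g, hg, rfl⟩, ha, ha'⟩, ⟨-, h, hh, rfl⟩, hb, hb'⟩
    exact ⟨⟨g, hg, fun e => ha ((key1 g hg).2 e), (key g hg 3).1 ha'⟩,
      h, hh, fun e => hb ((key1 h hh).2 e), (key h hh 2).1 hb'⟩
  rcases shape_of_coprime (DicksonCount.classify_coprime hT hN) with h | ⟨h, h'⟩ | ⟨h, h'⟩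
  · refine Or.inl ⟨fun x hx y hy hx2 hy2 => (key2 x y hx hy).1 (h.1 _ _ ?_ ?_), ?_⟩
    · rw [key3 x x hx hx]; exact fun e => hx2 ((key1 _ (mul_mem hx hx)).1 e)
    · rw [key3 y y hy hy]; exact fun e => hy2 ((key1 _ (mul_mem hy hy)).1 e)
    intro a ha b hb ha2 hb2 ha1 hb1 hab hab1
    rcases h.2 ⟨ψ a, a, ha, rfl⟩ ⟨ψ b, b, hb, rfl⟩ (by rw [key3 a a ha ha]; exact (key1 _ (mul_mem ha ha)).2 ha2)
        (by rw [key3 b b hb hb]; exact (key1 _ (mul_mem hb hb)).2 hb2) (fun e => ha1 ((key1 _ ha).1 e))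
        (fun e => hb1 ((key1 _ hb).1 e)) ((key2 a b ha hb).2 hab)
        (by rw [key3 a b ha hb]; exact fun e => hab1 ((key1 _ (mul_mem ha hb)).1 e)) with h | h | h
    · exact Or.inl fun g hg => (key2 g a hg ha).1 (h _)
    · exact Or.inr (Or.inl fun g hg => (key2 g b hg hb).1 (h _))
    · refine Or.inr (Or.inr fun g hg => (key2 g (a * b) hg (mul_mem ha hb)).1 ?_)
      rw [← key3 a b ha hb]; exact h _
  · exact Or.inr (Or.inl ⟨fun z hz => (h ⟨ψ z, z, hz, rfl⟩).imp (key z hz 3).1 (key z hz 4).1, two h'⟩)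
  · exact Or.inr (Or.inr ⟨fun z hz => (h ⟨ψ z, z, hz, rfl⟩).imp (key z hz 2).1
      (Or.imp (key z hz 3).1 (key z hz 5).1), two h'⟩)

/-- trace values in the octahedral case -/
def Val4 (t : F) : Prop := t = 0 ∨ t * t = 1 ∨ t * t = 2

/-- trace values in the icosahedral case -/
def Val5 (t : F) : Prop := t = 0 ∨ t * t = 1 ∨ t ^ 4 - 3 * t ^ 2 + 1 = 0

theorem sq_trace (N : M2) : N * N = N.trace • N - N.det • 1 := by
  ext i j
  fin_cases i <;> fin_cases j <;>
    simp [Matrix.mul_apply, Fin.sum_univ_two, Matrix.trace_fin_two, Matrix.det_fin_two] <;> ring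

/-- Traces of matrices of determinant one and small projective order. -/
theorem val_of {g : GL2} {N : M2} {d : F} (hd : d ≠ 0) (hg : (g : M2) = d • N) (hdet : N.det = 1)
    (hN : ¬ Scal N) :
    ((Scal ((g ^ 3 : GL2) : M2) ∨ Scal ((g ^ 4 : GL2) : M2)) → Val4 N.trace) ∧
      ((Scal ((g ^ 2 : GL2) : M2) ∨ Scal ((g ^ 3 : GL2) : M2) ∨ Scal ((g ^ 5 : GL2) : M2)) → Val5 N.trace) := by
  set t := N.trace with ht
  have h2 : N * N = t • N - 1 := by rw [sq_trace, hdet, one_smul]
  have h3 : N * N * N = (t * t - 1) • N - t • 1 := by rw [h2, sub_mul, smul_mul_assoc, h2, one_mul]; module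
  have h4 : N * N * N * N = (t ^ 3 - 2 * t) • N - (t * t - 1) • 1 := by
    rw [h3, sub_mul, smul_mul_assoc, smul_mul_assoc, h2, one_mul]; module
  have h5 : N * N * N * N * N = (t ^ 4 - 3 * t ^ 2 + 1) • N - (t ^ 3 - 2 * t) • 1 := by
    rw [h4, sub_mul, smul_mul_assoc, smul_mul_assoc, h2, one_mul]; module
  have key : ∀ (n : ℕ) (c e : F), Scal ((g ^ n : GL2) : M2) → N ^ n = c • N - e • 1 → c = 0 := by
    intro n c e ⟨s, hs⟩ hn
    by_contra hc
    rw [Units.val_pow_eq_pow_val, hg, smul_pow, hn] at hs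
    have hdn : d ^ n ≠ 0 := pow_ne_zero _ hd
    refine hN ⟨c⁻¹ * ((d ^ n)⁻¹ * s + e), ?_⟩
    have h' : c • N - e • (1 : M2) = ((d ^ n)⁻¹ * s) • 1 := by
      rw [mul_smul, ← hs, inv_smul_smul₀ hdn]
    rw [sub_eq_iff_eq_add, ← add_smul] at h'
    rw [mul_smul, ← h', inv_smul_smul₀ hc]
  have k3 : Scal ((g ^ 3 : GL2) : M2) → t * t = 1 := fun h =>
    sub_eq_zero.1 (key 3 _ t h (by rw [pow_succ, pow_two, h3]))
  constructor
  · rintro (h | h)
    · exact Or.inr (Or.inl (k3 h))
    · have := key 4 _ (t * t - 1) h (by rw [pow_succ, pow_succ, pow_two, h4])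
      rcases mul_eq_zero.1 (show t * (t * t - 2) = 0 by linear_combination this) with e | e
      · exact Or.inl e
      · exact Or.inr (Or.inr (sub_eq_zero.1 e))
  · rintro (h | h | h)
    · exact Or.inl (key 2 t 1 h (by rw [pow_two, h2, one_smul]))
    · exact Or.inr (Or.inl (k3 h))
    · exact Or.inr (Or.inr (key 5 _ (t ^ 3 - 2 * t) h (by rw [pow_succ, pow_succ, pow_succ, pow_two, h5])))

/-- In an odd order group of this kind all elements commute. -/
theorem commute_of_odd (p : ℕ) [Fact p.Prime] (hc : Fintype.card F = p) (hp2 : p ≠ 2) (G : Subgroup GL2)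
    (hG : ∀ g ∈ G, g ^ p = 1 → g = 1) (hodd : ∀ g ∈ G, Odd (orderOf g)) {x y : GL2} (hx : x ∈ G) (hy : y ∈ G) :
    x * y = y * x := by
  haveI : CharP F p := charP_of_card_eq_prime (by rw [hc])
  have half : ∀ z ∈ G, ∀ k : ℕ, Scal ((z ^ (2 * k) : GL2) : M2) → Scal ((z ^ k : GL2) : M2) := by
    intro z hz k ⟨s, hs⟩
    obtain ⟨j, hj⟩ := hodd _ (pow_mem hz k)
    refine ⟨s ^ (j + 1), ?_⟩
    have e : ((z ^ k) ^ 2) ^ (j + 1) = z ^ k := by
      rw [← pow_mul, show 2 * (j + 1) = 2 * j + 1 + 1 by ring, pow_succ, ← hj, pow_orderOf_eq_one, one_mul]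
    rw [← e, ← pow_mul z, mul_comm k 2, Units.val_pow_eq_pow_val, hs, smul_pow, one_pow]
  have hdih : Dihedralish G := by
    rcases shapes p hc hp2 G hG with h | ⟨-, -, z, hz, hz1, hz2⟩ | ⟨-, -, z, hz, hz1, hz2⟩
    · exact h
    all_goals exact absurd (by simpa using half z hz 1 (by simpa using hz2)) hz1
  obtain ⟨c, hxy⟩ : PC x y := by
    by_cases hx1 : Scal ((x * x : GL2) : M2)
    · obtain ⟨s, hs⟩ := half x hx 1 (by rwa [mul_one, pow_two])
      rw [pow_one] at hs
      exact ⟨1, by rw [one_smul, hs, Matrix.smul_mul, Matrix.mul_smul, one_mul, mul_one]⟩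
    by_cases hy1 : Scal ((y * y : GL2) : M2)
    · obtain ⟨s, hs⟩ := half y hy 1 (by rwa [mul_one, pow_two])
      rw [pow_one] at hs
      exact ⟨1, by rw [one_smul, hs, Matrix.smul_mul, Matrix.mul_smul, one_mul, mul_one]⟩
    exact hdih.1 x hx y hy hx1 hy1
  set w := x * y * (y * x)⁻¹ with hw
  have hwc : (w : M2) = c • 1 := by
    rw [hw, Units.val_mul, Units.val_mul, hxy, Matrix.smul_mul, ← Units.val_mul y x, ← Units.val_mul,
      mul_inv_cancel, Units.val_one]
  have hdet : c * c = 1 := by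
    have h1 : (w : M2).det = 1 := by
      rw [← Matrix.GeneralLinearGroup.val_det_apply, hw, map_mul, map_inv, map_mul, map_mul, mul_comm
        (Matrix.GeneralLinearGroup.det x), mul_inv_cancel, Units.val_one]
    rwa [hwc, Matrix.det_smul, Fintype.card_fin, Matrix.det_one, mul_one, sq] at h1
  have hwG : w ∈ G := mul_mem (mul_mem hx hy) (inv_mem (mul_mem hy hx))
  have hw2 : w ^ 2 = 1 := Units.ext (by
    rw [Units.val_pow_eq_pow_val, hwc, smul_pow, one_pow, sq, hdet, one_smul, Units.val_one])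
  rcases (Nat.dvd_prime Nat.prime_two).1 (orderOf_dvd_of_pow_eq_one hw2) with h | h
  · rwa [orderOf_eq_one_iff, hw, mul_inv_eq_one] at h
  · exact absurd (hodd w hwG) (by rw [h]; decide)

end Cfsg.Agent.Forms.Max.SL3.SympType
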