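import Mathlib
import Cfsg.Agent.Lib.Forms.Max.SL3.SympType.Proj
import Cfsg.Agent.Lib.Forms.Max.SL3.Singer.Basic

/-!
# Two homologies in a group without transvections

Two homologies with the same ratio fix the common point of their axes and the line of their centres.  On that
line they give a finite group of order prime to the characteristic, so the ratio and two traces take few values.
-/

set_option autoImplicit false
set_option linter.unusedSectionVars false

namespace Cfsg.Agent.Forms.Max.SL3.SympType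

open Matrix Cfsg.Agent.Forms.Max.SL3.Singer

variable {F : Type*} [Field F] [Fintype F] {H : Subgroup (GL (Fin 3) F)}

local notation "M3" => Matrix (Fin 3) (Fin 3) F
local notation "GL3" => GL (Fin 3) F
local notation "M2" => Matrix (Fin 2) (Fin 2) F
local notation "GL2" => GL (Fin 2) F
local notation "Vec" => (Fin 3 → F)

/-- the matrix belongs to the group -/
def Mem (H : Subgroup (GL (Fin 3) F)) (M : Matrix (Fin 3) (Fin 3) F) : Prop :=
  ∃ g ∈ H, (g : Matrix (Fin 3) (Fin 3) F) = M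

theorem Mem.mul {M N : M3} (h : Mem H M) (h' : Mem H N) : Mem H (M * N) := by
  obtain ⟨g, hg, rfl⟩ := h
  obtain ⟨g', hg', rfl⟩ := h'
  exact ⟨g * g', mul_mem hg hg', Units.val_mul g g'⟩

theorem mem_one : Mem H (1 : M3) := ⟨1, one_mem H, Units.val_one⟩

theorem Mem.pow {M : M3} (h : Mem H M) (n : ℕ) : Mem H (M ^ n) := by
  obtain ⟨g, hg, rfl⟩ := h
  exact ⟨g ^ n, pow_mem hg n, Units.val_pow_eq_pow_val g n⟩

theorem Mem.inv_of {M N : M3} (h : Mem H M) (hMN : M * N = 1) : Mem H N := by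
  obtain ⟨g, hg, rfl⟩ := h
  refine ⟨g⁻¹, inv_mem hg, ?_⟩
  calc ((g⁻¹ : GL3) : M3) = ((g⁻¹ : GL3) : M3) * ((g : M3) * N) := by rw [hMN, mul_one]
    _ = N := by rw [← mul_assoc, ← Units.val_mul, inv_mul_cancel, Units.val_one, one_mul]

/-- no transvections -/
def NoTr (H : Subgroup (GL (Fin 3) F)) : Prop := ∀ u φ : Fin 3 → F, u ≠ 0 → φ ≠ 0 → ¬ Tr H u φ

theorem NoTr.eq_zero (hH : NoTr H) {u φ : Vec} (h : Mem H (1 + vecMulVec u φ)) (h0 : φ ⬝ᵥ u = 0) :
    u = 0 ∨ φ = 0 := by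
  by_contra hc
  push Not at hc
  obtain ⟨g, hg, e⟩ := h
  exact hH u φ hc.1 hc.2 ⟨h0, g, hg, fun x => by
    rw [e, Matrix.add_mulVec, Matrix.one_mulVec, Matrix.vecMulVec_mulVec, op_smul_eq_smul]⟩

/-- block matrices -/
def blk (a : F) (g : Matrix (Fin 2) (Fin 2) F) : Matrix (Fin 3) (Fin 3) F :=
  !![a, 0, 0; 0, g 0 0, g 0 1; 0, g 1 0, g 1 1]

theorem blk_mul (a b : F) (g h : M2) : blk a g * blk b h = blk (a * b) (g * h) := by
  ext i j
  fin_cases i <;> fin_cases j <;> simp [blk, Matrix.mul_apply, Fin.sum_univ_three, Fin.sum_univ_two]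

theorem blk_one : blk (1 : F) (1 : M2) = 1 := by
  ext i j
  fin_cases i <;> fin_cases j <;> simp [blk]

theorem det_blk (a : F) (g : M2) : (blk a g).det = a * g.det := by
  rw [Matrix.det_fin_three, Matrix.det_fin_two]
  simp [blk]
  ring

theorem blk_pow (a : F) (g : M2) (n : ℕ) : blk a g ^ n = blk (a ^ n) (g ^ n) := by
  induction n with
  | zero => simp [blk_one]
  | succ n ih => rw [pow_succ, ih, blk_mul, pow_succ, pow_succ]

/-- the action on a plane of the stabiliser of the plane and of a point, in the frame `B` -/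
def planeGroup (H : Subgroup (GL (Fin 3) F)) (B : Matrix (Fin 3) (Fin 3) F) : Subgroup (GL (Fin 2) F) where
  carrier := {g | ∃ a : F, a ≠ 0 ∧ ∃ h ∈ H, (h : M3) * B = B * blk a (g : M2)}
  one_mem' := ⟨1, one_ne_zero, 1, one_mem H, by rw [Units.val_one, Units.val_one, blk_one, one_mul, mul_one]⟩
  mul_mem' := by
    rintro g g' ⟨a, ha, h, hh, e⟩ ⟨a', ha', h', hh', e'⟩
    refine ⟨a * a', mul_ne_zero ha ha', h * h', mul_mem hh hh', ?_⟩
    rw [Units.val_mul, mul_assoc, e', ← mul_assoc, e, mul_assoc, blk_mul, Units.val_mul]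
  inv_mem' := by
    rintro g ⟨a, ha, h, hh, e⟩
    refine ⟨a⁻¹, inv_ne_zero ha, h⁻¹, inv_mem hh, ?_⟩
    calc ((h⁻¹ : GL3) : M3) * B
        = ((h⁻¹ : GL3) : M3) * (((h : M3) * B) * blk a⁻¹ ((g⁻¹ : GL2) : M2)) := by
          rw [e, mul_assoc B, blk_mul, mul_inv_cancel₀ ha, ← Units.val_mul, mul_inv_cancel, Units.val_one, blk_one,
            mul_one]
      _ = B * blk a⁻¹ ((g⁻¹ : GL2) : M2) := by
          rw [← mul_assoc, ← mul_assoc, ← Units.val_mul, inv_mul_cancel, Units.val_one, one_mul]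

theorem mem_planeGroup {B : M3} {g : GL2} : g ∈ planeGroup H B ↔
    ∃ a : F, a ≠ 0 ∧ ∃ h ∈ H, (h : M3) * B = B * blk a (g : M2) := Iff.rfl

/-- a matrix of the group in block shape gives a member of the plane group -/
theorem mem_planeGroup_of_mem {B : M3} (hB : B.det ≠ 0) {M : M3} {a : F} {g : M2} (hM : Mem H M)
    (e : M * B = B * blk a g) : ∃ g' : GL2, g' ∈ planeGroup H B ∧ (g' : M2) = g := by
  obtain ⟨h, hh, rfl⟩ := hM
  have hd : (blk a g).det ≠ 0 := by
    intro h0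
    have := congrArg Matrix.det e
    rw [Matrix.det_mul, Matrix.det_mul, h0, mul_zero] at this
    exact mul_ne_zero (Matrix.GeneralLinearGroup.det_ne_zero h) hB this
  rw [det_blk] at hd
  exact ⟨Matrix.GeneralLinearGroup.mkOfDetNeZero g (right_ne_zero_of_mul hd),
    ⟨a, left_ne_zero_of_mul hd, h, hh, e⟩, rfl⟩

/-- Without transvections the plane group has order prime to `p`. -/
theorem planeGroup_pow_eq_one (p : ℕ) [hp : Fact p.Prime] (hc : Fintype.card F = p) (hH : NoTr H) {B : M3}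
    (hB : B.det ≠ 0) : ∀ g ∈ planeGroup H B, g ^ p = 1 → g = 1 := by
  haveI : CharP F p := charP_of_card_eq_prime (by rw [hc])
  intro g₁ hg₁ hgp₁
  suffices h : ∀ g ∈ planeGroup H B, g ^ p = 1 → g ^ (p - 1) = 1 by
    have h1 := h g₁ hg₁ hgp₁
    rw [← hgp₁, ← pow_sub_mul_pow g₁ (Nat.sub_le p 1), h1, mul_one, Nat.sub_sub_self hp.out.one_le, pow_one]
  rintro g ⟨a, ha, h, hh, e⟩ hgp
  have e' : ((h ^ (p - 1) : GL3) : M3) * B = B * blk 1 (((g : M2)) ^ (p - 1)) := by
    rw [← FiniteField.pow_card_sub_one_eq_one a ha, hc, ← blk_pow, Units.val_pow_eq_pow_val]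
    exact ((SemiconjBy.pow_right (show SemiconjBy B (blk a (g : M2)) (h : M3) from e.symm) (p - 1))).eq.symm
  set N : M2 := (g : M2) ^ (p - 1) - 1 with hN
  have hNp : N ^ p = 0 := by
    rw [hN, sub_pow_char_of_commute (p := p) (Commute.one_right _), one_pow, ← pow_mul, mul_comm, pow_mul,
      ← Units.val_pow_eq_pow_val, hgp, Units.val_one, one_pow, sub_self]
  have hd : N.det = 0 := by
    have := congrArg Matrix.det hNp
    rw [Matrix.det_pow, Matrix.det_zero] at this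
    exact pow_eq_zero_iff hp.out.ne_zero |>.1 this
  have hN2 : N * N = N.trace • N := by rw [sq_trace, hd, zero_smul, sub_zero]
  have hpow : ∀ n : ℕ, N ^ (n + 1) = N.trace ^ n • N := by
    intro n
    induction n with
    | zero => simp
    | succ n ih => rw [pow_succ, ih, Matrix.smul_mul, hN2, smul_smul, pow_succ]
  have hsq : N * N = 0 := by
    obtain ⟨k, hk⟩ := Nat.exists_eq_succ_of_ne_zero hp.out.ne_zero
    rw [hk, hpow] at hNp
    rcases smul_eq_zero.1 hNp with ht | ht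
    · rw [hN2, eq_zero_of_pow_eq_zero ht, zero_smul]
    · rw [ht, mul_zero]
  obtain ⟨u, φ, hNuv⟩ : ∃ u φ : Fin 2 → F, N = vecMulVec u φ := by
    have e00 := congrFun (congrFun hsq 0) 0
    have e11 := congrFun (congrFun hsq 1) 1
    simp only [Matrix.mul_apply, Fin.sum_univ_two, Matrix.zero_apply] at e00 e11
    have h10 := congrFun (congrFun hsq 1) 0
    simp only [Matrix.mul_apply, Fin.sum_univ_two, Matrix.zero_apply] at h10
    by_cases hc0 : N 1 0 = 0
    · have a0 : N 0 0 = 0 := mul_self_eq_zero.1 (by linear_combination e00 - N 0 1 * hc0)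
      have d0 : N 1 1 = 0 := mul_self_eq_zero.1 (by linear_combination e11 - N 0 1 * hc0)
      exact ⟨![N 0 1, 0], ![0, 1], by ext i j; fin_cases i <;> fin_cases j <;> simp [Matrix.vecMulVec_apply, a0, d0, hc0]⟩
    · have hda : N 1 1 = -N 0 0 := by
        have : N 1 0 * (N 0 0 + N 1 1) = 0 := by linear_combination h10
        linear_combination (mul_eq_zero.1 this).resolve_left hc0
      refine ⟨![N 0 0, N 1 0], ![1, N 1 1 / N 1 0], ?_⟩
      ext i j
      fin_cases i <;> fin_cases j <;> simp [Matrix.vecMulVec_apply]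
      · field_simp
        linear_combination e00 - N 0 0 * hda
      · field_simp
  set u3 : Vec := B *ᵥ ![0, u 0, u 1] with hu3
  set φ3 : Vec := ![0, φ 0, φ 1] ᵥ* B⁻¹ with hφ3
  have hBu : IsUnit B.det := isUnit_iff_ne_zero.2 hB
  have hblk : blk 1 ((g : M2) ^ (p - 1)) = 1 + vecMulVec ![0, u 0, u 1] ![0, φ 0, φ 1] := by
    have : (g : M2) ^ (p - 1) = 1 + vecMulVec u φ := by rw [← hNuv, hN, add_sub_cancel]
    rw [this]
    ext i j
    fin_cases i <;> fin_cases j <;> simp [blk, Matrix.vecMulVec_apply]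
  have hM : Mem H (1 + vecMulVec u3 φ3) := by
    refine ⟨h ^ (p - 1), pow_mem hh _, ?_⟩
    calc ((h ^ (p - 1) : GL3) : M3) = ((h ^ (p - 1) : GL3) : M3) * B * B⁻¹ := by
          rw [mul_assoc, Matrix.mul_nonsing_inv _ hBu, mul_one]
      _ = 1 + vecMulVec u3 φ3 := by
          rw [e', hblk, mul_add, mul_one, add_mul, Matrix.mul_nonsing_inv _ hBu, Matrix.mul_vecMulVec,
            Matrix.vecMulVec_mul]
  have h0 : φ3 ⬝ᵥ u3 = 0 := by
    rw [hu3, hφ3, ← Matrix.dotProduct_mulVec, Matrix.mulVec_mulVec, Matrix.nonsing_inv_mul _ hBu, Matrix.one_mulVec]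
    have ht : N.trace = 0 := by
      rcases eq_or_ne N 0 with h0 | h0
      · simp [h0]
      · rw [hN2] at hsq
        exact (smul_eq_zero.1 hsq).resolve_right h0
    rw [hNuv] at ht
    simp [Matrix.trace_fin_two, Matrix.vecMulVec_apply] at ht
    simp [dotProduct, Fin.sum_univ_three]
    linear_combination ht
  refine Units.ext ?_
  rw [Units.val_pow_eq_pow_val, Units.val_one, ← sub_eq_zero, ← hN, hNuv]
  rcases hH.eq_zero hM h0 with hz | hz
  · have : (![0, u 0, u 1] : Vec) = 0 := by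
      rw [← Matrix.one_mulVec (![0, u 0, u 1] : Vec), ← Matrix.nonsing_inv_mul _ hBu, ← Matrix.mulVec_mulVec,
        ← hu3, hz, Matrix.mulVec_zero]
    ext i j
    fin_cases i
    · simp [Matrix.vecMulVec_apply, show u 0 = 0 from congrFun this 1]
    · simp [Matrix.vecMulVec_apply, show u 1 = 0 from congrFun this 2]
  · have : (![0, φ 0, φ 1] : Vec) = 0 := by
      rw [← Matrix.vecMul_one (![0, φ 0, φ 1] : Vec), ← Matrix.nonsing_inv_mul _ hBu, ← Matrix.vecMul_vecMul,
        ← hφ3, hz, Matrix.zero_vecMul]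
    ext i j
    fin_cases j
    · simp [Matrix.vecMulVec_apply, show φ 0 = 0 from congrFun this 1]
    · simp [Matrix.vecMulVec_apply, show φ 1 = 0 from congrFun this 2]

/-- a homology on the plane, centre the first vector -/
def pvm (v α : F) : Matrix (Fin 2) (Fin 2) F := !![v, (v - 1) * α; 0, 1]

/-- a homology on the plane, centre the second vector -/
def qvm (v β : F) : Matrix (Fin 2) (Fin 2) F := !![1, 0; (v - 1) * β, v]

theorem pvm_mul (v u α : F) : pvm v α * pvm u α = pvm (v * u) α := by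
  ext i j
  fin_cases i <;> fin_cases j <;> simp [pvm, Matrix.mul_apply, Fin.sum_univ_two] <;> ring

theorem qvm_mul (v u β : F) : qvm v β * qvm u β = qvm (v * u) β := by
  ext i j
  fin_cases i <;> fin_cases j <;> simp [qvm, Matrix.mul_apply, Fin.sum_univ_two] <;> ring

theorem qvm_one (β : F) : qvm 1 β = 1 := by
  ext i j
  fin_cases i <;> fin_cases j <;> simp [qvm]

theorem pvm_pow (v α : F) (n : ℕ) : pvm v α ^ n = pvm (v ^ n) α := by
  induction n with
  | zero => ext i j; fin_cases i <;> fin_cases j <;> simp [pvm]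
  | succ n ih => rw [pow_succ, ih, pvm_mul, pow_succ]

/-- the conclusion for two homologies of ratio `v` with invariant `τ` -/
def PairConcl (v τ : F) : Prop :=
  ((v ^ 3 = 1 ∨ v ^ 4 = 1) ∧ Val4 (v + v⁻¹ + (2 - (v + v⁻¹)) * τ) ∧ Val4 (2 + (v + v⁻¹ - 2) * τ)) ∨
    ((v ^ 3 = 1 ∨ v ^ 5 = 1) ∧ Val5 (v + v⁻¹ + (2 - (v + v⁻¹)) * τ) ∧ Val5 (2 + (v + v⁻¹ - 2) * τ))

theorem pair_val (p : ℕ) [Fact p.Prime] (hc : Fintype.card F = p) (hp2 : p ≠ 2) {G : Subgroup GL2}
    (hG : ∀ g ∈ G, g ^ p = 1 → g = 1) {x y : GL2} (hx : x ∈ G) (hy : y ∈ G) {c c' v α β : F} (hc0 : c ≠ 0)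
    (hc0' : c' ≠ 0) (hv : v * v ≠ 1) (hv0 : v ≠ 0) (hβ : β ≠ 0) (ex : (x : M2) = c • pvm v α)
    (ey : (y : M2) = c' • qvm v β) : PairConcl v (α * β) := by
  have hv1 : v ≠ 1 := fun e => hv (by rw [e, mul_one])
  have hx2 : ¬ Scal ((x * x : GL2) : M2) := by
    rintro ⟨s, hs⟩
    rw [Units.val_mul, ex, Matrix.smul_mul, Matrix.mul_smul, smul_smul, pvm_mul] at hs
    have h00 := congrFun (congrFun hs 0) 0
    have h11 := congrFun (congrFun hs 1) 1
    simp [pvm] at h00 h11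
    rw [← h11] at h00
    exact hv (mul_left_cancel₀ (mul_ne_zero hc0 hc0) (by rw [h00, mul_one]))
  have hy2 : ¬ Scal ((y * y : GL2) : M2) := by
    rintro ⟨s, hs⟩
    rw [Units.val_mul, ey, Matrix.smul_mul, Matrix.mul_smul, smul_smul, qvm_mul] at hs
    have h00 := congrFun (congrFun hs 0) 0
    have h11 := congrFun (congrFun hs 1) 1
    simp [qvm] at h00 h11
    rw [← h00] at h11
    exact hv (mul_left_cancel₀ (mul_ne_zero hc0' hc0') (by rw [h11, mul_one]))
  have hnc : ¬ PC x y := by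
    rintro ⟨d, hd⟩
    rw [ex, ey, Matrix.smul_mul, Matrix.mul_smul, Matrix.smul_mul, Matrix.mul_smul, smul_smul, smul_smul, smul_smul,
      show d * c' * c = c * c' * d by ring, ← smul_smul (c * c') d] at hd
    have hd' := smul_right_injective _ (mul_ne_zero hc0 hc0') hd
    have e10 := congrFun (congrFun hd' 1) 0
    have e01 := congrFun (congrFun hd' 0) 1
    have e11 := congrFun (congrFun hd' 1) 1
    simp [pvm, qvm, Matrix.mul_apply, Fin.sum_univ_two] at e10 e01 e11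
    have hb : (v - 1) * β ≠ 0 := mul_ne_zero (sub_ne_zero.2 hv1) hβ
    have h1 : d * v = 1 := mul_left_cancel₀ hb (by linear_combination -e10)
    by_cases hα : α = 0
    · subst hα
      simp at e11
      have hd1 : d = 1 := mul_right_cancel₀ hv0 (by linear_combination -e11)
      exact hv1 (by rw [hd1, one_mul] at h1; exact h1)
    · have h2 : d = v := mul_left_cancel₀ (mul_ne_zero (sub_ne_zero.2 hv1) hα) (by linear_combination -e01)
      exact hv (by rw [← h1, h2])
  -- the two elements of determinant one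
  have e1 : ((x * y⁻¹ : GL2) : M2) = (c * c'⁻¹) • (pvm v α * qvm v⁻¹ β) := by
    have hy' : ((y⁻¹ : GL2) : M2) = c'⁻¹ • qvm v⁻¹ β := by
      have : (y : M2) * (c'⁻¹ • qvm v⁻¹ β) = 1 := by
        rw [ey, Matrix.smul_mul, Matrix.mul_smul, smul_smul, qvm_mul, mul_inv_cancel₀ hc0', mul_inv_cancel₀ hv0,
          qvm_one, one_smul]
      calc ((y⁻¹ : GL2) : M2) = ((y⁻¹ : GL2) : M2) * ((y : M2) * (c'⁻¹ • qvm v⁻¹ β)) := by rw [this, mul_one]
        _ = _ := by rw [← mul_assoc, ← Units.val_mul, inv_mul_cancel, Units.val_one, one_mul]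
    rw [Units.val_mul, ex, hy', Matrix.smul_mul, Matrix.mul_smul, smul_smul]
  have e2 : ((x * y : GL2) : M2) = (c * c' * v) • (v⁻¹ • (pvm v α * qvm v β)) := by
    rw [Units.val_mul, ex, ey, Matrix.smul_mul, Matrix.mul_smul, smul_smul, smul_smul, mul_assoc (c * c'),
      mul_inv_cancel₀ hv0, mul_one]
  have d1 : (pvm v α * qvm v⁻¹ β).det = 1 := by
    rw [Matrix.det_mul, Matrix.det_fin_two, Matrix.det_fin_two]
    simp [pvm, qvm, hv0]
  have d2 : (v⁻¹ • (pvm v α * qvm v β)).det = 1 := by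
    rw [Matrix.det_smul, Fintype.card_fin, Matrix.det_mul, Matrix.det_fin_two, Matrix.det_fin_two]
    simp [pvm, qvm]
    field_simp
  have n1 : ¬ Scal (pvm v α * qvm v⁻¹ β) := by
    rintro ⟨s, hs⟩
    have := congrFun (congrFun hs 1) 0
    simp [pvm, qvm, Matrix.mul_apply, Fin.sum_univ_two, hβ, sub_eq_zero, inv_eq_one, hv1] at this
  have n2 : ¬ Scal (v⁻¹ • (pvm v α * qvm v β)) := by
    rintro ⟨s, hs⟩
    have := congrFun (congrFun hs 1) 0
    simp [pvm, qvm, Matrix.mul_apply, Fin.sum_univ_two, hβ, sub_eq_zero, hv0, hv1] at this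
  have t1 : (pvm v α * qvm v⁻¹ β).trace = v + v⁻¹ + (2 - (v + v⁻¹)) * (α * β) := by
    rw [Matrix.trace_fin_two]
    simp [pvm, qvm, Matrix.mul_apply, Fin.sum_univ_two]
    field_simp
    ring
  have t2 : (v⁻¹ • (pvm v α * qvm v β)).trace = 2 + (v + v⁻¹ - 2) * (α * β) := by
    rw [Matrix.trace_smul, Matrix.trace_fin_two]
    simp [pvm, qvm, Matrix.mul_apply, Fin.sum_univ_two]
    field_simp
    ring
  have v1 := val_of (mul_ne_zero hc0 (inv_ne_zero hc0')) e1 d1 n1
  have v2 := val_of (mul_ne_zero (mul_ne_zero hc0 hc0') hv0) e2 d2 n2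
  rw [t1] at v1
  rw [t2] at v2
  have hpow : ∀ n, Scal ((x ^ n : GL2) : M2) → v ^ n = 1 := by
    rintro n ⟨s, hs⟩
    rw [Units.val_pow_eq_pow_val, ex, smul_pow, pvm_pow] at hs
    have h00 := congrFun (congrFun hs 0) 0
    have h11 := congrFun (congrFun hs 1) 1
    simp [pvm] at h00 h11
    rw [← h11] at h00
    exact mul_left_cancel₀ (pow_ne_zero n hc0) (by rw [h00, mul_one])
  rcases shapes p hc hp2 G hG with h | ⟨h, -⟩ | ⟨h, -⟩
  · exact absurd (h.1 x hx y hy hx2 hy2) hnc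
  · exact Or.inl ⟨(h x hx).imp (hpow 3) (hpow 4), v1.1 (h _ (mul_mem hx (inv_mem hy))),
      v2.1 (h _ (mul_mem hx hy))⟩
  · refine Or.inr ⟨?_, v1.2 (h _ (mul_mem hx (inv_mem hy))), v2.2 (h _ (mul_mem hx hy))⟩
    rcases h x hx with h2 | h3 | h5
    · exact absurd (by rw [← pow_two]; exact hpow 2 h2) hv
    · exact Or.inl (hpow 3 h3)
    · exact Or.inr (hpow 5 h5)

/-- `c` times the homology with centre `P`, row `φ` and ratio `v` -/
def hom (c v : F) (P φ : Fin 3 → F) : Matrix (Fin 3) (Fin 3) F := c • (1 + (v - 1) • vecMulVec P φ)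

theorem hom_mulVec (c v : F) (P φ x : Vec) : hom c v P φ *ᵥ x = c • (x + ((v - 1) * (φ ⬝ᵥ x)) • P) := by
  rw [hom, Matrix.smul_mulVec, Matrix.add_mulVec, Matrix.one_mulVec, Matrix.smul_mulVec, Matrix.vecMulVec_mulVec,
    op_smul_eq_smul, smul_smul]

/-- **Two homologies of the same ratio in a group without transvections.** -/
theorem pair_tau (p : ℕ) [Fact p.Prime] (hc : Fintype.card F = p) (hp2 : p ≠ 2) (hH : NoTr H)
    {c c' v : F} {P φ P' φ' : Vec} (hx : Mem H (hom c v P φ)) (hy : Mem H (hom c' v P' φ')) (hc0 : c ≠ 0)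
    (hc0' : c' ≠ 0) (hv : v * v ≠ 1) (hv0 : v ≠ 0) (hP : φ ⬝ᵥ P = 1) (hP' : φ' ⬝ᵥ P' = 1)
    (h0 : (φ ⬝ᵥ P') * (φ' ⬝ᵥ P) ≠ 0) (h1 : (φ ⬝ᵥ P') * (φ' ⬝ᵥ P) ≠ 1) :
    PairConcl v ((φ ⬝ᵥ P') * (φ' ⬝ᵥ P)) := by
  set O : Vec := crossProduct φ φ' with hO
  have hO1 : φ ⬝ᵥ O = 0 := dot_self_cross φ φ'
  have hO2 : φ' ⬝ᵥ O = 0 := dot_cross_self φ φ'
  set B : M3 := Matrix.of fun i j => (![O, P, P'] : Fin 3 → Vec) j i with hBdef
  have hcol : ∀ j, B *ᵥ Pi.single j 1 = (![O, P, P'] : Fin 3 → Vec) j := fun j => by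
    funext i; simp [hBdef, Matrix.mulVec_single]
  have hB : B.det ≠ 0 := by
    have : B.det = (φ ⬝ᵥ P) * (φ' ⬝ᵥ P') - (φ ⬝ᵥ P') * (φ' ⬝ᵥ P) := by
      rw [Matrix.det_fin_three]
      simp [hBdef, hO, cross_apply, dotProduct, Fin.sum_univ_three]
      ring
    rw [this, hP, hP', one_mul, sub_ne_zero]
    exact fun e => h1 e.symm
  have col : ∀ {M : M3} {N : M3}, (∀ j, M *ᵥ (![O, P, P'] : Fin 3 → Vec) j = B *ᵥ (N *ᵥ Pi.single j 1)) →
      M * B = B * N := fun {M N} h => by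
    refine Matrix.ext_of_mulVec_single fun j => ?_
    rw [← Matrix.mulVec_mulVec, ← Matrix.mulVec_mulVec, hcol, h j]
  have exB : hom c v P φ * B = B * blk c (c • pvm v (φ ⬝ᵥ P')) := by
    refine col fun j => ?_
    rw [hom_mulVec]
    fin_cases j <;> simp [hO1, hP, blk, pvm] <;> funext i <;>
      simp [hBdef, Matrix.mulVec, Fin.sum_univ_three, dotProduct] <;> ring
  have eyB : hom c' v P' φ' * B = B * blk c' (c' • qvm v (φ' ⬝ᵥ P)) := by
    refine col fun j => ?_
    rw [hom_mulVec]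
    fin_cases j <;> simp [hO2, hP', blk, qvm] <;> funext i <;>
      simp [hBdef, Matrix.mulVec, Fin.sum_univ_three, dotProduct] <;> ring
  obtain ⟨x, hxm, hx'⟩ := mem_planeGroup_of_mem hB hx exB
  obtain ⟨y, hym, hy'⟩ := mem_planeGroup_of_mem hB hy eyB
  exact pair_val p hc hp2 (planeGroup_pow_eq_one p hc hH hB) hxm hym hc0 hc0' hv hv0
    (right_ne_zero_of_mul h0) hx' hy'

end Cfsg.Agent.Forms.Max.SL3.SympType
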