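import Mathlib
import Cfsg.Prelude.Def_GeometricClasses
import Cfsg.Agent.Lib.Forms.Max.SL3.SympType.Pairs
import Cfsg.Agent.Lib.Forms.Max.Core

/-!
# The standard extraspecial group of order 27 and its normaliser
-/

set_option autoImplicit false
set_option linter.unusedSectionVars false

namespace Cfsg.Agent.Forms.Max.SL3.SympType

open Matrix

variable {F : Type*} [Field F] [Fintype F]

local notation "M3" => Matrix (Fin 3) (Fin 3) F
local notation "M2" => Matrix (Fin 2) (Fin 2) F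
local notation "Vec" => (Fin 3 → F)

/-- a diagonal matrix -/
def dg (a b c : F) : Matrix (Fin 3) (Fin 3) F := !![a, 0, 0; 0, b, 0; 0, 0, c]

/-- the diagonal generator -/
def xM (ω : F) : Matrix (Fin 3) (Fin 3) F := dg 1 ω (ω ^ 2)

/-- the cyclic generator -/
def yM : Matrix (Fin 3) (Fin 3) F := !![0, 0, 1; 1, 0, 0; 0, 1, 0]

/-- `1/√-3` -/
def sr (ω : F) : F := (ω - ω ^ 2)⁻¹

/-- the Fourier element -/
def fM (ω : F) : Matrix (Fin 3) (Fin 3) F :=
  sr ω • !![1, 1, 1; 1, ω, ω ^ 2; 1, ω ^ 2, ω]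

/-- its conjugate by the quadratic phase -/
def qM (ω : F) : Matrix (Fin 3) (Fin 3) F :=
  sr ω • !![1, ω, ω; ω ^ 2, ω, ω ^ 2; ω ^ 2, ω ^ 2, ω]

/-- the involution inverting the extraspecial group modulo its centre -/
def tM : Matrix (Fin 3) (Fin 3) F := !![-1, 0, 0; 0, 0, -1; 0, -1, 0]

/-- the frame: centre of the involution, first vertex, and its opposite point on the axis -/
def bL : Matrix (Fin 3) (Fin 3) F := !![0, 1, 0; 1, 0, 1; -1, 0, 1]

/-- the Fourier element on the axis -/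
def fW (ω : F) : Matrix (Fin 2) (Fin 2) F := sr ω • !![1, 2; 1, -1]

/-- its conjugate on the axis -/
def qW (ω : F) : Matrix (Fin 2) (Fin 2) F := sr ω • !![1, 2 * ω; ω ^ 2, -1]

/-- the matrices of the extraspecial group of order 27 -/
def IsR0 (ω : F) (M : Matrix (Fin 3) (Fin 3) F) : Prop :=
  ∃ i j k : Fin 3, M = ω ^ (i : ℕ) • (xM ω ^ (j : ℕ) * yM ^ (k : ℕ))

/-- normalising the extraspecial group: both generators are conjugated into it -/
def Nrm0 (ω : F) (g : GL (Fin 3) F) : Prop :=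
  (∃ M, IsR0 ω M ∧ (g : Matrix (Fin 3) (Fin 3) F) * xM ω = M * (g : Matrix (Fin 3) (Fin 3) F)) ∧
    ∃ M, IsR0 ω M ∧ (g : Matrix (Fin 3) (Fin 3) F) * yM = M * (g : Matrix (Fin 3) (Fin 3) F)

/-- a subgroup of `SL(3, p)` containing the normaliser, without transvections -/
structure Amb (H : Subgroup (GL (Fin 3) F)) (p : ℕ) (ω : F) : Prop where
  prime : p.Prime
  card : Fintype.card F = p
  mod3 : p % 3 = 1
  root : ω ^ 2 + ω + 1 = 0
  le : H ≤ Cfsg.Geo.specialLinear (Fin 3) F
  memX : Mem H (xM ω)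
  memY : Mem H (yM (F := F))
  memF : Mem H (fM ω)
  memQ : Mem H (qM ω)
  noTr : NoTr H

namespace Amb

variable {H : Subgroup (GL (Fin 3) F)} {p : ℕ} {ω : F} (h : Amb H p ω)
include h

theorem seven : 7 ≤ p := by
  by_contra hc
  push Not at hc
  have h1 := h.prime
  have h2 := h.mod3
  interval_cases p <;> first | omega | exact absurd h1 (by norm_num)

theorem two_ne : p ≠ 2 := fun e => by have := h.seven; omega

theorem charP : CharP F p :=
  haveI : Fact p.Prime := ⟨h.prime⟩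
  charP_of_card_eq_prime (by rw [h.card])

theorem fact : Fact p.Prime := ⟨h.prime⟩

/-- small integers are invertible unless some prime divisor is a possible characteristic -/
theorem nat_ne (n : ℕ) (hn : n ≠ 0) (hd : ∀ q ∈ n.divisors, q < 7 ∨ q % 3 ≠ 1 ∨ ¬ q.Prime) : (n : F) ≠ 0 := by
  haveI := h.charP
  intro e
  rw [CharP.cast_eq_zero_iff F p] at e
  have := h.seven
  have := h.mod3
  rcases hd p (Nat.mem_divisors.2 ⟨e, hn⟩) with h' | h' | h'
  · omega
  · omega
  · exact h' h.prime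

theorem nat_ne_nine (h9 : p % 9 = 1) (n : ℕ) (hn : n ≠ 0) (hd : ∀ q ∈ n.divisors, q % 9 ≠ 1 ∨ ¬ q.Prime) :
    (n : F) ≠ 0 := by
  haveI := h.charP
  intro e
  rw [CharP.cast_eq_zero_iff F p] at e
  rcases hd p (Nat.mem_divisors.2 ⟨e, hn⟩) with h' | h'
  · omega
  · exact h' h.prime

theorem two : (2 : F) ≠ 0 := by exact_mod_cast h.nat_ne 2 (by norm_num) (by decide +kernel)

theorem three : (3 : F) ≠ 0 := by exact_mod_cast h.nat_ne 3 (by norm_num) (by decide +kernel)

theorem cube : ω ^ 3 = 1 := by linear_combination (ω - 1) * h.root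

theorem root_ne_zero : ω ≠ 0 := fun e => by simpa [e] using h.cube

theorem root_ne_one : ω ≠ 1 := fun e => h.three (by linear_combination h.root - (ω + 2) * e)

theorem sub_sq : ω - ω ^ 2 ≠ 0 := fun e =>
  mul_ne_zero h.root_ne_zero (sub_ne_zero.2 h.root_ne_one.symm) (by linear_combination e)

theorem sr_sq : sr ω * sr ω * 3 = -1 := by
  have key : (ω - ω ^ 2) * (ω - ω ^ 2) = -3 := by linear_combination (ω ^ 2 - 3 * ω + 3) * h.root
  rw [sr, ← mul_inv, key, inv_neg, neg_mul, inv_mul_cancel₀ h.three]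

theorem sr_ne : sr ω ≠ 0 := inv_ne_zero h.sub_sq

theorem det_eq {M : M3} (hM : Mem H M) : M.det = 1 := by
  obtain ⟨g, hg, rfl⟩ := hM
  exact Cfsg.Agent.Aschbacher.mem_specialLinear.1 (h.le hg)

theorem fM_sq : fM ω * fM ω = tM := by
  have hs := h.sr_sq
  ext i j
  fin_cases i <;> fin_cases j <;> simp [fM, tM, Matrix.mul_apply, Fin.sum_univ_three]
  all_goals
    have hr := h.root
    grind

theorem memT : Mem H (tM (F := F)) := h.fM_sq ▸ h.memF.mul h.memF

theorem yM_cube : (yM : M3) * (yM * yM) = 1 := by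
  ext i j
  fin_cases i <;> fin_cases j <;> simp [yM, Matrix.mul_apply, Fin.sum_univ_three]

end Amb

theorem dg_mul (a b c a' b' c' : F) : dg a b c * dg a' b' c' = dg (a * a') (b * b') (c * c') := by
  ext i j
  fin_cases i <;> fin_cases j <;> simp [dg, Matrix.mul_apply, Fin.sum_univ_three]

theorem dg_one : dg (1 : F) 1 1 = 1 := by
  ext i j
  fin_cases i <;> fin_cases j <;> simp [dg]

theorem det_dg (a b c : F) : (dg a b c).det = a * b * c := by
  rw [Matrix.det_fin_three]; simp [dg]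

theorem smul_dg (k a b c : F) : k • dg a b c = dg (k * a) (k * b) (k * c) := by
  ext i j
  fin_cases i <;> fin_cases j <;> simp [dg]

theorem dg_eq_hom {a b : F} (hb : b ≠ 0) : dg a b b = hom b (a / b) ![1, 0, 0] ![1, 0, 0] := by
  ext i j
  fin_cases i <;> fin_cases j <;> simp [dg, hom, Matrix.vecMulVec_apply] <;> field_simp <;> ring

theorem yM_conj (a b c : F) : yM * dg a b c * (yM * yM) = dg c a b := by
  ext i j
  fin_cases i <;> fin_cases j <;> simp [yM, dg, Matrix.mul_apply, Fin.sum_univ_three]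

theorem tM_conj (a b c : F) : tM * dg a b c * tM = dg a c b := by
  ext i j
  fin_cases i <;> fin_cases j <;> simp [tM, dg, Matrix.mul_apply, Fin.sum_univ_three]

theorem det_bL : (bL : Matrix (Fin 3) (Fin 3) F).det = -2 := by
  rw [Matrix.det_fin_three]; simp [bL]; ring

theorem tM_bL : (tM : Matrix (Fin 3) (Fin 3) F) * bL = bL * blk 1 (-1) := by
  ext i j
  fin_cases i <;> fin_cases j <;> simp [tM, bL, blk, Matrix.mul_apply, Fin.sum_univ_three]

theorem fM_bL {ω : F} (hω : ω ^ 2 + ω + 1 = 0) (hs : ω - ω ^ 2 ≠ 0) : fM ω * bL = bL * blk 1 (fW ω) := by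
  have hsr : sr ω * (ω - ω ^ 2) = 1 := inv_mul_cancel₀ hs
  ext i j
  fin_cases i <;> fin_cases j <;> simp [fM, fW, bL, blk, Matrix.mul_apply, Fin.sum_univ_three]
  all_goals grind

theorem qM_bL {ω : F} (hω : ω ^ 2 + ω + 1 = 0) (hs : ω - ω ^ 2 ≠ 0) : qM ω * bL = bL * blk 1 (qW ω) := by
  have hsr : sr ω * (ω - ω ^ 2) = 1 := inv_mul_cancel₀ hs
  ext i j
  fin_cases i <;> fin_cases j <;> simp [qM, qW, bL, blk, Matrix.mul_apply, Fin.sum_univ_three]
  all_goals grind

end Cfsg.Agent.Forms.Max.SL3.SympType
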