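import Mathlib
import Cfsg.Agent.Lib.Forms.Max.SL3.SympType.Std

/-!
# The diagonal part of an overgroup of the normaliser

A diagonal element of a group without transvections that contains the normaliser has all ratios cube roots of
unity: otherwise a coordinate homology and its Fourier conjugate form an impossible pair.
-/

set_option autoImplicit false
set_option linter.unusedSectionVars false

namespace Cfsg.Agent.Forms.Max.SL3.SympType

open Matrix

variable {F : Type*} [Field F] [Fintype F] {H : Subgroup (GL (Fin 3) F)} {p : ℕ} {ω : F}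

local notation "M3" => Matrix (Fin 3) (Fin 3) F
local notation "M2" => Matrix (Fin 2) (Fin 2) F

theorem not_val_of_cubic {d : F} (hc : 3 * d ^ 3 + 9 * d ^ 2 + 6 * d - 1 = 0) (h17 : (17 : F) ≠ 0)
    (h89 : (89 : F) ≠ 0) (hv : Val4 (-d) ∨ Val5 (-d)) : False := by
  have c0 : -d = 0 → False := fun e =>
    one_ne_zero (α := F) (by linear_combination -hc + (-(3 * d ^ 2) - 9 * d - 6) * e)
  have c1 : -d * -d = 1 → False := fun e => by
    have k : 9 * d + 8 = 0 := by linear_combination hc - (3 * d + 9) * e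
    exact h17 (by linear_combination (9 * d - 8) * k - 81 * e)
  rcases hv with (e | e | e) | (e | e | e)
  · exact c0 e
  · exact c1 e
  · have k : 12 * d + 17 = 0 := by linear_combination hc - (3 * d + 9) * e
    exact one_ne_zero (α := F) (by linear_combination (17 - 12 * d) * k + 144 * e)
  · exact c0 e
  · exact c1 e
  · rcases mul_eq_zero.1 (show (d ^ 2 - d - 1) * (d ^ 2 + d - 1) = 0 by linear_combination e) with e | e
    · have k : 21 * d + 11 = 0 := by linear_combination hc - (3 * d + 12) * e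
      exact h89 (by linear_combination (21 * d + 11 - 43) * k - 441 * e)
    · have k : 3 * d + 5 = 0 := by linear_combination hc - (3 * d + 6) * e
      exact one_ne_zero (α := F) (by linear_combination 9 * e - (3 * d + 5 - 7) * k)

/-- the short word that is a transvection in characteristic seven -/
def wordSeven (w : ZMod 7) : Matrix (Fin 3) (Fin 3) (ZMod 7) :=
  !![1, 0, 0; 0, w, 0; 0, 0, w ^ 2] * !![0, 0, 1; 1, 0, 0; 0, 1, 0] * ((w - w ^ 2) ^ 5 • !![1, 1, 1; 1, w, w ^ 2; 1, w ^ 2, w]) * !![1, 0, 0; 0, -1, 0; 0, 0, -1] * !![0, 0, 1; 1, 0, 0; 0, 1, 0] * ((w - w ^ 2) ^ 5 • !![1, 1, 1; 1, w, w ^ 2; 1, w ^ 2, w]) * !![1, 0, 0; 0, -1, 0; 0, 0, -1] * ((w - w ^ 2) ^ 5 • !![1, 1, 1; 1, w, w ^ 2; 1, w ^ 2, w]) * !![1, 0, 0; 0, w, 0; 0, 0, w ^ 2] * !![1, 0, 0; 0, -1, 0; 0, 0, -1] * ((w - w ^ 2) ^ 5 • !![1, 1, 1; 1, w, w ^ 2; 1, w ^ 2, w]) * !![1, 0, 0; 0, -1, 0; 0, 0, -1]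

theorem wordSeven_two : wordSeven 2 = 1 + vecMulVec ![1, 2, 6] ![0, 4, 1] := by decide +kernel

theorem wordSeven_four : wordSeven 4 = 1 + vecMulVec ![0, 1, 2] ![3, 6, 4] := by decide +kernel

theorem wordSeven_two_dot : (![0, 4, 1] : Fin 3 → ZMod 7) ⬝ᵥ ![1, 2, 6] = 0 := by decide +kernel

theorem wordSeven_four_dot : (![3, 6, 4] : Fin 3 → ZMod 7) ⬝ᵥ ![0, 1, 2] = 0 := by decide +kernel

namespace Amb

variable (h : Amb H p ω)
include h

theorem mem_conjY {a b c : F} (hd : Mem H (dg a b c)) : Mem H (dg c a b) :=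
  yM_conj a b c ▸ (h.memY.mul hd).mul (h.memY.mul h.memY)

theorem mem_conjT {a b c : F} (hd : Mem H (dg a b c)) : Mem H (dg a c b) :=
  tM_conj a b c ▸ (h.memT.mul hd).mul h.memT

theorem fM_inv : fM ω * (fM ω * tM) = 1 := by
  rw [← mul_assoc, h.fM_sq]
  ext i j
  fin_cases i <;> fin_cases j <;> simp [tM, Matrix.mul_apply, Fin.sum_univ_three]

/-- Fourier conjugate of a coordinate homology -/
theorem fM_conj_hom (c v : F) :
    fM ω * hom c v ![1, 0, 0] ![1, 0, 0] * (fM ω * tM) = hom c v ![1, 1, 1] ![1 / 3, 1 / 3, 1 / 3] := by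
  have h1 : fM ω * vecMulVec ![1, 0, 0] ![1, 0, 0] * (fM ω * tM) = vecMulVec ![1, 1, 1] ![1 / 3, 1 / 3, 1 / 3] := by
    have hs := h.sr_sq
    have h3 := h.three
    have hr := h.root
    rw [Matrix.mul_vecMulVec, Matrix.vecMulVec_mul]
    ext i j
    fin_cases i <;> fin_cases j <;>
      simp [fM, tM, Matrix.mul_apply, Fin.sum_univ_three, Matrix.vecMulVec_apply, Matrix.mulVec, Matrix.vecMul, dotProduct]
    all_goals grind
  rw [hom, hom, Matrix.mul_smul, Matrix.smul_mul, mul_add, mul_one, add_mul, h.fM_inv, Matrix.mul_smul,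
    Matrix.smul_mul, h1]

theorem eq_seven (e : (14 : F) = 0) : p = 7 := by
  haveI := h.charP
  have h14 : ((14 : ℕ) : F) = 0 := by exact_mod_cast e
  rw [CharP.cast_eq_zero_iff F p] at h14
  rcases (Nat.Prime.dvd_mul h.prime).1 (show p ∣ 2 * 7 from h14) with d | d
  · exact absurd ((Nat.prime_dvd_prime_iff_eq h.prime Nat.prime_two).1 d) h.two_ne
  · exact (Nat.prime_dvd_prime_iff_eq h.prime (by norm_num)).1 d

theorem pow_card_sub {v : F} (hv : v ≠ 0) : v ^ (p - 1) = 1 := by
  rw [← h.card]; exact FiniteField.pow_card_sub_one_eq_one v hv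

/-- a coordinate homology of ratio `v` has `v² = 1` or `v³ = 1` -/
theorem ratio_cases {c v : F} (hc : c ≠ 0) (hv0 : v ≠ 0) (hM : Mem H (hom c v ![1, 0, 0] ![1, 0, 0])) :
    v * v = 1 ∨ v ^ 3 = 1 := by
  haveI := h.fact
  by_contra hcon
  push Not at hcon
  obtain ⟨hv, hv3⟩ := hcon
  have hF : ∀ c v, c ≠ (0 : F) → v ≠ 0 → v * v ≠ 1 → Mem H (hom c v ![1, 0, 0] ![1, 0, 0]) →
      PairConcl v (1 / 3) := by
    intro c v hc hv0 hv hM
    have hM' : Mem H (hom c v ![1, 1, 1] ![1 / 3, 1 / 3, 1 / 3]) :=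
      h.fM_conj_hom c v ▸ (h.memF.mul hM).mul (h.memF.mul h.memT)
    have h3 := h.three
    have e : ((![1, 0, 0] : Fin 3 → F) ⬝ᵥ ![1, 1, 1]) * ((![1 / 3, 1 / 3, 1 / 3] : Fin 3 → F) ⬝ᵥ ![1, 0, 0]) =
        1 / 3 := by
      simp [dotProduct, Fin.sum_univ_three]
    have := pair_tau p h.card h.two_ne h.noTr hM hM' hc hc hv hv0
      (by simp [dotProduct, Fin.sum_univ_three]) (by simp [dotProduct, Fin.sum_univ_three]; field_simp; ring)
      (by rw [e]; exact div_ne_zero one_ne_zero h.three)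
      (by rw [e]; intro e'; exact h.two (by field_simp at e'; linear_combination -e'))
    rwa [e] at this
  have h3 := h.three
  rcases hF c v hc hv0 hv hM with ⟨hk, ht, -⟩ | ⟨hk, ht, -⟩
  · -- order four
    have hv4 : v ^ 4 = 1 := hk.resolve_left hv3
    have hw : v + v⁻¹ = 0 := by
      have hv2 : v ^ 2 = -1 := by
        have : (v * v - 1) * (v ^ 2 + 1) = 0 := by linear_combination hv4
        linear_combination (mul_eq_zero.1 this).resolve_left (sub_ne_zero.2 hv)
      field_simp
      linear_combination hv2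
    rw [hw, sub_zero, zero_add, mul_one_div] at ht
    have h5 : (5 : F) ≠ 0 := by exact_mod_cast h.nat_ne 5 (by norm_num) (by decide +kernel)
    rcases ht with e | e | e
    · exact div_ne_zero h.two h3 e
    · field_simp at e
      exact h5 (by linear_combination -e)
    · field_simp at e
      have h7 : p = 7 := h.eq_seven (by linear_combination -e)
      have h6 := h.pow_card_sub hv0
      rw [h7] at h6
      exact hv (by linear_combination h6 - v ^ 2 * hv4)
  · -- order five
    have hv5 : v ^ 5 = 1 := hk.resolve_left hv3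
    have hv1 : v ≠ 1 := fun e => hv (by rw [e, one_mul])
    have hM2 : Mem H (hom (c * c) (v * v) ![1, 0, 0] ![1, 0, 0]) := by
      have : hom c v ![1, 0, 0] ![1, 0, 0] * hom c v ![1, 0, 0] ![1, 0, 0] =
          hom (c * c) (v * v) ![1, 0, 0] ![1, 0, 0] := by
        ext i j
        fin_cases i <;> fin_cases j <;>
          simp [hom, Matrix.mul_apply, Fin.sum_univ_three, Matrix.vecMulVec_apply] <;> ring
      exact this ▸ hM.mul hM
    have hv4 : v * v * (v * v) ≠ 1 := fun e => hv1 (by linear_combination hv5 - v * e)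
    have hw : (v + v⁻¹) ^ 2 + (v + v⁻¹) - 1 = 0 := by
      have : (v - 1) * (v ^ 4 + v ^ 3 + v ^ 2 + v + 1) = 0 := by linear_combination hv5
      have := (mul_eq_zero.1 this).resolve_left (sub_ne_zero.2 hv1)
      field_simp
      linear_combination this
    have hw' : v * v + (v * v)⁻¹ = -1 - (v + v⁻¹) := by
      have : (v + v⁻¹) ^ 2 = v * v + (v * v)⁻¹ + 2 := by field_simp; ring
      linear_combination hw - this
    have key : ∀ w : F, w ^ 2 + w - 1 = 0 → Val5 (w + (2 - w) * (1 / 3)) → 12 * w + 11 = 0 := by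
      intro w hw ht
      have h11 : (11 : F) ≠ 0 := by exact_mod_cast h.nat_ne 11 (by norm_num) (by decide +kernel)
      rw [show w + (2 - w) * (1 / 3) = (2 * w + 2) / 3 by field_simp; ring] at ht
      have h2 := h.two
      rcases ht with e | e | e
      · exfalso
        field_simp at e
        grind
      · exfalso
        field_simp at e
        apply h11
        grind
      · field_simp at e
        grind
    rcases hF _ _ (mul_ne_zero hc hc) (mul_ne_zero hv0 hv0) hv4 hM2 with ⟨hk', -, -⟩ | ⟨-, ht', -⟩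
    · rcases hk' with e | e
      · exact hv1 (by linear_combination e - v * hv5)
      · exact hv3 (by linear_combination e - v ^ 3 * hv5)
    · have k1 := key _ hw ht
      have k2 := key _ (by rw [hw']; linear_combination hw) ht'
      rw [hw'] at k2
      have h10 : (10 : F) ≠ 0 := by exact_mod_cast h.nat_ne 10 (by norm_num) (by decide +kernel)
      exact h10 (by linear_combination k1 + k2)

/-- `p = 7`: the sign change and the normaliser give a transvection -/
theorem no_sign_seven (h7 : p = 7) (hS : Mem H (dg 1 (-1) (-1))) : False := by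
  haveI := h.charP
  subst h7
  haveI : Fact (Nat.Prime 7) := ⟨by norm_num⟩
  let f : ZMod 7 →+* F := ZMod.castHom (dvd_refl 7) F
  have hω : ω = f 2 ∨ ω = f 4 := by
    have h7' : (7 : F) = 0 := by exact_mod_cast CharP.cast_eq_zero F 7
    have : (ω - 2) * (ω - 4) = 0 := by linear_combination h.root + (1 - ω) * h7'
    rcases mul_eq_zero.1 this with e | e
    · exact Or.inl (by rw [sub_eq_zero.1 e, map_ofNat])
    · exact Or.inr (by rw [sub_eq_zero.1 e, map_ofNat])
  have key : ∀ (w : ZMod 7) (u φ : Fin 3 → ZMod 7), ω = f w → φ ⬝ᵥ u = 0 →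
      wordSeven w = 1 + vecMulVec u φ → (fun i => f (u i)) = 0 ∨ (fun i => f (φ i)) = 0 := by
    intro w u φ hw h0 he
    set A : Matrix (Fin 3) (Fin 3) (ZMod 7) := (w - w ^ 2) ^ 5 • !![1, 1, 1; 1, w, w ^ 2; 1, w ^ 2, w] with hA
    have hfA : f.mapMatrix A = fM ω := by
      have e5 : f ((w - w ^ 2) ^ 5) = sr ω := by
        have hne := h.sub_sq
        rw [map_pow, map_sub, map_pow, ← hw, sr]
        refine eq_inv_of_mul_eq_one_left ?_
        rw [← pow_succ]
        exact h.pow_card_sub hne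
      ext i j
      fin_cases i <;> fin_cases j <;> simp [hA, fM, e5, ← hw]
    have hX : f.mapMatrix !![1, 0, 0; 0, w, 0; 0, 0, w ^ 2] = xM ω := by
      ext i j; fin_cases i <;> fin_cases j <;> simp [dg, xM, ← hw]
    have hY : f.mapMatrix (!![0, 0, 1; 1, 0, 0; 0, 1, 0] : Matrix (Fin 3) (Fin 3) (ZMod 7)) = yM := by
      ext i j; fin_cases i <;> fin_cases j <;> simp [yM]
    have hSm : f.mapMatrix (!![1, 0, 0; 0, -1, 0; 0, 0, -1] : Matrix (Fin 3) (Fin 3) (ZMod 7)) = dg 1 (-1) (-1) := by
      ext i j; fin_cases i <;> fin_cases j <;> simp [dg]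
    rw [wordSeven, ← hA] at he
    have hm := congrArg f.mapMatrix he
    simp only [map_mul, map_add, map_one, hfA, hX, hY, hSm] at hm
    have hv : f.mapMatrix (vecMulVec u φ) = vecMulVec (fun i => f (u i)) (fun i => f (φ i)) := by
      ext i j; simp [Matrix.vecMulVec_apply]
    rw [hv] at hm
    refine h.noTr.eq_zero (hm ▸ ?_) ?_
    · exact ((((((((((h.memX.mul h.memY).mul h.memF).mul hS).mul h.memY).mul h.memF).mul hS).mul h.memF).mul
        h.memX).mul hS).mul h.memF).mul hS
    · have := congrArg f h0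
      rw [map_zero, RingHom.map_dotProduct] at this
      exact this
  rcases hω with hw | hw
  · rcases key 2 ![1, 2, 6] ![0, 4, 1] hw wordSeven_two_dot wordSeven_two with e | e
    · exact one_ne_zero (α := F) (by simpa using congrFun e 0)
    · exact one_ne_zero (α := F) (by simpa using congrFun e 2)
  · rcases key 4 ![0, 1, 2] ![3, 6, 4] hw wordSeven_four_dot wordSeven_four with e | e
    · exact one_ne_zero (α := F) (by simpa using congrFun e 1)
    · exact h.three (by simpa [map_ofNat] using congrFun e 0)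

/-- the diagonal sign change is not in the group -/
theorem no_sign (hS : Mem H (dg 1 (-1) (-1))) : False := by
  haveI := h.fact
  have hdet : (bL : M3).det ≠ 0 := by rw [det_bL]; exact neg_ne_zero.2 h.two
  have hG := planeGroup_pow_eq_one p h.card h.noTr hdet
  have eS : dg 1 (-1) (-1) * (bL : M3) = bL * blk (-1) !![1, 0; 0, -1] := by
    ext i j
    fin_cases i <;> fin_cases j <;> simp [dg, bL, blk, Matrix.mul_apply, Fin.sum_univ_three]
  obtain ⟨s, hs, es⟩ := mem_planeGroup_of_mem hdet hS eS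
  obtain ⟨a, ha, ea⟩ := mem_planeGroup_of_mem hdet h.memF (fM_bL h.root h.sub_sq)
  obtain ⟨b, hb, eb⟩ := mem_planeGroup_of_mem hdet h.memQ (qM_bL h.root h.sub_sq)
  have hsr := h.sr_ne
  have hsq := h.sr_sq
  have h2 := h.two
  have h3 := h.three
  have hr := h.root
  have ea2 : (a : M2) * a = (-1 : F) • 1 := by
    rw [ea]; ext i j; fin_cases i <;> fin_cases j <;> simp [fW, Matrix.mul_apply, Fin.sum_univ_two]
    all_goals grind
  have eb2 : (b : M2) * b = (-1 : F) • 1 := by
    rw [eb]; ext i j; fin_cases i <;> fin_cases j <;> simp [qW, Matrix.mul_apply, Fin.sum_univ_two]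
    all_goals grind
  have eab : (a : M2) * b = (-1 : F) • ((b : M2) * a) := by
    rw [ea, eb]; ext i j; fin_cases i <;> fin_cases j <;> simp [fW, qW, Matrix.mul_apply, Fin.sum_univ_two]
    all_goals grind
  have notPC : ∀ N : M2, ∀ g : GL (Fin 2) F, (g : M2) = N → N 0 0 ≠ 0 → N 0 1 ≠ 0 → ¬ PC s g := by
    rintro N g rfl h00 h01 ⟨c, hc⟩
    rw [es] at hc
    have e00 := congrFun (congrFun hc 0) 0
    have e01 := congrFun (congrFun hc 0) 1
    simp [Matrix.mul_apply, Fin.sum_univ_two] at e00 e01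
    have hc1 : c = 1 := mul_right_cancel₀ h00 (by linear_combination -e00)
    exact h01 (mul_left_cancel₀ h2 (by rw [hc1] at e01; linear_combination e01))
  set N : M2 := fW ω * !![1, 0; 0, -1] * (fW ω * !![1, 0; 0, -1]) with hN
  have hg : ((a * s * (a * s) : GL (Fin 2) F) : M2) = (1 : F) • N := by
    rw [Units.val_mul, Units.val_mul, ea, es, one_smul]
  have hNd : N.det = 1 := by
    rw [hN, Matrix.det_fin_two]; simp [fW, Matrix.mul_apply, Fin.sum_univ_two]; grind
  have hNt : N.trace = 2 / 3 := by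
    rw [hN, Matrix.trace_fin_two]; simp [fW, Matrix.mul_apply, Fin.sum_univ_two]; grind
  have hNs : ¬ Scal N := by
    rintro ⟨c, hc⟩
    have := congrFun (congrFun hc 1) 0
    simp [hN, fW, Matrix.mul_apply, Fin.sum_univ_two] at this
    grind
  have hv := val_of one_ne_zero hg hNd hNs
  rw [hNt] at hv
  have hgm : a * s * (a * s) ∈ planeGroup H (bL : M3) := mul_mem (mul_mem ha hs) (mul_mem ha hs)
  rcases shapes p h.card h.two_ne _ hG with hD | ⟨hsm, -⟩ | ⟨hsm, -⟩
  · have na : ¬ Scal (a : M2) := by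
      rintro ⟨c, hc⟩
      have := congrFun (congrFun hc 1) 0
      rw [ea] at this
      simp [fW, hsr] at this
    have nb : ¬ Scal (b : M2) := by
      rintro ⟨c, hc⟩
      have := congrFun (congrFun hc 0) 1
      rw [eb] at this
      simp [qW, hsr, h2, h.root_ne_zero] at this
    have nab : ¬ Scal ((a * b : GL (Fin 2) F) : M2) := by
      rintro ⟨c, hc⟩
      have := congrFun (congrFun hc 0) 1
      rw [Units.val_mul, ea, eb] at this
      simp [fW, qW, Matrix.mul_apply, Fin.sum_univ_two] at this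
      grind
    rcases hD.2 a ha b hb ⟨-1, by rw [Units.val_mul, ea2]⟩ ⟨-1, by rw [Units.val_mul, eb2]⟩ na nb ⟨-1, eab⟩ nab
        with hc | hc | hc
    · exact notPC _ a rfl (by rw [ea]; simp [fW, hsr]) (by rw [ea]; simp [fW, hsr, h2]) (hc s hs)
    · exact notPC _ b rfl (by rw [eb]; simp [qW, hsr]) (by rw [eb]; simp [qW, hsr, h2, h.root_ne_zero]) (hc s hs)
    · refine notPC _ (a * b) rfl ?_ ?_ (hc s hs)
      · rw [Units.val_mul, ea, eb]; simp [fW, qW, Matrix.mul_apply, Fin.sum_univ_two]; grind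
      · rw [Units.val_mul, ea, eb]; simp [fW, qW, Matrix.mul_apply, Fin.sum_univ_two]; grind
  · rcases hv.1 (hsm _ hgm) with e | e | e
    · exact div_ne_zero h2 h3 e
    · field_simp at e
      have h5 : (5 : F) ≠ 0 := by exact_mod_cast h.nat_ne 5 (by norm_num) (by decide +kernel)
      exact h5 (by linear_combination -e)
    · field_simp at e
      exact h.no_sign_seven (h.eq_seven (by linear_combination -2 * e)) hS
  · rcases hv.2 (hsm _ hgm) with e | e | e
    · exact div_ne_zero h2 h3 e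
    · field_simp at e
      have h5 : (5 : F) ≠ 0 := by exact_mod_cast h.nat_ne 5 (by norm_num) (by decide +kernel)
      exact h5 (by linear_combination -e)
    · field_simp at e
      have h11 : (11 : F) ≠ 0 := by exact_mod_cast h.nat_ne 11 (by norm_num) (by decide +kernel)
      exact h11 (by linear_combination -e)

set_option maxHeartbeats 1000000 in
/-- the element `diag(u, u⁻¹, 1)` forces `u³ = 1` -/
theorem cube_of_mem {u : F} (hu : u ≠ 0) (hM : Mem H (dg u u⁻¹ 1)) : u ^ 3 = 1 := by
  haveI := h.fact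
  have hui : u⁻¹ ≠ 0 := inv_ne_zero hu
  have he : Mem H (dg 1 u u⁻¹) := h.mem_conjY hM
  have he' : Mem H (dg 1 u⁻¹ u) := he.inv_of (by rw [dg_mul]; simp [hu, dg_one])
  have hM0 : Mem H (dg (u⁻¹ * u⁻¹) u u) := by
    have h1 := hM.mul he'
    rw [dg_mul] at h1
    exact h.mem_conjY (h.mem_conjY (by simpa using h1))
  set v : F := u⁻¹ * u⁻¹ / u with hv
  have hv0 : v ≠ 0 := div_ne_zero (mul_ne_zero hui hui) hu
  have hvu : v * u ^ 3 = 1 := by rw [hv]; field_simp
  rw [dg_eq_hom hu, ← hv] at hM0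
  rcases h.ratio_cases hu hv0 hM0 with hv2 | hv3
  · rcases mul_self_eq_one_iff.1 hv2 with e | e
    · rw [e, one_mul] at hvu; exact hvu
    · exfalso
      have hu3 : u ^ 3 = -1 := by rw [e] at hvu; linear_combination -hvu
      refine h.no_sign ?_
      have h1 : Mem H (dg (u⁻¹ * u⁻¹) u u) := by rwa [dg_eq_hom hu, ← hv]
      have h3 := (h1.mul h1).mul h1
      rw [dg_mul, dg_mul] at h3
      convert h3 using 2
      · field_simp; linear_combination (u ^ 3 - 1) * hu3
      · linear_combination -hu3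
      · linear_combination -hu3
  · by_contra hu3
    have hv1 : v ≠ 1 := fun e => hu3 (by rw [e, one_mul] at hvu; exact hvu)
    have hv2 : v * v ≠ 1 := fun e => hv1 (by linear_combination hv3 - v * e)
    set z : F := u + u⁻¹ with hz
    have hww : v + v⁻¹ = -1 := by
      have : (v - 1) * (v ^ 2 + v + 1) = 0 := by linear_combination hv3
      have := (mul_eq_zero.1 this).resolve_left (sub_ne_zero.2 hv1)
      field_simp
      linear_combination this
    have hu3' : u ^ 3 = v⁻¹ := eq_inv_of_mul_eq_one_right hvu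
    have hz3 : z ^ 3 - 3 * z = -1 := by
      rw [← hww, ← hu3', hz, show v = (u ^ 3)⁻¹ by rw [hu3', inv_inv]]
      field_simp
      ring
    set P : Fin 3 → F := ![1, u, u⁻¹] with hP
    set φ : Fin 3 → F := ![1 / 3, u⁻¹ / 3, u / 3] with hφ
    have hMP : Mem H (hom u v ![1, 1, 1] ![1 / 3, 1 / 3, 1 / 3]) :=
      h.fM_conj_hom u v ▸ (h.memF.mul hM0).mul (h.memF.mul h.memT)
    have hM' : Mem H (hom u v P φ) := by
      have h1 := (he.mul hMP).mul he'
      convert h1 using 1
      have hd : dg (1 : F) u u⁻¹ * dg 1 u⁻¹ u = 1 := by rw [dg_mul]; simp [hu, dg_one]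
      rw [hom, hom, Matrix.mul_smul, Matrix.smul_mul, mul_add, mul_one, add_mul, hd, Matrix.mul_smul,
        Matrix.smul_mul, Matrix.mul_vecMulVec, Matrix.vecMulVec_mul]
      congr 4 <;> funext i <;> fin_cases i <;>
        simp [P, φ, dg, Matrix.mulVec, Matrix.vecMul, dotProduct, Fin.sum_univ_three] <;> ring
    have h3 := h.three
    have h9 : (9 : F) ≠ 0 := by exact_mod_cast h.nat_ne 9 (by norm_num) (by decide +kernel)
    have hτ : (φ ⬝ᵥ ![1, 1, 1]) * ((![1 / 3, 1 / 3, 1 / 3] : Fin 3 → F) ⬝ᵥ P) = (1 + z) ^ 2 / 9 := by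
      simp [P, φ, hz, dotProduct, Fin.sum_univ_three]
      field_simp
      ring
    have h51 : (51 : F) ≠ 0 := by exact_mod_cast h.nat_ne 51 (by norm_num) (by decide +kernel)
    have hc := pair_tau p h.card h.two_ne h.noTr hM' hMP hu hu hv2 hv0
      (by simp [P, φ, dotProduct, Fin.sum_univ_three]; field_simp; ring)
      (by simp [dotProduct, Fin.sum_univ_three]; field_simp; ring)
      (by
        rw [hτ]
        intro e
        rcases div_eq_zero_iff.1 e with e | e
        · have ha := eq_zero_of_pow_eq_zero e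
          exact h3 (by linear_combination hz3 - (z ^ 2 - z - 2) * ha)
        · exact h9 e)
      (by
        rw [hτ]
        intro e
        rw [div_eq_one_iff_eq h9] at e
        rcases mul_eq_zero.1 (show (z - 2) * (z + 4) = 0 by linear_combination e) with e | e
        · exact h3 (by linear_combination hz3 - (z ^ 2 + 2 * z + 1) * e)
        · exact h51 (by linear_combination -hz3 + (z ^ 2 - 4 * z + 13) * e))
    rw [hτ] at hc
    set d : F := (1 + z) ^ 2 / 3 - 2 with hd
    have hcub : 3 * d ^ 3 + 9 * d ^ 2 + 6 * d - 1 = 0 := by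
      rw [hd]; field_simp; grind
    have ht2 : 2 + (v + v⁻¹ - 2) * ((1 + z) ^ 2 / 9) = -d := by
      rw [hww, hd]; field_simp; ring
    simp only [PairConcl] at hc
    rw [ht2] at hc
    have h17 : (17 : F) ≠ 0 := by exact_mod_cast h.nat_ne 17 (by norm_num) (by decide +kernel)
    have h89 : (89 : F) ≠ 0 := by exact_mod_cast h.nat_ne 89 (by norm_num) (by decide +kernel)
    rcases hc with ⟨-, -, ht⟩ | ⟨-, -, ht⟩
    · exact not_val_of_cubic hcub h17 h89 (Or.inl ht)
    · exact not_val_of_cubic hcub h17 h89 (Or.inr ht)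

/-- **Ratios of diagonal elements are cube roots of unity.** -/
theorem diag_cube {a b c : F} (hM : Mem H (dg a b c)) : a ^ 3 = b ^ 3 ∧ b ^ 3 = c ^ 3 := by
  have main : ∀ a b c : F, Mem H (dg a b c) → a ^ 3 = b ^ 3 := by
    intro a b c hM
    have hd := h.det_eq hM
    rw [det_dg] at hd
    have hc0 : c ≠ 0 := right_ne_zero_of_mul_eq_one hd
    have hab : a * b ≠ 0 := left_ne_zero_of_mul_eq_one hd
    obtain ⟨ha0, hb0⟩ := mul_ne_zero_iff.1 hab
    have h2 : Mem H (dg b a c) := h.mem_conjY (h.mem_conjT hM)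
    have h3 : Mem H (dg b⁻¹ a⁻¹ c⁻¹) := h2.inv_of (by rw [dg_mul]; simp [ha0, hb0, hc0, dg_one])
    have h4 := hM.mul h3
    rw [dg_mul, mul_inv_cancel₀ hc0, show b * a⁻¹ = (a * b⁻¹)⁻¹ by rw [mul_inv, inv_inv, mul_comm]] at h4
    have := h.cube_of_mem (mul_ne_zero ha0 (inv_ne_zero hb0)) h4
    rwa [mul_pow, inv_pow, mul_inv_eq_one₀ (pow_ne_zero 3 hb0)] at this
  exact ⟨main a b c hM, main b c a (h.mem_conjY (h.mem_conjY hM))⟩

end Amb

end Cfsg.Agent.Forms.Max.SL3.SympType
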