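import Mathlib
import Cfsg.Agent.Lib.Forms.Max.SL3.SympType.Norm

/-!
# The extraspecial subgroup of the ambient group: normaliser, trivial intersection, centralisers
-/

set_option autoImplicit false
set_option linter.unusedSectionVars false

namespace Cfsg.Agent.Forms.Max.SL3.SympType

open Matrix

variable {F : Type*} [Field F] [Fintype F] {H : Subgroup (GL (Fin 3) F)} {p : ℕ} {ω : F}

local notation "M3" => Matrix (Fin 3) (Fin 3) F
local notation "GL3" => GL (Fin 3) F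

/-- the matrix of an element of the group -/
def mt (g : H) : Matrix (Fin 3) (Fin 3) F := ((g : GL (Fin 3) F) : Matrix (Fin 3) (Fin 3) F)

theorem mt_mul (g g' : H) : mt (g * g') = mt g * mt g' := by
  rw [mt, mt, mt, Subgroup.coe_mul, Units.val_mul]

theorem mt_one : mt (1 : H) = 1 := by rw [mt, Subgroup.coe_one, Units.val_one]

theorem mt_pow (g : H) (n : ℕ) : mt (g ^ n) = mt g ^ n := by
  rw [mt, mt, Subgroup.coe_pow, Units.val_pow_eq_pow_val]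

theorem mt_inj {g g' : H} (e : mt g = mt g') : g = g' := Subtype.ext (Units.ext e)

theorem mem_mt (g : H) : Mem H (mt g) := ⟨g, g.2, rfl⟩

theorem Mem.exists_mt {M : M3} (h : Mem H M) : ∃ g : H, mt g = M := by
  obtain ⟨g, hg, e⟩ := h
  exact ⟨⟨g, hg⟩, e⟩

theorem mt_mul_inv (g : H) : mt g * mt g⁻¹ = 1 := by rw [← mt_mul, mul_inv_cancel, mt_one]

theorem mt_inv_mul (g : H) : mt g⁻¹ * mt g = 1 := by rw [← mt_mul, inv_mul_cancel, mt_one]

theorem mt_conj (g x : H) : mt (g * x * g⁻¹) * mt g = mt g * mt x := by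
  rw [← mt_mul, ← mt_mul, inv_mul_cancel_right]

theorem eq_conj_of_mt {g x : H} {N : M3} (e : mt g * mt x = N * mt g) : mt (g * x * g⁻¹) = N := by
  rw [mt_mul, mt_mul, e, mul_assoc, mt_mul_inv, mul_one]

namespace Amb

variable (h : Amb H p ω)
include h

theorem card_ne : (p : ℕ) ≠ 0 := h.prime.ne_zero

/-- normalising is a property of the whole group -/
theorem nrm0_map {g : GL3} (hg : Nrm0 ω g) {M : M3} (hM : IsR0 ω M) :
    ∃ N, IsR0 ω N ∧ (g : M3) * M = N * (g : M3) := by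
  obtain ⟨⟨x, hx, ex⟩, ⟨y, hy, ey⟩⟩ := hg
  obtain ⟨i, j, k, rfl⟩ := hM
  have e1 : SemiconjBy (g : M3) (xM ω ^ (j : ℕ) * yM ^ (k : ℕ)) (x ^ (j : ℕ) * y ^ (k : ℕ)) :=
    (SemiconjBy.pow_right (show SemiconjBy (g : M3) (xM ω) x from ex) _).mul_right
      (SemiconjBy.pow_right (show SemiconjBy (g : M3) yM y from ey) _)
  refine ⟨ω ^ (i : ℕ) • (x ^ (j : ℕ) * y ^ (k : ℕ)), ?_, ?_⟩
  · have := h.isR0_mul (h.isR0_of i 0 0) (h.isR0_mul (h.isR0_pow hx (j : ℕ)) (h.isR0_pow hy (k : ℕ)))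
    simpa [Matrix.smul_mul] using this
  · rw [Matrix.mul_smul, e1.eq, Matrix.smul_mul]

theorem isR0_root (i : ℕ) : IsR0 ω (ω ^ i • (1 : M3)) := by simpa using h.isR0_of i 0 0

theorem scalar_eq {c : F} {M : M3} (hM : Mem H M) (e : M = c • 1) : ∃ i : ℕ, i < 3 ∧ c = ω ^ i := by
  have := h.det_eq hM
  rw [e, Matrix.det_smul, Fintype.card_fin, Matrix.det_one, mul_one] at this
  exact h.eq_pow_of_cube this

theorem root_pow_inj {i i' : Fin 3} (e : ω ^ (i : ℕ) = ω ^ (i' : ℕ)) : i = i' := by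
  have hr := h.root
  have hne := h.root_ne_one
  have h0 := h.root_ne_zero
  have hw : ω ^ 2 ≠ 1 := fun e => hne (by linear_combination h.cube - ω * e)
  have hw2 : ω ≠ ω ^ 2 := sub_ne_zero.1 h.sub_sq
  fin_cases i <;> fin_cases i' <;> simp_all <;> grind

/-- the exponents are determined, the scalar apart -/
theorem param_eq {c c' : F} (hc : c ≠ 0) {j k j' k' : Fin 3}
    (e : c • (xM ω ^ (j : ℕ) * yM ^ (k : ℕ)) = c' • (xM ω ^ (j' : ℕ) * yM ^ (k' : ℕ))) : j = j' ∧ k = k' := by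
  have e2 := congrArg (fun M => xM ω ^ (3 - (j' : ℕ)) * M * yM ^ (3 - (k' : ℕ))) e
  simp only [Matrix.mul_smul, Matrix.smul_mul, ← Matrix.mul_assoc, ← pow_add] at e2
  rw [show 3 - (j' : ℕ) + j' = 3 by omega, h.xM_pow_three, one_mul, ← pow_add,
    show (k' : ℕ) + (3 - (k' : ℕ)) = 3 by omega, yM_pow_three, Matrix.mul_assoc, ← pow_add] at e2
  rw [pow_eq_pow_mod _ h.xM_pow_three, pow_eq_pow_mod ((k : ℕ) + _) yM_pow_three] at e2
  have e3 : ω ^ ((0 : Fin 3) : ℕ) • (xM ω ^ ((⟨(3 - (j' : ℕ) + j) % 3, Nat.mod_lt _ (by norm_num)⟩ : Fin 3) : ℕ) *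
      yM ^ ((⟨((k : ℕ) + (3 - (k' : ℕ))) % 3, Nat.mod_lt _ (by norm_num)⟩ : Fin 3) : ℕ)) = (c⁻¹ * c') • (1 : M3) := by
    rw [Fin.val_zero, pow_zero, one_smul, ← smul_smul, ← e2, smul_smul, inv_mul_cancel₀ hc, one_smul]
  obtain ⟨hj, hk, -⟩ := h.isR0_scalar_iff e3
  simp [Fin.ext_iff] at hj hk
  exact ⟨Fin.ext (by omega), Fin.ext (by omega)⟩

end Amb

/-- the extraspecial subgroup -/
def r0Grp (h : Amb H p ω) : Subgroup H where
  carrier := {g | IsR0 ω (mt g)}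
  one_mem' := by
    show IsR0 ω (mt (1 : H))
    rw [mt_one]; exact h.isR0_one
  mul_mem' {g g'} hg hg' := by
    show IsR0 ω (mt (g * g'))
    rw [mt_mul]; exact h.isR0_mul hg hg'
  inv_mem' {g} hg := by
    show IsR0 ω (mt g⁻¹)
    obtain ⟨i, j, k, e⟩ := hg
    obtain ⟨m, hm⟩ : ∃ m, g ^ (m + 1) = 1 :=
      ⟨orderOf g - 1, by rw [Nat.sub_add_cancel (orderOf_pos g), pow_orderOf_eq_one]⟩
    rw [show g⁻¹ = g ^ m from inv_eq_of_mul_eq_one_left (by rw [← pow_succ]; exact hm), mt_pow]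
    exact h.isR0_pow ⟨i, j, k, e⟩ m

/-- the scalars -/
def zGrp (h : Amb H p ω) : Subgroup H where
  carrier := {g | ∃ i : ℕ, mt g = ω ^ i • 1}
  one_mem' := ⟨0, by rw [mt_one, pow_zero, one_smul]⟩
  mul_mem' := by
    rintro g g' ⟨i, hi⟩ ⟨j, hj⟩
    exact ⟨i + j, by rw [mt_mul, hi, hj, Matrix.smul_mul, one_mul, smul_smul, pow_add]⟩
  inv_mem' := by
    rintro g ⟨i, hi⟩
    refine ⟨2 * i, ?_⟩
    calc mt g⁻¹ = mt g⁻¹ * (mt g * ω ^ (2 * i) • (1 : M3)) := by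
          rw [hi, Matrix.smul_mul, one_mul, smul_smul, ← pow_add, show i + 2 * i = 3 * i by ring, pow_mul, h.cube,
            one_pow, one_smul, mul_one]
      _ = _ := by rw [← mul_assoc, mt_inv_mul, one_mul]

namespace Amb

variable (h : Amb H p ω)
include h

theorem mem_r0Grp {g : H} : g ∈ r0Grp h ↔ IsR0 ω (mt g) := Iff.rfl

theorem mem_zGrp {g : H} : g ∈ zGrp h ↔ ∃ i : ℕ, mt g = ω ^ i • 1 := Iff.rfl

theorem mem_zGrp_of_scalar {g : H} {c : F} (e : mt g = c • 1) : g ∈ zGrp h := by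
  obtain ⟨i, -, rfl⟩ := h.scalar_eq (mem_mt g) e
  exact ⟨i, e⟩

theorem zGrp_le_center : zGrp h ≤ Subgroup.center H := by
  rintro g ⟨i, hi⟩
  exact Subgroup.mem_center_iff.2 fun x => mt_inj (by
    rw [mt_mul, mt_mul, hi, Matrix.smul_mul, Matrix.mul_smul, one_mul, mul_one])

theorem zGrp_le : zGrp h ≤ r0Grp h := by
  rintro g ⟨i, hi⟩
  exact h.mem_r0Grp.2 (hi ▸ h.isR0_root i)

theorem card_r0Grp : Nat.card (r0Grp h) = 27 := by
  classical
  have hmem : ∀ a : Fin 3 × Fin 3 × Fin 3, ∃ g : r0Grp h,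
      mt (g : H) = ω ^ (a.1 : ℕ) • (xM ω ^ (a.2.1 : ℕ) * yM ^ (a.2.2 : ℕ)) := fun a => by
    obtain ⟨g, hg⟩ := (h.mem_of_isR0 ⟨a.1, a.2.1, a.2.2, rfl⟩).exists_mt
    exact ⟨⟨g, h.mem_r0Grp.2 ⟨a.1, a.2.1, a.2.2, hg⟩⟩, hg⟩
  choose f hf using hmem
  have hbij : Function.Bijective f := by
    refine ⟨fun a b e => ?_, fun g => ?_⟩
    · have e' : mt (f a : H) = mt (f b : H) := by rw [e]
      rw [hf, hf] at e'
      obtain ⟨hj, hk⟩ := h.param_eq (pow_ne_zero _ h.root_ne_zero) e'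
      rw [← hj, ← hk] at e'
      have hd : (xM ω ^ (a.2.1 : ℕ) * yM ^ (a.2.2 : ℕ)).det ≠ 0 := by
        rw [h.det_eq ((h.memX.pow _).mul (h.memY.pow _))]; exact one_ne_zero
      have hne : xM ω ^ (a.2.1 : ℕ) * yM ^ (a.2.2 : ℕ) ≠ 0 := fun e0 => hd (by rw [e0, Matrix.det_zero])
      exact Prod.ext (h.root_pow_inj (smul_left_injective F hne e')) (Prod.ext hj hk)
    · obtain ⟨i, j, k, e⟩ := h.mem_r0Grp.1 g.2
      exact ⟨(i, j, k), Subtype.ext (mt_inj (by rw [hf, e]))⟩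
  rw [← Nat.card_eq_of_bijective f hbij]
  simp

theorem card_zGrp : Nat.card (zGrp h) = 3 := by
  classical
  have hmem : ∀ a : Fin 3, ∃ g : zGrp h, mt (g : H) = ω ^ (a : ℕ) • 1 := fun a => by
    obtain ⟨g, hg⟩ := (h.mem_of_isR0 (h.isR0_root a)).exists_mt
    exact ⟨⟨g, ⟨a, hg⟩⟩, hg⟩
  choose f hf using hmem
  have hbij : Function.Bijective f := by
    refine ⟨fun a b e => ?_, fun g => ?_⟩
    · have e' : mt (f a : H) = mt (f b : H) := by rw [e]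
      rw [hf, hf] at e'
      exact h.root_pow_inj (smul_left_injective F one_ne_zero e')
    · obtain ⟨i, e⟩ := h.mem_zGrp.1 g.2
      refine ⟨⟨i % 3, Nat.mod_lt _ (by norm_num)⟩, Subtype.ext (mt_inj ?_)⟩
      rw [hf, e]
      exact congrArg (· • (1 : M3)) (pow_eq_pow_mod i h.cube).symm
  rw [← Nat.card_eq_of_bijective f hbij]
  simp

theorem mem_normalizer_iff_nrm0 {g : H} :
    g ∈ Subgroup.normalizer (r0Grp h : Set H) ↔ Nrm0 ω (g : GL3) := by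
  constructor
  · intro hg
    obtain ⟨x, hx⟩ := h.memX.exists_mt
    obtain ⟨y, hy⟩ := h.memY.exists_mt
    refine ⟨⟨mt (g * x * g⁻¹), ?_, ?_⟩, mt (g * y * g⁻¹), ?_, ?_⟩
    · exact (Subgroup.mem_normalizer_iff.1 hg x).1 (h.mem_r0Grp.2 (hx ▸ h.isR0_xM))
    · show mt g * xM ω = _
      rw [← hx]; exact (mt_conj g x).symm
    · exact (Subgroup.mem_normalizer_iff.1 hg y).1 (h.mem_r0Grp.2 (hy ▸ h.isR0_yM))
    · show mt g * yM = _
      rw [← hy]; exact (mt_conj g y).symm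
  · intro hg
    refine Subgroup.mem_normalizer_fintype fun x hx => ?_
    obtain ⟨N, hN, e⟩ := h.nrm0_map hg (h.mem_r0Grp.1 hx)
    exact h.mem_r0Grp.2 (eq_conj_of_mt (g := g) (x := x) e ▸ hN)

/-- a normalising element carrying `X` to a multiple of `X ^ j * Y ^ k` -/
theorem exists_to_xM_grp {j k : Fin 3} (hjk : ¬ (j = 0 ∧ k = 0)) :
    ∃ a : H, a ∈ Subgroup.normalizer (r0Grp h : Set H) ∧
      ∃ c : F, c ≠ 0 ∧ mt a * xM ω = c • (xM ω ^ (j : ℕ) * yM ^ (k : ℕ) * mt a) := by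
  obtain ⟨q, hq, hn, c, hc⟩ := h.exists_to_xM j k hjk
  refine ⟨⟨q, hq⟩, h.mem_normalizer_iff_nrm0.2 hn, c, ?_, hc⟩
  rintro rfl
  rw [zero_smul] at hc
  have := congrArg Matrix.det hc
  rw [Matrix.det_mul, h.det_eq ⟨q, hq, rfl⟩, h.det_eq h.memX, Matrix.det_zero, one_mul] at this
  exact one_ne_zero this

theorem exists_param {x : H} (hx : x ∈ r0Grp h) (hxZ : x ∉ zGrp h) :
    ∃ (j k : Fin 3) (c : F), ¬ (j = 0 ∧ k = 0) ∧ c ≠ 0 ∧ mt x = c • (xM ω ^ (j : ℕ) * yM ^ (k : ℕ)) := by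
  obtain ⟨i, j, k, e⟩ := h.mem_r0Grp.1 hx
  refine ⟨j, k, _, ?_, pow_ne_zero _ h.root_ne_zero, e⟩
  rintro ⟨rfl, rfl⟩
  exact hxZ ⟨i, by simpa using e⟩

/-- the comparison of two conjugates of `X` -/
theorem mem_normalizer_of_semiconj (h9 : p % 9 ≠ 1) {g : H} {j k j' k' : Fin 3} (hjk : ¬ (j = 0 ∧ k = 0))
    (hjk' : ¬ (j' = 0 ∧ k' = 0)) {d : F}
    (e : mt g * (xM ω ^ (j : ℕ) * yM ^ (k : ℕ)) = d • (xM ω ^ (j' : ℕ) * yM ^ (k' : ℕ) * mt g)) :
    ∃ a b r : H, a ∈ Subgroup.normalizer (r0Grp h : Set H) ∧ b ∈ Subgroup.normalizer (r0Grp h : Set H) ∧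
      r ∈ r0Grp h ∧ g = b * r * a⁻¹ ∧ (j = j' → k = k' → a = b) := by
  obtain ⟨a, ha, c, hc0, hc⟩ := h.exists_to_xM_grp hjk
  obtain ⟨b, hb, hbj, c', hc0', hc'⟩ : ∃ b : H, b ∈ Subgroup.normalizer (r0Grp h : Set H) ∧
      (j = j' → k = k' → a = b) ∧ ∃ c' : F, c' ≠ 0 ∧
        mt b * xM ω = c' • (xM ω ^ (j' : ℕ) * yM ^ (k' : ℕ) * mt b) := by
    by_cases hh : j = j' ∧ k = k'
    · exact ⟨a, ha, fun _ _ => rfl, c, hc0, by rw [← hh.1, ← hh.2]; exact hc⟩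
    · obtain ⟨b, hb, r⟩ := h.exists_to_xM_grp hjk'
      exact ⟨b, hb, fun e1 e2 => absurd ⟨e1, e2⟩ hh, r⟩
  have hd' : c'⁻¹ • (mt b * xM ω) = xM ω ^ (j' : ℕ) * yM ^ (k' : ℕ) * mt b := by
    rw [hc', smul_smul, inv_mul_cancel₀ hc0', one_smul]
  have hsplit : xM ω ^ (j' : ℕ) * yM ^ (k' : ℕ) = c'⁻¹ • (mt b * xM ω * mt b⁻¹) := by
    rw [← Matrix.smul_mul, hd', Matrix.mul_assoc, mt_mul_inv, mul_one]
  have key : mt (b⁻¹ * g * a) * xM ω = (c * d * c'⁻¹) • (xM ω * mt (b⁻¹ * g * a)) := by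
    calc mt (b⁻¹ * g * a) * xM ω
        = c • (mt b⁻¹ * (mt g * (xM ω ^ (j : ℕ) * yM ^ (k : ℕ))) * mt a) := by
          rw [mt_mul, mt_mul, Matrix.mul_assoc, hc, Matrix.mul_smul]
          simp only [Matrix.mul_assoc]
      _ = (c * d) • (mt b⁻¹ * (xM ω ^ (j' : ℕ) * yM ^ (k' : ℕ)) * (mt g * mt a)) := by
          rw [e, Matrix.mul_smul, Matrix.smul_mul, smul_smul]
          simp only [Matrix.mul_assoc]
      _ = (c * d * c'⁻¹) • (xM ω * mt (b⁻¹ * g * a)) := by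
          rw [hsplit, Matrix.mul_smul, Matrix.smul_mul, smul_smul, mt_mul, mt_mul]
          simp only [← Matrix.mul_assoc]
          rw [mt_inv_mul, one_mul]
  refine ⟨a, b, b⁻¹ * g * a, ha, hb, h.mem_r0Grp.2 (h.isR0_of_comm_xM h9 (mem_mt _) key), by group, hbj⟩

theorem ti (h9 : p % 9 ≠ 1) : ∀ g : H, ∀ x ∈ r0Grp h, x ∉ zGrp h → g * x * g⁻¹ ∈ r0Grp h →
    g ∈ Subgroup.normalizer (r0Grp h : Set H) := by
  intro g x hx hxZ hy
  have hyZ : g * x * g⁻¹ ∉ zGrp h := fun hz => hxZ (by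
    have := Subgroup.mem_center_iff.1 (h.zGrp_le_center hz) g
    rw [inv_mul_cancel_right, mul_right_inj] at this
    rwa [this] at hz)
  obtain ⟨j, k, c, hjk, hc, ex⟩ := h.exists_param hx hxZ
  obtain ⟨j', k', c', hjk', -, ey⟩ := h.exists_param hy hyZ
  have e : mt g * (xM ω ^ (j : ℕ) * yM ^ (k : ℕ)) =
      (c⁻¹ * c') • (xM ω ^ (j' : ℕ) * yM ^ (k' : ℕ) * mt g) := by
    rw [← smul_smul, ← Matrix.smul_mul c', ← ey, mt_conj, ex, Matrix.mul_smul, smul_smul, inv_mul_cancel₀ hc,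
      one_smul]
  obtain ⟨a, b, r, ha, hb, hr, rfl, -⟩ := h.mem_normalizer_of_semiconj h9 hjk hjk' e
  exact mul_mem (mul_mem hb (Subgroup.le_normalizer hr)) (inv_mem ha)

theorem centR (h9 : p % 9 ≠ 1) : ∀ x ∈ r0Grp h, x ∉ zGrp h → ∀ g : H, Commute g x → g ∈ r0Grp h := by
  intro x hx hxZ g hg
  obtain ⟨j, k, c, hjk, hc, ex⟩ := h.exists_param hx hxZ
  have e : mt g * (xM ω ^ (j : ℕ) * yM ^ (k : ℕ)) = (1 : F) • (xM ω ^ (j : ℕ) * yM ^ (k : ℕ) * mt g) := by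
    have e := congrArg mt hg.eq
    rw [mt_mul, mt_mul, ex, Matrix.mul_smul, Matrix.smul_mul] at e
    rw [one_smul]
    exact smul_right_injective M3 hc e
  obtain ⟨a, b, r, ha, hb, hr, rfl, hab⟩ := h.mem_normalizer_of_semiconj h9 hjk hjk e
  rw [← hab rfl rfl] at *
  exact (Subgroup.mem_normalizer_iff.1 ha r).1 hr

theorem card_normalizer (h9 : p % 9 ≠ 1) : Nat.card (Subgroup.normalizer (r0Grp h : Set H)) = 216 := by
  classical
  set N : Subgroup H := Subgroup.normalizer (r0Grp h : Set H) with hN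
  choose q hq c hc0 hc using fun a : {a : Fin 3 × Fin 3 // ¬ (a.1 = 0 ∧ a.2 = 0)} => h.exists_to_xM_grp a.2
  let f : {a : Fin 3 × Fin 3 // ¬ (a.1 = 0 ∧ a.2 = 0)} × r0Grp h → N :=
    fun a => ⟨q a.1 * a.2, mul_mem (hq a.1) (Subgroup.le_normalizer a.2.2)⟩
  have himg : ∀ a, ∀ r : H, r ∈ r0Grp h → ∃ d : F, d ≠ 0 ∧ mt (q a * r) * xM ω =
      d • (xM ω ^ (a.1.1 : ℕ) * yM ^ (a.1.2 : ℕ) * mt (q a * r)) := by
    intro a r hr
    obtain ⟨i, j, k, e⟩ := h.mem_r0Grp.1 hr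
    have hk : yM ^ (k : ℕ) * xM ω = ω ^ (2 * (k : ℕ)) • (xM ω * yM ^ (k : ℕ)) := by
      simpa using h.yM_pow_xM_pow (k : ℕ) 1
    have hr' : mt r * xM ω = ω ^ (2 * (k : ℕ)) • (xM ω * mt r) := by
      rw [e, Matrix.smul_mul, Matrix.mul_assoc, hk, Matrix.mul_smul, ← Matrix.mul_assoc, ← pow_succ,
        Matrix.mul_smul, smul_smul, smul_smul, ← Matrix.mul_assoc (xM ω), ← pow_succ', mul_comm]
    refine ⟨ω ^ (2 * (k : ℕ)) * c a, mul_ne_zero (pow_ne_zero _ h.root_ne_zero) (hc0 a), ?_⟩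
    rw [mt_mul, Matrix.mul_assoc, hr', Matrix.mul_smul, ← Matrix.mul_assoc, hc, Matrix.smul_mul, smul_smul,
      Matrix.mul_assoc]
  have hbij : Function.Bijective f := by
    refine ⟨?_, ?_⟩
    · rintro ⟨a, r⟩ ⟨b, s⟩ e
      have e' : q a * (r : H) = q b * (s : H) := congrArg Subtype.val e
      obtain ⟨d, hd, e1⟩ := himg a r r.2
      obtain ⟨d', hd', e2⟩ := himg b s s.2
      rw [e'] at e1
      have e3 := e1.symm.trans e2
      have e4 := congrArg (· * mt (q b * (s : H))⁻¹) e3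
      simp only [Matrix.smul_mul, Matrix.mul_assoc, mt_mul_inv, mul_one] at e4
      obtain ⟨hj, hk⟩ := h.param_eq hd e4
      have hab : a = b := Subtype.ext (Prod.ext hj hk)
      subst hab
      exact Prod.ext rfl (Subtype.ext (mul_left_cancel e'))
    · rintro ⟨g, hg⟩
      obtain ⟨x, hx⟩ := h.memX.exists_mt
      have hxR : x ∈ r0Grp h := h.mem_r0Grp.2 (hx ▸ h.isR0_xM)
      have hxZ : x ∉ zGrp h := by
        rintro ⟨i, hi⟩
        have h00 := congrFun (congrFun (hx.symm.trans hi) 0) 0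
        have h11 := congrFun (congrFun (hx.symm.trans hi) 1) 1
        simp [xM, dg] at h00 h11
        exact h.root_ne_one (h11.trans h00.symm)
      have hyR : g * x * g⁻¹ ∈ r0Grp h := (Subgroup.mem_normalizer_iff.1 hg x).1 hxR
      have hyZ : g * x * g⁻¹ ∉ zGrp h := fun hz => hxZ (by
        have := Subgroup.mem_center_iff.1 (h.zGrp_le_center hz) g
        rw [inv_mul_cancel_right, mul_right_inj] at this
        rwa [this] at hz)
      obtain ⟨j, k, c', hjk, hc', ey⟩ := h.exists_param hyR hyZ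
      have e : mt g * xM ω = c' • (xM ω ^ (j : ℕ) * yM ^ (k : ℕ) * mt g) := by
        rw [← Matrix.smul_mul, ← ey, mt_conj, hx]
      set a : {a : Fin 3 × Fin 3 // ¬ (a.1 = 0 ∧ a.2 = 0)} := ⟨(j, k), hjk⟩
      have hs : xM ω ^ (j : ℕ) * yM ^ (k : ℕ) = (c a)⁻¹ • (mt (q a) * xM ω * mt (q a)⁻¹) := by
        rw [← Matrix.smul_mul, hc a, smul_smul, inv_mul_cancel₀ (hc0 a), one_smul, Matrix.mul_assoc, mt_mul_inv,
          mul_one]
      have key : mt ((q a)⁻¹ * g) * xM ω = (c' * (c a)⁻¹) • (xM ω * mt ((q a)⁻¹ * g)) := by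
        rw [mt_mul, Matrix.mul_assoc, e, hs, Matrix.mul_smul, Matrix.smul_mul, Matrix.mul_smul, smul_smul]
        simp only [← Matrix.mul_assoc]
        rw [mt_inv_mul, one_mul]
      exact ⟨(a, ⟨(q a)⁻¹ * g, h.mem_r0Grp.2 (h.isR0_of_comm_xM h9 (mem_mt _) key)⟩),
        Subtype.ext (mul_inv_cancel_left _ _)⟩
  rw [← Nat.card_eq_of_bijective f hbij, Nat.card_prod, h.card_r0Grp, Nat.card_eq_fintype_card]
  rfl

theorem not_eightyone (h9 : p % 9 ≠ 1) : ¬ 81 ∣ Nat.card H := by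
  intro h81
  have : Fact (Nat.Prime 3) := ⟨Nat.prime_three⟩
  have := Sylow.prime_pow_dvd_card_normalizer (p := 3) (n := 3) (H := r0Grp h)
    (by norm_num; exact h81) (by rw [h.card_r0Grp]; norm_num)
  rw [h.card_normalizer h9] at this
  norm_num at this

end Amb

end Cfsg.Agent.Forms.Max.SL3.SympType
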