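import Mathlib
import Cfsg.Agent.Lib.Forms.Max.SL3.SympType.Grp

/-!
# The centraliser of the involution in its frame, and homologies centred at its point
-/

set_option autoImplicit false
set_option linter.unusedSectionVars false

namespace Cfsg.Agent.Forms.Max.SL3.SympType

open Matrix

variable {F : Type*} [Field F] [Fintype F] {H : Subgroup (GL (Fin 3) F)} {p : ℕ} {ω : F}

local notation "M3" => Matrix (Fin 3) (Fin 3) F
local notation "M2" => Matrix (Fin 2) (Fin 2) F
local notation "GL3" => GL (Fin 3) F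

/-- a matrix in the frame of the involution -/
noncomputable def nMat (M : Matrix (Fin 3) (Fin 3) F) : Matrix (Fin 3) (Fin 3) F := bL⁻¹ * M * bL

/-- the eigenvalue at the point of the involution -/
noncomputable def aM (g : H) : F := nMat (mt g) 0 0

/-- the action on the axis of the involution -/
noncomputable def wM (g : H) : Matrix (Fin 2) (Fin 2) F :=
  !![nMat (mt g) 1 1, nMat (mt g) 1 2; nMat (mt g) 2 1, nMat (mt g) 2 2]

namespace Amb

variable (h : Amb H p ω)
include h

theorem det_bL_ne : (bL : M3).det ≠ 0 := by rw [det_bL]; exact neg_ne_zero.2 h.two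

theorem bL_unit : IsUnit (bL : M3).det := isUnit_iff_ne_zero.2 h.det_bL_ne

theorem bL_nMat (M : M3) : bL * nMat M = M * bL := by
  rw [nMat, ← Matrix.mul_assoc, ← Matrix.mul_assoc, Matrix.mul_nonsing_inv _ h.bL_unit, one_mul]

theorem nMat_of_blk {M : M3} {a : F} {W : M2} (e : M * bL = bL * blk a W) : nMat M = blk a W := by
  rw [nMat, Matrix.mul_assoc, e, ← Matrix.mul_assoc, Matrix.nonsing_inv_mul _ h.bL_unit, one_mul]

theorem of_blk {g : H} {a : F} {W : M2} (e : mt g * bL = bL * blk a W) : aM g = a ∧ wM g = W := by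
  refine ⟨by simp [aM, h.nMat_of_blk e, blk], ?_⟩
  rw [wM, h.nMat_of_blk e]
  ext i j
  fin_cases i <;> fin_cases j <;> simp [blk]

theorem eq_of_blk {g g' : H} {a : F} {W : M2} (e : mt g * bL = bL * blk a W) (e' : mt g' * bL = bL * blk a W) :
    g = g' := mt_inj (by
  have := congrArg (fun M => M * (bL : M3)⁻¹) (e.trans e'.symm)
  simpa [Matrix.mul_assoc, Matrix.mul_nonsing_inv _ h.bL_unit] using this)

theorem exists_t : ∃ t : H, mt t = tM := h.memT.exists_mt

theorem comm_of_blk {g t : H} (ht : mt t = tM) {a : F} {W : M2} (e : mt g * bL = bL * blk a W) : Commute g t := by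
  refine mt_inj ?_
  rw [mt_mul, mt_mul, ht]
  have e1 : mt g * tM * bL = tM * mt g * bL := by
    rw [Matrix.mul_assoc, tM_bL, ← Matrix.mul_assoc, e, Matrix.mul_assoc tM, e, ← Matrix.mul_assoc tM, tM_bL,
      Matrix.mul_assoc, Matrix.mul_assoc, blk_mul, blk_mul, mul_one, one_mul, mul_neg_one, neg_one_mul]
  have := congrArg (fun M => M * (bL : M3)⁻¹) e1
  simpa [Matrix.mul_assoc, Matrix.mul_nonsing_inv _ h.bL_unit] using this

theorem blk_of_comm {g t : H} (ht : mt t = tM) (hg : Commute g t) : mt g * bL = bL * blk (aM g) (wM g) := by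
  have e := congrArg mt hg.eq
  rw [mt_mul, mt_mul, ht] at e
  have e1 : nMat (mt g) * blk 1 (-1) = blk 1 (-1) * nMat (mt g) := by
    have := congrArg (fun M => (bL : M3)⁻¹ * M) (congrArg (· * (bL : M3)) e)
    have h1 : (bL : M3)⁻¹ * (mt g * tM * bL) = nMat (mt g) * blk 1 (-1) := by
      rw [nMat, Matrix.mul_assoc (mt g), tM_bL]; simp only [Matrix.mul_assoc]
    have h2 : (bL : M3)⁻¹ * (tM * mt g * bL) = blk 1 (-1) * nMat (mt g) := by
      rw [Matrix.mul_assoc tM, ← h.bL_nMat, ← Matrix.mul_assoc tM, tM_bL, Matrix.mul_assoc,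
        ← Matrix.mul_assoc (bL : M3)⁻¹, Matrix.nonsing_inv_mul _ h.bL_unit, one_mul]
    rwa [h1, h2] at this
  have h2 := h.two
  have key : nMat (mt g) = blk (aM g) (wM g) := by
    have z01 := congrFun (congrFun e1 0) 1
    have z02 := congrFun (congrFun e1 0) 2
    have z10 := congrFun (congrFun e1 1) 0
    have z20 := congrFun (congrFun e1 2) 0
    simp [blk, Matrix.mul_apply, Fin.sum_univ_three] at z01 z02 z10 z20
    ext i j
    fin_cases i <;> fin_cases j <;> simp [blk, aM, wM]
    all_goals grind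
  rw [← h.bL_nMat, key]

theorem aM_wM_mul {g g' t : H} (ht : mt t = tM) (hg : Commute g t) (hg' : Commute g' t) :
    aM (g * g') = aM g * aM g' ∧ wM (g * g') = wM g * wM g' :=
  h.of_blk (by
    rw [mt_mul, Matrix.mul_assoc, h.blk_of_comm ht hg', ← Matrix.mul_assoc, h.blk_of_comm ht hg, Matrix.mul_assoc,
      blk_mul])

theorem det_wM {g t : H} (ht : mt t = tM) (hg : Commute g t) : aM g * (wM g).det = 1 := by
  have := congrArg Matrix.det (h.blk_of_comm ht hg)
  rw [Matrix.det_mul, Matrix.det_mul, det_blk, h.det_eq (mem_mt g), one_mul] at this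
  exact mul_left_cancel₀ h.det_bL_ne (by rw [mul_one]; exact this.symm)

theorem eq_of_wM {g g' t : H} (ht : mt t = tM) (hg : Commute g t) (hg' : Commute g' t) (e : wM g = wM g') :
    g = g' := by
  have ea : aM g = aM g' := by
    have h1 := h.det_wM ht hg
    have h2 := h.det_wM ht hg'
    rw [e] at h1
    exact mul_right_cancel₀ (right_ne_zero_of_mul_eq_one h2) (h1.trans h2.symm)
  exact h.eq_of_blk (h.blk_of_comm ht hg) (by rw [ea, e]; exact h.blk_of_comm ht hg')

theorem blk_smul_one (a c : F) (hc : c ≠ 0) :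
    (bL : M3) * blk a (c • (1 : M2)) = hom c (a / c) ![0, 1, -1] ![0, 1 / 2, -(1 / 2)] * bL := by
  have h2 := h.two
  ext i j
  fin_cases i <;> fin_cases j <;>
    simp [hom, bL, blk, Matrix.vecMulVec_apply, Matrix.mul_apply, Fin.sum_univ_three] <;> field_simp <;> ring

/-- **The ratio at the point of the involution is a sign.** -/
theorem scalarW (h9 : p % 9 ≠ 1) {g t : H} (ht : mt t = tM) (hg : Commute g t) {c : F} (hW : wM g = c • 1) :
    aM g * aM g = c * c := by
  haveI := h.fact
  have hd := h.det_wM ht hg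
  rw [hW, Matrix.det_smul, Fintype.card_fin, Matrix.det_one, mul_one] at hd
  have hc0 : c ≠ 0 := by rintro rfl; simp at hd
  have ha0 : aM g ≠ 0 := left_ne_zero_of_mul_eq_one hd
  set v : F := aM g / c with hv
  have hv0 : v ≠ 0 := div_ne_zero ha0 hc0
  suffices hvv : v * v = 1 by
    rw [hv, div_mul_div_comm, div_eq_one_iff_eq (mul_ne_zero hc0 hc0)] at hvv
    exact hvv
  by_contra hvv
  have hv3 : v ^ 3 ≠ 1 := by
    intro e
    have hvc : v * c ^ 3 = 1 := by rw [hv]; field_simp; linear_combination hd
    have h3 : c ^ 3 = 1 := h.cube_of_ninth h9 (by linear_combination (-(c ^ 9)) * e + ((v * c ^ 3) ^ 2 + v * c ^ 3 + 1) * hvc)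
    rw [h3, mul_one] at hvc
    exact hvv (by rw [hvc, mul_one])
  set P : Fin 3 → F := ![0, 1, -1] with hP
  set φ : Fin 3 → F := ![0, 1 / 2, -(1 / 2)] with hφ
  have hM : Mem H (hom c v P φ) := by
    have e := h.blk_of_comm ht hg
    rw [hW, h.blk_smul_one _ _ hc0] at e
    have := congrArg (fun M => M * (bL : M3)⁻¹) e
    simp only [Matrix.mul_assoc, Matrix.mul_nonsing_inv _ h.bL_unit, mul_one] at this
    exact this ▸ mem_mt g
  set P' : Fin 3 → F := ![0, ω, -ω ^ 2] with hP'
  set φ' : Fin 3 → F := ![0, ω ^ 2 / 2, -(ω / 2)] with hφ'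
  have hM' : Mem H (hom c v P' φ') := by
    have h1 := (h.memX.mul hM).mul (h.memX.pow 2)
    convert h1 using 1
    rw [xM_pow, hom, hom, Matrix.mul_smul, Matrix.smul_mul]
    congr 1
    have hcube := h.cube
    rw [mul_add, mul_one, add_mul, Matrix.mul_smul, Matrix.smul_mul, Matrix.mul_vecMulVec, Matrix.vecMulVec_mul]
    congr 1
    · rw [xM, dg_mul, ← dg_one]
      congr 1
      · rw [one_mul]
      · linear_combination -hcube
      · linear_combination -(ω ^ 3 + 1) * hcube
    · congr 2 <;> funext i <;> fin_cases i <;>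
        simp [P, φ, P', φ', xM, dg, Matrix.mulVec, Matrix.vecMul, dotProduct, Fin.sum_univ_three] <;> grind
  have h2 := h.two
  have h3 := h.three
  have hτ : (φ ⬝ᵥ P') * (φ' ⬝ᵥ P) = 1 / 4 := by
    have hr := h.root
    simp [P, φ, P', φ', dotProduct, Fin.sum_univ_three]
    grind
  have h4 : (4 : F) ≠ 0 := by exact_mod_cast h.nat_ne 4 (by norm_num) (by decide +kernel)
  have hc := pair_tau p h.card h.two_ne h.noTr hM hM' hc0 hc0 hvv hv0
    (by simp [P, φ, dotProduct, Fin.sum_univ_three]; field_simp; ring)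
    (by have hcube := h.cube
        simp [P', φ', dotProduct, Fin.sum_univ_three]; field_simp; linear_combination 2 * hcube)
    (by rw [hτ]; exact div_ne_zero one_ne_zero h4)
    (by rw [hτ]; intro e; rw [div_eq_one_iff_eq h4] at e; exact h3 (by linear_combination -e))
  rw [hτ] at hc
  rcases hc with ⟨hk, ht', -⟩ | ⟨hk, ht', -⟩
  · have hv4 : v ^ 4 = 1 := hk.resolve_left hv3
    have hw : v + v⁻¹ = 0 := by
      have : (v * v - 1) * (v ^ 2 + 1) = 0 := by linear_combination hv4
      have hv2 := (mul_eq_zero.1 this).resolve_left (sub_ne_zero.2 hvv)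
      field_simp
      linear_combination hv2
    rw [hw, zero_add, sub_zero, mul_one_div] at ht'
    rcases ht' with e | e | e
    · exact div_ne_zero h2 h4 e
    · field_simp at e
      exact h.nat_ne 12 (by norm_num) (by decide +kernel) (by push_cast; linear_combination -e)
    · field_simp at e
      have h7 : p = 7 := h.eq_seven (by linear_combination -e)
      have h6 := h.pow_card_sub hv0
      rw [h7] at h6
      exact hvv (by linear_combination h6 - v ^ 2 * hv4)
  · have hv5 : v ^ 5 = 1 := hk.resolve_left hv3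
    have hv1 : v ≠ 1 := fun e => hvv (by rw [e, mul_one])
    set w : F := v + v⁻¹ with hwdef
    have hw : w ^ 2 + w - 1 = 0 := by
      have : (v - 1) * (v ^ 4 + v ^ 3 + v ^ 2 + v + 1) = 0 := by linear_combination hv5
      have := (mul_eq_zero.1 this).resolve_left (sub_ne_zero.2 hv1)
      rw [hwdef]
      field_simp
      linear_combination this
    rw [show w + (2 - w) * (1 / 4) = (3 * w + 2) / 4 by field_simp; ring] at ht'
    have h11 : (11 : F) ≠ 0 := by exact_mod_cast h.nat_ne 11 (by norm_num) (by decide +kernel)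
    rcases ht' with e | e | e
    · have k : 3 * w + 2 = 0 := (div_eq_zero_iff.1 e).resolve_right h4
      exact h11 (by linear_combination -9 * hw + (3 * w + 1) * k)
    · field_simp at e
      have k : (3 : F) * (w - 1) = 0 := by linear_combination e - 9 * hw
      have k1 := (mul_eq_zero.1 k).resolve_left h3
      exact one_ne_zero (α := F) (by linear_combination hw - (w + 2) * k1)
    · have e' : (3 * w + 2) ^ 4 - 48 * (3 * w + 2) ^ 2 + 256 = 0 := by
        field_simp at e
        linear_combination e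
      have k : (5 : F) * (15 * w + 38) = 0 := by
        linear_combination -e' + (54 * w - 189 + 81 * (w ^ 2 + w - 1)) * hw
      have h5 : (5 : F) ≠ 0 := by exact_mod_cast h.nat_ne 5 (by norm_num) (by decide +kernel)
      have k1 := (mul_eq_zero.1 k).resolve_left h5
      exact h.nat_ne 649 (by norm_num) (by decide +kernel)
        (by push_cast; linear_combination 225 * hw - (15 * w - 23) * k1)

end Amb

end Cfsg.Agent.Forms.Max.SL3.SympType
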