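import Mathlib
import Cfsg.Agent.Lib.Forms.Max.SL3.SympType.Frame

/-!
# The centraliser of the involution
-/

set_option autoImplicit false
set_option linter.unusedSectionVars false

namespace Cfsg.Agent.Forms.Max.SL3.SympType

open Matrix

variable {F : Type*} [Field F] [Fintype F] {H : Subgroup (GL (Fin 3) F)} {p : ℕ} {ω : F}

local notation "M3" => Matrix (Fin 3) (Fin 3) F
local notation "M2" => Matrix (Fin 2) (Fin 2) F
local notation "GL3" => GL (Fin 3) F

/-- the centralising subgroup of two elements and its complement -/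
theorem card_two_cosets {G : Type*} [Group G] [Finite G] {A B : Subgroup G} (hAB : A ≤ B) {g : G} (hg : g ∈ B)
    (hg' : g ∉ A) (hmul : ∀ x ∈ B, x ∉ A → g⁻¹ * x ∈ A) :
    Nat.card B = 2 * Nat.card A ∧ Nat.card {x : G // x ∈ B ∧ x ∉ A} = Nat.card A := by
  have e : Nat.card {x : G // x ∈ B ∧ x ∉ A} = Nat.card A := by
    refine Nat.card_congr
      { toFun := fun x => ⟨g⁻¹ * x.1, hmul _ x.2.1 x.2.2⟩
        invFun := fun a => ⟨g * a, mul_mem hg (hAB a.2), fun ha => hg' (by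
          simpa using mul_mem ha (inv_mem a.2))⟩
        left_inv := fun x => Subtype.ext (mul_inv_cancel_left g x.1)
        right_inv := fun a => Subtype.ext (inv_mul_cancel_left g (a : G)) }
  refine ⟨?_, e⟩
  have h := Set.ncard_sdiff_add_ncard_of_subset (show (A : Set G) ⊆ B from hAB)
  rw [← Nat.card_coe_set_eq, ← Nat.card_coe_set_eq, ← Nat.card_coe_set_eq] at h
  simp only [SetLike.coe_sort_coe] at h
  rw [two_mul, ← h]
  congr 1

namespace Amb

variable (h : Amb H p ω)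
include h

theorem finite_grp : Finite H := inferInstance

theorem eq_smul_one_of_blk {g : H} {c : F} (e : mt g * bL = bL * blk c (c • (1 : M2))) : mt g = c • 1 := by
  have e1 : blk c (c • (1 : M2)) = c • (1 : M3) := by
    ext i j
    fin_cases i <;> fin_cases j <;> simp [blk]
  rw [e1, Matrix.mul_smul, mul_one] at e
  have := congrArg (fun M => M * (bL : M3)⁻¹) e
  simpa [Matrix.mul_assoc, Matrix.mul_nonsing_inv _ h.bL_unit, Matrix.smul_mul] using this

theorem mem_Z_iff {g t : H} (ht : mt t = tM) (hg : Commute g t) : g ∈ zGrp h ↔ wM g = aM g • 1 := by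
  constructor
  · rintro ⟨i, hi⟩
    have e : mt g * bL = bL * blk (ω ^ i) (ω ^ i • (1 : M2)) := by
      rw [hi, Matrix.smul_mul, one_mul]
      ext a b
      fin_cases a <;> fin_cases b <;> simp [bL, blk, Matrix.mul_apply, Fin.sum_univ_three]
    obtain ⟨ea, ew⟩ := h.of_blk e
    rw [ea, ew]
  · intro e
    exact h.mem_zGrp_of_scalar (h.eq_smul_one_of_blk (by rw [← e]; exact h.blk_of_comm ht hg))

theorem t_blk {t : H} (ht : mt t = tM) : mt t * bL = bL * blk 1 (-1 : M2) := by rw [ht, tM_bL]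

theorem mem_Z_or {g t : H} (h9 : p % 9 ≠ 1) (ht : mt t = tM) (hg : Commute g t) {c : F} (hW : wM g = c • 1) :
    g ∈ zGrp h ∨ t * g ∈ zGrp h := by
  rcases mul_self_eq_mul_self_iff.1 (h.scalarW h9 ht hg hW) with e | e
  · exact Or.inl ((h.mem_Z_iff ht hg).2 (by rw [hW, e]))
  · refine Or.inr ((h.mem_Z_iff ht ((Commute.refl t).mul_left hg)).2 ?_)
    obtain ⟨ea, ew⟩ := h.of_blk (h.t_blk ht)
    obtain ⟨ea', ew'⟩ := h.aM_wM_mul ht (Commute.refl t) hg
    rw [ea', ew', ea, ew, hW, e, one_mul, neg_one_mul, neg_smul]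

theorem z_cube {g : H} (hg : g ∈ zGrp h) : g ^ 3 = 1 := by
  obtain ⟨i, hi⟩ := hg
  exact mt_inj (by rw [mt_pow, hi, smul_pow, one_pow, ← pow_mul, mul_comm, pow_mul, h.cube, one_pow, one_smul, mt_one])

theorem t_sq {t : H} (ht : mt t = tM) : t * t = 1 := mt_inj (by
  rw [mt_mul, mt_one, ht]
  ext i j
  fin_cases i <;> fin_cases j <;> simp [tM, Matrix.mul_apply, Fin.sum_univ_three])

theorem t_ne {t : H} (ht : mt t = tM) : t ≠ 1 := by
  rintro rfl
  rw [mt_one] at ht
  have := congrFun (congrFun ht 0) 0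
  simp [tM] at this
  exact h.two (by linear_combination this)

theorem t_order {t : H} (ht : mt t = tM) : orderOf t = 2 :=
  orderOf_eq_prime (by rw [pow_two, h.t_sq ht]) (h.t_ne ht)

theorem exists_conj_mem_r0 (h9 : p % 9 ≠ 1) {x : H} {n : ℕ} (hx : x ^ 3 ^ n = 1) :
    ∃ k : H, k * x * k⁻¹ ∈ r0Grp h := by
  have : Fact (Nat.Prime 3) := ⟨Nat.prime_three⟩
  obtain ⟨Q, hQ⟩ := (IsPGroup.of_card (G := r0Grp h) (p := 3) (n := 3)
    (by rw [h.card_r0Grp]; norm_num)).exists_le_sylow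
  have hQ' : (Q : Subgroup H) = r0Grp h := by
    obtain ⟨k, hk⟩ := IsPGroup.iff_card.1 Q.2
    have hk3 : k ≤ 3 := by
      by_contra hc
      exact h.not_eightyone h9 (dvd_trans (by
        rw [hk]
        exact (pow_dvd_pow 3 (show 4 ≤ k by omega))) (Subgroup.card_subgroup_dvd_card _))
    refine (Subgroup.eq_of_le_of_card_ge hQ ?_).symm
    rw [hk, h.card_r0Grp]
    calc 3 ^ k ≤ 3 ^ 3 := Nat.pow_le_pow_right (by norm_num) hk3
      _ = 27 := by norm_num
  obtain ⟨k, -, hk⟩ := (Nat.dvd_prime_pow Nat.prime_three).1 (orderOf_dvd_of_pow_eq_one hx)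
  obtain ⟨P, hP⟩ := (IsPGroup.of_card (G := Subgroup.zpowers x) (p := 3) (n := k)
    (by rw [Nat.card_zpowers, hk])).exists_le_sylow
  obtain ⟨c, hc⟩ := MulAction.exists_smul_eq H P Q
  refine ⟨c, hQ' ▸ hc ▸ ?_⟩
  rw [Sylow.coe_subgroup_smul]
  exact Subgroup.smul_mem_pointwise_smul x (MulAut.conj c) (P : Subgroup H) (hP (Subgroup.mem_zpowers x))

theorem odd_r0 {x : H} (hx : x ∈ r0Grp h) (h2 : x * x = 1) : x = 1 := by
  have h27 := congrArg Subtype.val (pow_card_eq_one' (x := (⟨x, hx⟩ : r0Grp h)))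
  simp only [h.card_r0Grp, SubmonoidClass.coe_pow, OneMemClass.coe_one] at h27
  rw [show (27 : ℕ) = 2 * 13 + 1 from rfl, pow_succ, pow_mul, pow_two, h2, one_pow, one_mul] at h27
  exact h27

theorem aM_wM_pow {g t : H} (ht : mt t = tM) (hg : Commute g t) (n : ℕ) :
    aM (g ^ n) = aM g ^ n ∧ wM (g ^ n) = wM g ^ n :=
  h.of_blk (by
    have := SemiconjBy.pow_right (show SemiconjBy (bL : M3) (blk (aM g) (wM g)) (mt g) from (h.blk_of_comm ht hg).symm) n
    rw [mt_pow, ← blk_pow]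
    exact this.eq.symm)

/-- no element of the centraliser has projective order three on the axis -/
theorem no_three (h9 : p % 9 ≠ 1) {g t : H} (ht : mt t = tM) (hg : Commute g t) (hW : ¬ Scal (wM g))
    {s : F} (h3 : wM g ^ 3 = s • 1) : False := by
  obtain ⟨a3, w3⟩ := h.aM_wM_pow ht hg 3
  obtain ⟨a6, w6⟩ := h.aM_wM_pow ht hg 6
  rw [h3] at w3
  have hs := h.scalarW h9 ht (hg.pow_left 3) w3
  rw [a3] at hs
  have hZ : g ^ 6 ∈ zGrp h := (h.mem_Z_iff ht (hg.pow_left 6)).2 (by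
    rw [w6, a6, show wM g ^ 6 = (wM g ^ 3) ^ 2 by rw [← pow_mul], h3, smul_pow, one_pow]
    congr 1
    linear_combination -hs)
  have hx : (g ^ 2) ^ 3 ^ 2 = 1 := by
    rw [← pow_mul, show 2 * 3 ^ 2 = 6 * 3 from rfl, pow_mul, h.z_cube hZ]
  obtain ⟨k, hk⟩ := h.exists_conj_mem_r0 h9 hx
  have hkZ : k * g ^ 2 * k⁻¹ ∉ zGrp h := by
    intro hz
    have e := Subgroup.mem_center_iff.1 (h.zGrp_le_center hz) k
    rw [inv_mul_cancel_right, mul_right_inj] at e
    rw [e] at hz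
    have e2 := (h.mem_Z_iff ht (hg.pow_left 2)).1 hz
    obtain ⟨a2, w2⟩ := h.aM_wM_pow ht hg 2
    rw [w2, a2] at e2
    have ha : aM g ^ 2 ≠ 0 := pow_ne_zero _ (left_ne_zero_of_mul_eq_one (h.det_wM ht hg))
    refine hW ⟨(aM g ^ 2)⁻¹ * s, ?_⟩
    rw [← smul_smul, ← h3, pow_succ (wM g) 2, e2, Matrix.smul_mul, one_mul, smul_smul, inv_mul_cancel₀ ha, one_smul]
  have hR := h.centR h9 _ hk hkZ (k * t * k⁻¹) (Commute.map (hg.pow_left 2).symm (MulAut.conj k).toMonoidHom)
  have := h.odd_r0 hR (by rw [show k * t * k⁻¹ * (k * t * k⁻¹) = k * (t * t) * k⁻¹ by group, h.t_sq ht]; group)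
  exact h.t_ne ht (conj_eq_one_iff.1 this)

end Amb

/-- the central element of the centraliser modulo scalars on the axis -/
structure Setup (h : Amb H p ω) where
  t : H
  q : H
  f : H
  E : Matrix (Fin 2) (Fin 2) F
  ht : mt t = tM
  hq : mt q * bL = bL * blk 1 E
  hf : Commute f t
  fa : aM f = 1
  fanti : wM f * E = -(E * wM f)
  E01 : E 0 1 ≠ 0
  EE : E * E = -1
  Etr : E.trace = 0
  pc : ∀ g : H, Commute g t → ∃ c : F, wM g * E = c • (E * wM g)

namespace Amb

variable (h : Amb H p ω)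
include h

theorem exists_setup (h9 : p % 9 ≠ 1) : Nonempty (Setup h) := by
  have : Fact p.Prime := h.fact
  have hG := planeGroup_pow_eq_one p h.card h.noTr h.det_bL_ne
  obtain ⟨t, ht⟩ := h.exists_t
  obtain ⟨f, hf⟩ := h.memF.exists_mt
  obtain ⟨q, hq⟩ := h.memQ.exists_mt
  have ef : mt f * bL = bL * blk 1 (fW ω) := hf ▸ fM_bL h.root h.sub_sq
  have eq : mt q * bL = bL * blk 1 (qW ω) := hq ▸ qM_bL h.root h.sub_sq
  have eP : mt (f * q) * bL = bL * blk 1 (fW ω * qW ω) := by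
    rw [mt_mul, Matrix.mul_assoc, eq, ← Matrix.mul_assoc, ef, Matrix.mul_assoc, blk_mul, one_mul]
  have hft := h.comm_of_blk ht ef
  have hqt := h.comm_of_blk ht eq
  obtain ⟨a, ha, ea⟩ := mem_planeGroup_of_mem h.det_bL_ne h.memF (fM_bL h.root h.sub_sq)
  obtain ⟨b, hb, eb⟩ := mem_planeGroup_of_mem h.det_bL_ne h.memQ (qM_bL h.root h.sub_sq)
  have hsr := h.sr_ne
  have hsq := h.sr_sq
  have h2 := h.two
  have h3 := h.three
  have hr := h.root
  have hne := h.root_ne_one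
  have ea2 : fW ω * fW ω = (-1 : M2) := by
    ext i j; fin_cases i <;> fin_cases j <;> simp [fW, Matrix.mul_apply, Fin.sum_univ_two]
    all_goals grind
  have eb2 : qW ω * qW ω = (-1 : M2) := by
    ext i j; fin_cases i <;> fin_cases j <;> simp [qW, Matrix.mul_apply, Fin.sum_univ_two]
    all_goals grind
  have eab : fW ω * qW ω = -(qW ω * fW ω) := by
    ext i j; fin_cases i <;> fin_cases j <;> simp [fW, qW, Matrix.mul_apply, Fin.sum_univ_two]
    all_goals grind
  have a01 : fW ω 0 1 ≠ 0 := by simp [fW, hsr, h2]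
  have b01 : qW ω 0 1 ≠ 0 := by simp [qW, hsr, h2, h.root_ne_zero]
  have ab01 : (fW ω * qW ω) 0 1 ≠ 0 := by
    simp [fW, qW, Matrix.mul_apply, Fin.sum_univ_two]; grind
  have ab2 : fW ω * qW ω * (fW ω * qW ω) = (-1 : M2) := by
    rw [Matrix.mul_assoc, ← Matrix.mul_assoc (qW ω), ← neg_neg (qW ω * fW ω), ← eab, neg_mul, mul_neg,
      Matrix.mul_assoc (fW ω), eb2, ← Matrix.mul_assoc, ea2]
    simp
  have ns : ∀ {M : M2}, M 0 1 ≠ 0 → ¬ Scal M := by
    rintro M hM ⟨c, rfl⟩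
    simp at hM
  have lift : ∀ g : H, Commute g t → ∃ z : GL (Fin 2) F, z ∈ planeGroup H (bL : M3) ∧ (z : M2) = wM g := fun g hg =>
    mem_planeGroup_of_mem h.det_bL_ne (mem_mt g) (h.blk_of_comm ht hg)
  have hD : Dihedralish (planeGroup H (bL : M3)) := by
    rcases shapes p h.card h.two_ne _ hG with hD | ⟨-, ⟨z, hz, hz1, s, hz3⟩, -⟩ | ⟨-, ⟨z, hz, hz1, s, hz3⟩, -⟩
    · exact hD
    all_goals
      exfalso
      obtain ⟨c, -, u, hu, eu⟩ := mem_planeGroup.1 hz
      have eu' : mt (⟨u, hu⟩ : H) * bL = bL * blk c (z : M2) := eu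
      obtain ⟨-, ew⟩ := h.of_blk eu'
      rw [← ew] at hz1
      rw [Units.val_pow_eq_pow_val, ← ew] at hz3
      exact h.no_three h9 ht (h.comm_of_blk ht eu') hz1 hz3
  have pcs : ∀ z : GL (Fin 2) F, (∀ y ∈ planeGroup H (bL : M3), PC y z) → ∀ g : H, Commute g t →
      ∃ c : F, wM g * (z : M2) = c • ((z : M2) * wM g) := fun z hz g hg => by
    obtain ⟨y, hy, ey⟩ := lift g hg
    exact ey ▸ hz y hy
  rcases hD.2 a ha b hb ⟨-1, by rw [Units.val_mul, ea, ea2]; simp⟩ ⟨-1, by rw [Units.val_mul, eb, eb2]; simp⟩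
      (by rw [ea]; exact ns a01) (by rw [eb]; exact ns b01) ⟨-1, by rw [ea, eb, eab]; simp⟩
      (by rw [Units.val_mul, ea, eb]; exact ns ab01) with hc | hc | hc
  · refine ⟨⟨t, f, q, fW ω, ht, ef, hqt, (h.of_blk eq).1, ?_, a01, ea2, ?_, ea ▸ pcs a hc⟩⟩
    · rw [(h.of_blk eq).2, eab, neg_neg]
    · simp [fW, Matrix.trace_fin_two]
  · refine ⟨⟨t, q, f, qW ω, ht, eq, hft, (h.of_blk ef).1, ?_, b01, eb2, ?_, eb ▸ pcs b hc⟩⟩
    · rw [(h.of_blk ef).2, eab]
    · simp [qW, Matrix.trace_fin_two]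
  · refine ⟨⟨t, f * q, f, fW ω * qW ω, ht, eP, hft, (h.of_blk ef).1, ?_, ab01, ab2, ?_, ?_⟩⟩
    · rw [(h.of_blk ef).2, Matrix.mul_assoc, ← neg_neg (qW ω * fW ω), ← eab, mul_neg, neg_neg]
    · simp [fW, qW, Matrix.trace_fin_two, Matrix.mul_apply, Fin.sum_univ_two]; grind
    · have := pcs (a * b) hc
      rwa [Units.val_mul, ea, eb] at this

end Amb

namespace Setup

variable {h : Amb H p ω} (S : Setup h)

theorem detE : S.E.det = 1 := by
  have := congrFun (congrFun ((sq_trace S.E).symm.trans S.EE) 0) 0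
  simp [S.Etr] at this
  exact this

theorem q_a : aM S.q = 1 := (h.of_blk S.hq).1

theorem q_w : wM S.q = S.E := (h.of_blk S.hq).2

theorem qq : S.q * S.q = S.t := h.eq_of_blk
  (by rw [mt_mul, Matrix.mul_assoc, S.hq, ← Matrix.mul_assoc, S.hq, Matrix.mul_assoc, blk_mul, one_mul, S.EE])
  (h.t_blk S.ht)

theorem qt : Commute S.q S.t := h.comm_of_blk S.ht S.hq

/-- the centraliser of the central element -/
def C : Subgroup H := Subgroup.centralizer {S.q}

theorem mem_C {g : H} : g ∈ S.C ↔ Commute g S.q := Subgroup.mem_centralizer_singleton_iff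

theorem C_comm_t {g : H} (hg : g ∈ S.C) : Commute g S.t := S.qq ▸ (S.mem_C.1 hg).mul_right (S.mem_C.1 hg)

theorem mem_C_iff {g : H} (hg : Commute g S.t) : g ∈ S.C ↔ wM g * S.E = S.E * wM g := by
  rw [S.mem_C]
  constructor
  · intro e
    have := congrArg wM e.eq
    rwa [(h.aM_wM_mul S.ht hg S.qt).2, (h.aM_wM_mul S.ht S.qt hg).2, S.q_w] at this
  · intro e
    refine h.eq_of_wM S.ht (hg.mul_left S.qt) (S.qt.mul_left hg) ?_
    rw [(h.aM_wM_mul S.ht hg S.qt).2, (h.aM_wM_mul S.ht S.qt hg).2, S.q_w, e]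

theorem det_W_ne {g : H} (hg : Commute g S.t) : (wM g).det ≠ 0 := right_ne_zero_of_mul_eq_one (h.det_wM S.ht hg)

theorem anti_W {g : H} (hg : Commute g S.t) (hC : g ∉ S.C) : wM g * S.E = -(S.E * wM g) := by
  obtain ⟨c, hc⟩ := S.pc g hg
  have hd := congrArg Matrix.det hc
  rw [Matrix.det_smul, Fintype.card_fin, Matrix.det_mul, Matrix.det_mul, S.detE, mul_one, one_mul] at hd
  have hc2 : c * c = 1 := mul_right_cancel₀ (S.det_W_ne hg) (by rw [one_mul]; linear_combination -hd)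
  rcases mul_self_eq_one_iff.1 hc2 with rfl | rfl
  · exact absurd ((S.mem_C_iff hg).2 (by rw [hc, one_smul])) hC
  · rw [hc, neg_one_smul]

theorem not_C_of_anti {g : H} (hg : Commute g S.t) (e : wM g * S.E = -(S.E * wM g)) : g ∉ S.C := fun hC => by
  rw [(S.mem_C_iff hg).1 hC, eq_neg_iff_add_eq_zero, ← two_smul F, smul_eq_zero] at e
  have := congrArg Matrix.det (e.resolve_left h.two)
  rw [Matrix.det_mul, S.detE, one_mul, Matrix.det_zero] at this
  exact S.det_W_ne hg this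

theorem trace_anti {g : H} (hg : Commute g S.t) (hC : g ∉ S.C) : (wM g).trace = 0 := by
  have e := congrFun (congrFun (S.anti_W hg hC) 0) 1
  have ht := S.Etr
  rw [Matrix.trace_fin_two] at ht ⊢
  simp [Matrix.mul_apply, Fin.sum_univ_two] at e
  refine mul_left_cancel₀ S.E01 ?_
  linear_combination e - wM g 0 1 * ht

theorem mul_anti {g g' : H} (hg : Commute g S.t) (hC : g ∉ S.C) (hg' : Commute g' S.t) (hC' : g' ∉ S.C) :
    g * g' ∈ S.C := by
  rw [S.mem_C_iff (hg.mul_left hg'), (h.aM_wM_mul S.ht hg hg').2, Matrix.mul_assoc, S.anti_W hg' hC', mul_neg,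
    ← Matrix.mul_assoc, S.anti_W hg hC, neg_mul, neg_neg, Matrix.mul_assoc]

theorem poly {g : H} (hg : g ∈ S.C) : ∃ α β : F, wM g = α • 1 + β • S.E := by
  have e := (S.mem_C_iff (S.C_comm_t hg)).1 hg
  have h01 := S.E01
  have e00 := congrFun (congrFun e 0) 0
  have e01 := congrFun (congrFun e 0) 1
  simp [Matrix.mul_apply, Fin.sum_univ_two] at e00 e01
  refine ⟨wM g 0 0 - wM g 0 1 / S.E 0 1 * S.E 0 0, wM g 0 1 / S.E 0 1, ?_⟩
  ext i j
  fin_cases i <;> fin_cases j <;> simp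
  all_goals field_simp
  all_goals grind

theorem Ccomm : ∀ a ∈ S.C, ∀ b ∈ S.C, Commute a b := by
  intro a ha b hb
  obtain ⟨α, β, ea⟩ := S.poly ha
  have eb := (S.mem_C_iff (S.C_comm_t hb)).1 hb
  refine h.eq_of_wM S.ht ((S.C_comm_t ha).mul_left (S.C_comm_t hb)) ((S.C_comm_t hb).mul_left (S.C_comm_t ha)) ?_
  rw [(h.aM_wM_mul S.ht (S.C_comm_t ha) (S.C_comm_t hb)).2, (h.aM_wM_mul S.ht (S.C_comm_t hb) (S.C_comm_t ha)).2, ea,
    add_mul, mul_add, Matrix.smul_mul, one_mul, Matrix.mul_smul, mul_one, Matrix.smul_mul, Matrix.mul_smul, eb]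

theorem C_six (h9 : p % 9 ≠ 1) {c : H} (hc : c ∈ S.C) : (aM c ^ 3) * (aM c ^ 3) = 1 := by
  obtain ⟨α, β, ec⟩ := S.poly hc
  have hct := S.C_comm_t hc
  have hg : Commute (S.f * c * S.f⁻¹) S.t := (S.hf.mul_left hct).mul_left S.hf.inv_left
  obtain ⟨a1, w1⟩ := h.aM_wM_mul S.ht S.hf hct
  have hinv : aM S.f⁻¹ = 1 ∧ wM S.f * wM S.f⁻¹ = 1 := by
    obtain ⟨a2, w2⟩ := h.aM_wM_mul S.ht S.hf S.hf.inv_left
    obtain ⟨a0, w0⟩ := h.of_blk (g := (1 : H)) (a := 1) (W := 1) (by rw [mt_one, one_mul, blk_one, mul_one])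
    rw [mul_inv_cancel] at a2 w2
    rw [a0, S.fa, one_mul] at a2
    exact ⟨a2.symm, w2.symm.trans w0⟩
  obtain ⟨a3, w3⟩ := h.aM_wM_mul S.ht (S.hf.mul_left hct) S.hf.inv_left
  have ew : wM (S.f * c * S.f⁻¹) = α • 1 - β • S.E := by
    rw [w3, w1, ec, mul_add, Matrix.mul_smul, Matrix.mul_smul, mul_one, S.fanti, add_mul, Matrix.smul_mul, hinv.2,
      Matrix.smul_mul, neg_mul, Matrix.mul_assoc, hinv.2, mul_one, smul_neg, ← sub_eq_add_neg]
  have ea : aM (S.f * c * S.f⁻¹) = aM c := by rw [a3, a1, S.fa, hinv.1, one_mul, mul_one]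
  obtain ⟨a4, w4⟩ := h.aM_wM_mul S.ht hct hg
  have hW : wM (c * (S.f * c * S.f⁻¹)) = (α * α + β * β) • 1 := by
    rw [w4, ew, ec, add_mul, mul_sub, mul_sub, Matrix.smul_mul, Matrix.smul_mul, Matrix.smul_mul, Matrix.smul_mul,
      one_mul, one_mul, Matrix.mul_smul, Matrix.mul_smul, mul_one, S.EE]
    module
  have hs := h.scalarW h9 S.ht (hct.mul_left hg) hW
  rw [a4, ea] at hs
  have hdet : (wM c).det = α * α + β * β := by
    have ht := S.Etr
    have hd := S.detE
    rw [Matrix.trace_fin_two] at ht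
    rw [Matrix.det_fin_two] at hd ⊢
    rw [ec]
    simp
    linear_combination α * β * ht + β * β * hd
  have h1 := h.det_wM S.ht hct
  rw [hdet] at h1
  linear_combination (aM c ^ 2) * hs + (aM c * (α * α + β * β) + 1) * h1

theorem Cinv (h9 : p % 9 ≠ 1) : ∀ c ∈ S.C, orderOf c = 2 → c = S.t := by
  intro c hc h2
  have hcc : c * c = 1 := by rw [← pow_two, ← h2, pow_orderOf_eq_one]
  have hct := S.C_comm_t hc
  obtain ⟨α, β, ec⟩ := S.poly hc
  obtain ⟨a0, w0⟩ := h.of_blk (g := (1 : H)) (a := 1) (W := 1) (by rw [mt_one, one_mul, blk_one, mul_one])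
  have e := (h.aM_wM_mul S.ht hct hct).2
  rw [hcc, w0, ec, add_mul, mul_add, mul_add, Matrix.smul_mul, Matrix.smul_mul, Matrix.smul_mul, Matrix.smul_mul,
    one_mul, one_mul, Matrix.mul_smul, Matrix.mul_smul, mul_one, S.EE] at e
  have e00 := congrFun (congrFun e 0) 0
  have e01 := congrFun (congrFun e 0) 1
  simp at e00 e01
  have hαβ : α * β = 0 := by
    refine mul_right_cancel₀ (mul_ne_zero h.two S.E01) ?_
    linear_combination -e01
  rcases mul_eq_zero.1 hαβ with rfl | rfl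
  · exfalso
    have hb : β * β = -1 := by simp at e00; linear_combination e00
    obtain ⟨aq, wq⟩ := h.aM_wM_mul S.ht hct S.qt
    have hW : wM (c * S.q) = (-β) • 1 := by
      rw [wq, S.q_w, ec, zero_smul, zero_add, Matrix.smul_mul, S.EE, smul_neg, neg_smul]
    have hs := h.scalarW h9 S.ht (hct.mul_left S.qt) hW
    rw [aq, S.q_a, mul_one] at hs
    have hd := h.det_wM S.ht hct
    rw [ec, zero_smul, zero_add, Matrix.det_smul, Fintype.card_fin, S.detE, mul_one] at hd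
    exact h.two (by linear_combination hs + hb - (aM c - 1) * (-hd + aM c * hb))
  · have hW : wM c = α • 1 := by rw [ec, zero_smul, add_zero]
    rcases h.mem_Z_or h9 S.ht hct hW with hz | hz
    · have := h.z_cube hz
      rw [pow_succ, pow_two, hcc, one_mul] at this
      simp [this] at h2
    · have h6 : (S.t * c) * (S.t * c) = 1 := by
        rw [hct.mul_mul_mul_comm, h.t_sq S.ht, hcc, one_mul]
      have := h.z_cube hz
      rw [pow_succ, pow_two, h6, one_mul] at this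
      rw [← inv_eq_of_mul_eq_one_right this, inv_eq_of_mul_eq_one_right (h.t_sq S.ht)]

theorem centC (h9 : p % 9 ≠ 1) : ∀ c ∈ S.C, c ∉ zGrp h → S.t * c ∉ zGrp h → ∀ g : H, Commute g c → g ∈ S.C := by
  intro c hc hcZ hctZ g hg
  have hct := S.C_comm_t hc
  obtain ⟨α, β, ec⟩ := S.poly hc
  have hβ : β ≠ 0 := by
    rintro rfl
    rcases h.mem_Z_or h9 S.ht hct (c := α) (by rw [ec, zero_smul, add_zero]) with hz | hz
    · exact hcZ hz
    · exact hctZ hz
  have hdet : (wM c - aM c • 1).det ≠ 0 := by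
    intro hd
    have h6 := S.C_six h9 hc
    have h1 := h.det_wM S.ht hct
    have ht := S.Etr
    have hE := S.detE
    rw [Matrix.trace_fin_two] at ht
    rw [ec, Matrix.det_fin_two] at hd h1
    rw [Matrix.det_fin_two] at hE
    simp at hd h1
    have e1 : (α - aM c) * (α - aM c) + β * β = 0 := by
      linear_combination hd - (α - aM c) * β * ht - β * β * hE
    have e2 : aM c * (α * α + β * β) = 1 := by
      linear_combination h1 - aM c * α * β * ht - aM c * β * β * hE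
    rcases mul_self_eq_one_iff.1 h6 with e3 | e3
    · have : α = aM c := by
        refine mul_left_cancel₀ (mul_ne_zero h.two (pow_ne_zero 2 (left_ne_zero_of_mul_eq_one e2))) ?_
        linear_combination (-aM c) * e1 + e2 - e3
      exact hβ (mul_self_eq_zero.1 (by rw [this, sub_self, zero_mul, zero_add] at e1; exact e1))
    · -- the cube is another involution
      have ha0 : aM c ≠ 0 := left_ne_zero_of_mul_eq_one e2
      have hα : α = 0 := by
        refine mul_left_cancel₀ (mul_ne_zero h.two (pow_ne_zero 2 ha0)) ?_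
        linear_combination (-aM c) * e1 + e2 + e3
      subst hα
      have hWW : wM c * wM c = (aM c * aM c) • 1 := by
        rw [ec, zero_smul, zero_add, Matrix.smul_mul, Matrix.mul_smul, smul_smul, S.EE, smul_neg, ← neg_smul]
        congr 1
        linear_combination -e1
      obtain ⟨a3, w3⟩ := h.aM_wM_pow S.ht hct 3
      have hne : c ^ 3 ≠ 1 := fun e => by
        obtain ⟨a0, -⟩ := h.of_blk (g := (1 : H)) (a := 1) (W := 1) (by rw [mt_one, one_mul, blk_one, mul_one])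
        rw [e, a0, e3] at a3
        exact h.two (by linear_combination a3)
      have h6' : (c ^ 3) ^ 2 = 1 := by
        have hz : c ^ 2 ∈ zGrp h := (h.mem_Z_iff S.ht (hct.pow_left 2)).2 (by
          rw [(h.aM_wM_pow S.ht hct 2).1, (h.aM_wM_pow S.ht hct 2).2, pow_two, hWW, pow_two])
        rw [← pow_mul, show 3 * 2 = 2 * 3 from rfl, pow_mul, h.z_cube hz]
      have := S.Cinv h9 _ (pow_mem hc 3) (orderOf_eq_prime h6' hne)
      have hw := (h.of_blk (h.t_blk S.ht)).2
      rw [← this, w3, pow_succ, pow_two, hWW, Matrix.smul_mul, one_mul, ec, zero_smul, zero_add, smul_smul] at hw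
      have e01 := congrFun (congrFun hw 0) 1
      simp [S.E01, hβ, ha0] at e01
  have hN : nMat (mt g) * blk (aM c) (wM c) = blk (aM c) (wM c) * nMat (mt g) := by
    have e := congrArg mt hg.eq
    rw [mt_mul, mt_mul] at e
    have hn : nMat (mt c) = blk (aM c) (wM c) := h.nMat_of_blk (h.blk_of_comm S.ht hct)
    have key : ∀ M N : M3, nMat M * nMat N = nMat (M * N) := fun M N => by
      rw [nMat, nMat, nMat]
      simp only [Matrix.mul_assoc]
      rw [← Matrix.mul_assoc (bL : M3), Matrix.mul_nonsing_inv _ h.bL_unit, one_mul]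
    rw [← hn, key, key, e]
  have z1 := congrFun (congrFun hN 0) 1
  have z2 := congrFun (congrFun hN 0) 2
  have z3 := congrFun (congrFun hN 1) 0
  have z4 := congrFun (congrFun hN 2) 0
  simp [blk, Matrix.mul_apply, Fin.sum_univ_three] at z1 z2 z3 z4
  rw [Matrix.det_fin_two] at hdet
  simp at hdet
  have n01 : nMat (mt g) 0 1 = 0 := by grind
  have n02 : nMat (mt g) 0 2 = 0 := by grind
  have n10 : nMat (mt g) 1 0 = 0 := by grind
  have n20 : nMat (mt g) 2 0 = 0 := by grind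
  have e : mt g * bL = bL * blk (aM g) (wM g) := by
    rw [← h.bL_nMat]
    congr 1
    ext i j
    fin_cases i <;> fin_cases j <;> simp [blk, aM, wM, n01, n02, n10, n20]
  have hgt := h.comm_of_blk S.ht e
  refine (S.mem_C_iff hgt).2 ?_
  have e' := congrArg wM hg.eq
  rw [(h.aM_wM_mul S.ht hgt hct).2, (h.aM_wM_mul S.ht hct hgt).2, ec, mul_add, add_mul, Matrix.mul_smul, mul_one,
    Matrix.mul_smul, Matrix.smul_mul, one_mul, Matrix.smul_mul, add_right_inj] at e'
  exact smul_right_injective M2 hβ e'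

theorem anti : ∀ g : H, Commute g S.t → g ∉ S.C → g * S.q * g⁻¹ = S.q⁻¹ := by
  intro g hg hC
  have hinv : wM S.q⁻¹ = -S.E := by
    refine (h.of_blk (a := 1) ?_).2
    have e : mt S.q * (bL * blk 1 (-S.E)) = bL := by
      rw [← Matrix.mul_assoc, S.hq, Matrix.mul_assoc, blk_mul, one_mul, mul_neg, S.EE, neg_neg, blk_one, mul_one]
    calc mt S.q⁻¹ * bL = mt S.q⁻¹ * (mt S.q * (bL * blk 1 (-S.E))) := by rw [e]
      _ = _ := by rw [← Matrix.mul_assoc, mt_inv_mul, one_mul]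
  rw [mul_inv_eq_iff_eq_mul]
  refine h.eq_of_wM S.ht (hg.mul_left S.qt) (S.qt.inv_left.mul_left hg) ?_
  rw [(h.aM_wM_mul S.ht hg S.qt).2, (h.aM_wM_mul S.ht S.qt.inv_left hg).2, S.q_w, hinv, S.anti_W hg hC, neg_mul]

theorem fix (h9 : p % 9 ≠ 1) : ∀ g : H, Commute g S.t → g ∉ S.C → ∀ c ∈ S.C, Commute g c →
    c ∈ zGrp h ∨ S.t * c ∈ zGrp h := by
  intro g hg hC c hc hgc
  obtain ⟨α, β, ec⟩ := S.poly hc
  have hct := S.C_comm_t hc
  have e := congrArg wM hgc.eq
  rw [(h.aM_wM_mul S.ht hg hct).2, (h.aM_wM_mul S.ht hct hg).2, ec, mul_add, add_mul, Matrix.mul_smul, mul_one,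
    Matrix.mul_smul, Matrix.smul_mul, one_mul, Matrix.smul_mul, add_right_inj, S.anti_W hg hC] at e
  have hβ : β = 0 := by
    by_contra hb
    have e' := smul_right_injective M2 hb e
    rw [neg_eq_iff_add_eq_zero, ← two_smul F, smul_eq_zero] at e'
    have := congrArg Matrix.det (e'.resolve_left h.two)
    rw [Matrix.det_mul, S.detE, one_mul, Matrix.det_zero] at this
    exact S.det_W_ne hg this
  exact h.mem_Z_or h9 S.ht hct (by rw [ec, hβ, zero_smul, add_zero])

theorem sq (h9 : p % 9 ≠ 1) {g : H} (hg : Commute g S.t) (hC : g ∉ S.C) :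
    (g * g ∈ zGrp h ↔ aM g ^ 3 = -1) ∧ (S.t * (g * g) ∈ zGrp h ↔ aM g ^ 3 = 1) ∧
      (g * g ∈ zGrp h ∨ S.t * (g * g) ∈ zGrp h) := by
  obtain ⟨a2, w2⟩ := h.aM_wM_mul S.ht hg hg
  rw [sq_trace, S.trace_anti hg hC, zero_smul, zero_sub, ← neg_smul] at w2
  have hd := h.det_wM S.ht hg
  have ha := left_ne_zero_of_mul_eq_one hd
  have hgg : Commute (g * g) S.t := hg.mul_left hg
  have inj : ∀ x y : F, x • (1 : M2) = y • 1 ↔ x = y := fun x y =>
    ⟨fun e => by simpa using congrFun (congrFun e 0) 0, fun e => by rw [e]⟩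
  refine ⟨?_, ?_, h.mem_Z_or h9 S.ht hgg w2⟩
  · rw [h.mem_Z_iff S.ht hgg, w2, a2, inj]
    exact ⟨fun e => by linear_combination -(aM g) * e - hd,
      fun e => mul_left_cancel₀ ha (by linear_combination -hd - e)⟩
  · obtain ⟨ea, ew⟩ := h.of_blk (h.t_blk S.ht)
    obtain ⟨a3, w3⟩ := h.aM_wM_mul S.ht (Commute.refl S.t) hgg
    rw [h.mem_Z_iff S.ht ((Commute.refl _).mul_left hgg), w3, a3, ea, ew, a2, w2, one_mul, neg_one_mul, ← neg_smul,
      neg_neg, inj]
    exact ⟨fun e => by linear_combination -(aM g) * e + hd,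
      fun e => mul_left_cancel₀ ha (by linear_combination hd - e)⟩

end Setup

end Cfsg.Agent.Forms.Max.SL3.SympType
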