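import Cfsg.Agent.Lib.Forms.Max.SL3.SympType.Fusion

/-!
# Counting in a group with a dicyclic-type involution centraliser
-/

set_option autoImplicit false
set_option linter.unusedSectionVars false

namespace Cfsg.Agent.Forms.Max.SL3.SympType

/-- the data of the counting argument, dicyclic case -/
structure DicyclicData (G : Type*) [Group G] where
  Z : Subgroup G
  R : Subgroup G
  C : Subgroup G
  t : G
  q : G
  m : ℕ
  hm : 2 ≤ m
  hZ : Z ≤ Subgroup.center G
  cardZ : Nat.card Z = 3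
  hZR : Z ≤ R
  cardR : Nat.card R = 27
  not81 : ¬ 81 ∣ Nat.card G
  cardN : Nat.card (Subgroup.normalizer (R : Set G)) = 216
  ti : ∀ g : G, ∀ x ∈ R, x ∉ Z → g * x * g⁻¹ ∈ R → g ∈ Subgroup.normalizer (R : Set G)
  centR : ∀ x ∈ R, x ∉ Z → ∀ g : G, Commute g x → g ∈ R
  ht : orderOf t = 2
  hCL : C ≤ Subgroup.centralizer {t}
  Ccomm : ∀ a ∈ C, ∀ b ∈ C, Commute a b
  cardC : Nat.card C = 6 * m
  cardL : Nat.card (Subgroup.centralizer ({t} : Set G)) = 12 * m
  Cinv : ∀ c ∈ C, orderOf c = 2 → c = t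
  hq : q ∈ C ∧ q * q = t
  anti : ∀ g : G, Commute g t → g ∉ C → g * q * g⁻¹ = q⁻¹
  centC : ∀ c ∈ C, c ∉ Z → t * c ∉ Z → ∀ g : G, Commute g c → g ∈ C
  dic : ∀ g : G, Commute g t → g ∉ C → t * (g * g) ∈ Z

/-- no group has such data -/
theorem count_dicyclic {G : Type*} [Group G] [Finite G] (D : DicyclicData G) (h3 : 3 ≤ D.m) : False := by
  classical
  set L : Subgroup G := Subgroup.centralizer ({D.t} : Set G) with hL
  have memL : ∀ g, g ∈ L ↔ Commute g D.t := fun g => Subgroup.mem_centralizer_singleton_iff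
  have zc : ∀ {z : G}, z ∈ D.Z → ∀ g : G, Commute z g := fun hz g =>
    (Subgroup.mem_center_iff.1 (D.hZ hz) g).symm
  have htt := CountData.sq_one D.ht
  have htZ : D.t ∉ D.Z := fun h => by
    have := congrArg Subtype.val (pow_card_eq_one' (x := (⟨D.t, h⟩ : D.Z)))
    simp only [D.cardZ, SubmonoidClass.coe_pow, OneMemClass.coe_one] at this
    rw [pow_succ, pow_two, htt, one_mul] at this
    exact CountData.ne_one D.ht this
  have hone : ∀ u : G, orderOf u = 2 → Commute u D.t → u = D.t := fun u hu hut => by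
    by_cases hC : u ∈ D.C
    · exact D.Cinv u hC hu
    · have := D.dic u hut hC
      rw [CountData.sq_one hu, mul_one] at this
      exact absurd this htZ
  have pwt : ∀ y : G, D.t * y ∈ D.Z → CountData.Pw y D.t := fun y h => by
    refine ⟨D.ht, Subgroup.mem_zpowers_iff.2 ⟨((3 : ℕ) : ℤ), ?_⟩⟩
    have hc : Commute D.t (D.t * y) := (zc h _).symm
    have h3 := congrArg Subtype.val (pow_card_eq_one' (x := (⟨D.t * y, h⟩ : D.Z)))
    simp only [D.cardZ, SubmonoidClass.coe_pow, OneMemClass.coe_one] at h3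
    rw [zpow_natCast, show y = D.t * (D.t * y) by rw [← mul_assoc, htt, one_mul], hc.mul_pow, h3, mul_one,
      pow_succ, pow_two, htt, one_mul]
  let S : Set G := {y | Commute y D.t ∧ y ∉ D.Z}
  have hcent : ∀ y ∈ S, ∀ g : G, Commute g y → Commute g D.t := by
    rintro y ⟨hy, hyZ⟩ g hg
    by_cases hC : y ∈ D.C
    · by_cases h : D.t * y ∈ D.Z
      · exact (pwt y h).commute hg
      · exact (memL g).1 (D.hCL (D.centC y hC hyZ h g hg))
    · exact (pwt _ (D.dic y hy hC)).commute (hg.mul_right hg)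
  have conjZ : ∀ g w : G, g * w * g⁻¹ ∈ D.Z → w ∈ D.Z := fun g w hw => by
    have h1 := (zc hw g).eq
    rw [inv_mul_cancel_right] at h1
    rwa [mul_left_cancel h1.symm] at hw
  have ho : ∀ g : G, orderOf (g * D.t * g⁻¹) = 2 := fun g => by
    rw [← D.ht]; exact orderOf_injective (MulAut.conj g).toMonoidHom (MulAut.conj g).injective _
  have h1 := CountData.ti_card S L
    (fun g hg y hy => ⟨(((memL g).1 hg).mul_left hy.1).mul_left ((memL g).1 hg).inv_left,
      fun hz => hy.2 (conjZ g y hz)⟩)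
    (fun g y hy hy' => (memL g).2 (mul_inv_eq_iff_eq_mul.1 (hone _ (ho g)
      (hcent _ hy' _ (Commute.map hy.1.symm (MulAut.conj g).toMonoidHom)))))
  have cardS : Nat.card S + 3 = 12 * D.m := by
    have hle : D.Z ≤ L := fun z hz => (memL z).2 (zc hz _)
    have h := Set.ncard_sdiff_add_ncard_of_subset (show (D.Z : Set G) ⊆ L from hle)
    simp only [← Nat.card_coe_set_eq, SetLike.coe_sort_coe, D.cardZ] at h
    rw [hL, D.cardL] at h
    rw [← h]
    congr 1
    exact Nat.card_congr (Equiv.subtypeEquivRight fun y => by simp [S, Subgroup.mem_centralizer_singleton_iff, Commute, SemiconjBy])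
  rw [hL, D.cardL] at h1
  let S' : Set G := {y | y ∈ D.R ∧ y ∉ D.Z}
  have h2 := CountData.ti_card S' (Subgroup.normalizer (D.R : Set G))
    (fun g hg y hy => ⟨(Subgroup.mem_normalizer_iff.1 hg y).1 hy.1, fun hz => hy.2 (conjZ g y hz)⟩)
    (fun g y hy hy' => D.ti g y hy.1 hy.2 hy'.1)
  have cardS' : Nat.card S' + 3 = 27 := by
    have h := Set.ncard_sdiff_add_ncard_of_subset (show (D.Z : Set G) ⊆ D.R from D.hZR)
    simp only [← Nat.card_coe_set_eq, SetLike.coe_sort_coe, D.cardR, D.cardZ] at h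
    exact h
  rw [D.cardN] at h2
  have hdis : Disjoint (CountData.sat S) (CountData.sat S') := Set.disjoint_left.2 <| by
    rintro _ ⟨a, y, hy, rfl⟩ ⟨b, x, hx, e⟩
    have hc : Commute (b⁻¹ * (a * D.t * a⁻¹) * b) x := by
      have h0 : Commute (a * D.t * a⁻¹) (a * y * a⁻¹) := Commute.map hy.1.symm (MulAut.conj a).toMonoidHom
      rw [← e] at h0
      have := Commute.map h0 (MulAut.conj b⁻¹).toMonoidHom
      simpa [mul_assoc] using this
    have hR := D.centR x hx.1 hx.2 _ hc
    have hd := orderOf_dvd_natCard (⟨_, hR⟩ : D.R)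
    have e2 : orderOf (b⁻¹ * (a * D.t * a⁻¹) * b) = 2 := by
      have := orderOf_injective (MulAut.conj b⁻¹).toMonoidHom (MulAut.conj b⁻¹).injective (a * D.t * a⁻¹)
      rw [ho a] at this
      simpa using this
    rw [Subgroup.orderOf_mk, e2, D.cardR] at hd
    omega
  have hle : Nat.card (CountData.sat S) + Nat.card (CountData.sat S') ≤ Nat.card G := by
    rw [Nat.card_coe_set_eq, Nat.card_coe_set_eq, ← Set.ncard_union_eq hdis, ← Set.ncard_univ G]
    exact Set.ncard_le_ncard (Set.subset_univ _)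
  have hN : 0 < Nat.card G := Nat.card_pos
  have hm := h3
  have hS' : Nat.card S' = 24 := by omega
  rw [hS'] at h2
  nlinarith

end Cfsg.Agent.Forms.Max.SL3.SympType
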