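import Cfsg.Agent.Lib.Forms.Max.SL3.SympType.Classes
import Cfsg.Agent.Lib.Forms.Max.SL3.SympType.Dicyclic

/-!
# Counting in a group with a quaternion involution centraliser
-/

set_option autoImplicit false
set_option linter.unusedSectionVars false

namespace Cfsg.Agent.Forms.Max.SL3.SympType

namespace DicyclicData

variable {G : Type*} [Group G] [Finite G] (D : DicyclicData G)

local notation "B" => CountData.B
local notation "sat" => CountData.sat

theorem z_comm {w : G} (hw : w ∈ D.Z) (g : G) : Commute w g :=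
  (Subgroup.mem_center_iff.1 (D.hZ hw) g).symm

theorem z_cube {w : G} (hw : w ∈ D.Z) : w ^ 3 = 1 := by
  rw [← D.cardZ]
  exact congrArg Subtype.val (pow_card_eq_one' (x := (⟨w, hw⟩ : D.Z)))

theorem conj_mem_Z {g x : G} (h : g * x * g⁻¹ ∈ D.Z) : x ∈ D.Z := by
  have h1 := (z_comm D h g).eq
  rw [inv_mul_cancel_right] at h1
  rwa [mul_left_cancel h1.symm] at h

theorem t_not_Z : D.t ∉ D.Z := fun h => by
  have h3 := z_cube D h
  rw [pow_succ, pow_two, CountData.sq_one D.ht, one_mul] at h3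
  exact CountData.ne_one D.ht h3

theorem unique_invol {u : G} (hu : orderOf u = 2) (hut : Commute u D.t) : u = D.t := by
  by_cases hC : u ∈ D.C
  · exact D.Cinv u hC hu
  · have := D.dic u hut hC
    rw [CountData.sq_one hu, mul_one] at this
    exact absurd this (t_not_Z D)

theorem pw_t {y : G} (h : D.t * y ∈ D.Z) : CountData.Pw y D.t := by
  refine ⟨D.ht, Subgroup.mem_zpowers_iff.2 ⟨((3 : ℕ) : ℤ), ?_⟩⟩
  have hc : Commute D.t (D.t * y) := (z_comm D h _).symm
  have htt := CountData.sq_one D.ht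
  rw [zpow_natCast, show y = D.t * (D.t * y) by rw [← mul_assoc, htt, one_mul], hc.mul_pow, z_cube D h, mul_one,
    pow_succ, pow_two, htt, one_mul]

theorem cent_t {y g : G} (hy : Commute y D.t) (hyZ : y ∉ D.Z) (hg : Commute g y) : Commute g D.t := by
  by_cases hC : y ∈ D.C
  · by_cases h : D.t * y ∈ D.Z
    · exact (pw_t D h).commute hg
    · exact Subgroup.mem_centralizer_singleton_iff.1 (D.hCL (D.centC y hC hyZ h g hg))
  · exact (pw_t D (D.dic y hy hC)).commute (hg.mul_right hg)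

theorem all_conj {u : G} (hu : orderOf u = 2) : IsConj u D.t := by
  have htt := CountData.sq_one D.ht
  have huu := CountData.sq_one hu
  set k := u * D.t with hk
  have hinv : D.t * k * D.t⁻¹ = k⁻¹ := by
    rw [hk, _root_.mul_inv_rev, inv_eq_of_mul_eq_one_right htt, inv_eq_of_mul_eq_one_right huu, mul_assoc, mul_assoc u,
      htt, mul_one]
  rcases Nat.even_or_odd (orderOf k) with he | ho
  · obtain ⟨j, hj⟩ := he
    have hj0 : 0 < j := by have := orderOf_pos k; omega
    have hz2 : k ^ j * k ^ j = 1 := by rw [← pow_add, ← hj, pow_orderOf_eq_one]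
    have hz1 : k ^ j ≠ 1 := pow_ne_one_of_lt_orderOf (by omega) (by omega)
    have hzo : orderOf (k ^ j) = 2 := orderOf_eq_prime (by rw [pow_two, hz2]) hz1
    have hzt : Commute (k ^ j) D.t := by
      have : D.t * k ^ j * D.t⁻¹ = (k ^ j)⁻¹ := by rw [← conj_pow, hinv, inv_pow]
      rw [inv_eq_of_mul_eq_one_right hz2] at this
      exact (mul_inv_eq_iff_eq_mul.1 this).symm
    have hzu : Commute (k ^ j) u := by
      have := (Commute.self_pow k j).symm.mul_right hzt
      rwa [hk, mul_assoc, htt, mul_one] at this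
    rw [unique_invol D hzo hzt] at hzu
    rw [unique_invol D hu hzu.symm]
  · obtain ⟨j, hj⟩ := ho
    refine (isConj_iff.2 ⟨k ^ (j + 1), ?_⟩).symm
    have h1 : D.t * (k ^ (j + 1))⁻¹ * D.t⁻¹ = k ^ (j + 1) := by
      rw [← inv_pow, ← conj_pow]
      have : D.t * k⁻¹ * D.t⁻¹ = k := by
        have e := congrArg (fun v => v⁻¹) hinv
        simpa [mul_assoc] using e
      rw [this]
    calc k ^ (j + 1) * D.t * (k ^ (j + 1))⁻¹
        = k ^ (j + 1) * (D.t * (k ^ (j + 1))⁻¹ * D.t⁻¹) * D.t := by group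
      _ = k ^ (2 * j + 1) * k * D.t := by rw [h1, ← pow_add, ← pow_succ]; ring_nf
      _ = u := by rw [← hj, pow_orderOf_eq_one, one_mul, hk, mul_assoc, htt, mul_one]

/-- the non-central part of the centraliser of `t` -/
def S₁ : Set G := {y | Commute y D.t ∧ y ∉ D.Z}

/-- the non-central part of `R` -/
def S₂ : Set G := {y | y ∈ D.R ∧ y ∉ D.Z}

theorem mem_sat₁ {x u : G} (hu : orderOf u = 2) (h : Commute u x) (hx : x ∉ D.Z) : x ∈ sat (S₁ D) := by
  obtain ⟨g, hg⟩ := isConj_iff.1 (all_conj D hu)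
  exact ⟨g⁻¹, g * x * g⁻¹, ⟨hg ▸ (CountData.conj_commute h g).symm, fun h' => hx (conj_mem_Z D h')⟩, by group⟩

theorem R_odd {x : G} (hx : x ∈ D.R) (h : orderOf x = 2) : False := by
  have := orderOf_dvd_natCard (⟨x, hx⟩ : D.R)
  rw [Subgroup.orderOf_mk, h, D.cardR] at this
  omega

/-- elements commuting with no involution and not conjugate into `R` -/
def E : Set G :=
  {x | (∀ u : G, orderOf u = 2 → ¬ Commute u x) ∧ ∀ g : G, g * x * g⁻¹ ∉ D.R}

theorem E_not_Z {x : G} (h : x ∈ E D) : x ∉ D.Z := fun hz =>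
  h.1 D.t D.ht (z_comm D hz _).symm

theorem cover (x : G) : x ∈ D.Z ∨ x ∈ sat (S₁ D) ∨ x ∈ sat (S₂ D) ∨ x ∈ E D := by
  by_cases hz : x ∈ D.Z
  · exact Or.inl hz
  right
  by_cases h1 : ∃ u : G, orderOf u = 2 ∧ Commute u x
  · obtain ⟨u, hu, hc⟩ := h1; exact Or.inl (mem_sat₁ D hu hc hz)
  right
  by_cases h2 : ∃ g : G, g * x * g⁻¹ ∈ D.R
  · obtain ⟨g, hg⟩ := h2
    exact Or.inl ⟨g⁻¹, g * x * g⁻¹, ⟨hg, fun h' => hz (conj_mem_Z D h')⟩, by group⟩
  push Not at h1 h2
  exact Or.inr ⟨h1, h2⟩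

theorem card_eq (h2 : D.m = 2) : Nat.card G = 216 + 72 * Nat.card (E D) := by
  have hL : Nat.card (Subgroup.centralizer ({D.t} : Set G)) = 24 := by rw [D.cardL, h2]
  have memL : ∀ g, g ∈ Subgroup.centralizer ({D.t} : Set G) ↔ Commute g D.t :=
    fun g => Subgroup.mem_centralizer_singleton_iff
  have c1 : Nat.card (S₁ D) = 21 := by
    have hle : D.Z ≤ Subgroup.centralizer ({D.t} : Set G) := fun w hw => (memL w).2 (z_comm D hw _)
    have h := Set.ncard_sdiff_add_ncard_of_subset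
      (show (D.Z : Set G) ⊆ Subgroup.centralizer ({D.t} : Set G) from hle)
    simp only [← Nat.card_coe_set_eq, SetLike.coe_sort_coe, D.cardZ, hL] at h
    have e : Nat.card (S₁ D) = Nat.card (((Subgroup.centralizer ({D.t} : Set G) : Set G) \ D.Z : Set G)) :=
      Nat.card_congr (Equiv.subtypeEquivRight fun y => by
        simp [S₁, Subgroup.mem_centralizer_singleton_iff, Commute, SemiconjBy])
    omega
  have c2 : Nat.card (S₂ D) = 24 := by
    have h := Set.ncard_sdiff_add_ncard_of_subset (show (D.Z : Set G) ⊆ D.R from D.hZR)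
    simp only [← Nat.card_coe_set_eq, SetLike.coe_sort_coe, D.cardR, D.cardZ] at h
    have e : (S₂ D) = (D.R : Set G) \ D.Z := rfl
    rw [e]; omega
  have h1 := CountData.ti_card (S₁ D) (Subgroup.centralizer ({D.t} : Set G))
    (fun g hg y hy => ⟨(((memL g).1 hg).mul_left hy.1).mul_left ((memL g).1 hg).inv_left,
      fun hz => hy.2 (conj_mem_Z D hz)⟩)
    (fun g y hy hy' => (memL g).2 (mul_inv_eq_iff_eq_mul.1 (unique_invol D (by rw [CountData.orderOf_conj', D.ht])
      (cent_t D hy'.1 hy'.2 (CountData.conj_commute hy.1.symm g)))))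
  have h3 := CountData.ti_card (S₂ D) (Subgroup.normalizer (D.R : Set G))
    (fun g hg y hy => ⟨(Subgroup.mem_normalizer_iff.1 hg y).1 hy.1, fun hz => hy.2 (conj_mem_Z D hz)⟩)
    (fun g y hy hy' => D.ti g y hy.1 hy.2 hy'.1)
  rw [hL, c1] at h1
  rw [D.cardN, c2] at h3
  have n1 : ∀ x ∈ sat (S₁ D), x ∉ D.Z := by
    rintro _ ⟨g, y, hy, rfl⟩ hz; exact hy.2 (conj_mem_Z D hz)
  have n2 : ∀ x ∈ sat (S₂ D), x ∉ D.Z := by
    rintro _ ⟨g, y, hy, rfl⟩ hz; exact hy.2 (conj_mem_Z D hz)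
  have n12 : ∀ x ∈ sat (S₁ D), x ∉ sat (S₂ D) := by
    rintro _ ⟨a, y, hy, rfl⟩ ⟨b, x, hx, e⟩
    have h0 := CountData.conj_commute (CountData.conj_commute hy.1.symm a) b⁻¹
    rw [← e, show b⁻¹ * (b * x * b⁻¹) * b⁻¹⁻¹ = x by group] at h0
    exact R_odd D (D.centR x hx.1 hx.2 _ h0) (by rw [CountData.orderOf_conj', CountData.orderOf_conj', D.ht])
  have n3 : ∀ x ∈ E D, x ∉ sat (S₁ D) := by
    rintro _ hx ⟨g, y, hy, rfl⟩
    exact hx.1 (g * D.t * g⁻¹) (by rw [CountData.orderOf_conj', D.ht]) (CountData.conj_commute hy.1.symm g)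
  have n4 : ∀ x ∈ E D, x ∉ sat (S₂ D) := by
    rintro _ hx ⟨g, y, hy, rfl⟩
    exact hx.2 g⁻¹ (by rw [show g⁻¹ * (g * y * g⁻¹) * g⁻¹⁻¹ = y by group]; exact hy.1)
  have hd1 : Disjoint (D.Z : Set G) (sat (S₁ D)) := Set.disjoint_left.2 fun x hx hx' => n1 x hx' hx
  have hd2 : Disjoint ((D.Z : Set G) ∪ sat (S₁ D)) (sat (S₂ D)) :=
    Set.disjoint_left.2 fun x hx hx' => hx.elim (n2 x hx') fun h => n12 x h hx'
  have hd3 : Disjoint ((D.Z : Set G) ∪ sat (S₁ D) ∪ sat (S₂ D)) (E D) := Set.disjoint_left.2 fun x hx hx' =>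
    hx.elim (fun h => h.elim (fun h' => E_not_Z D hx' h') (n3 x hx')) (n4 x hx')
  have e : Nat.card G = 3 + Nat.card (sat (S₁ D)) + Nat.card (sat (S₂ D)) + Nat.card (E D) := by
    have hu : ((D.Z : Set G) ∪ sat (S₁ D) ∪ sat (S₂ D) ∪ E D) = Set.univ := Set.eq_univ_of_forall fun x => by
      rcases cover D x with h | h | h | h
      exacts [Or.inl (Or.inl (Or.inl h)), Or.inl (Or.inl (Or.inr h)), Or.inl (Or.inr h), Or.inr h]
    rw [← Set.ncard_univ G, ← hu, Set.ncard_union_eq hd3, Set.ncard_union_eq hd2, Set.ncard_union_eq hd1]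
    simp only [Nat.card_coe_set_eq]
    rw [← Nat.card_coe_set_eq (D.Z : Set G), SetLike.coe_sort_coe, D.cardZ]
  omega

theorem conj_into_R {x : G} (hx : x ^ 9 = 1) : ∃ g : G, g * x * g⁻¹ ∈ D.R := by
  haveI : Fact (Nat.Prime 3) := ⟨by norm_num⟩
  have hX : IsPGroup 3 (Subgroup.zpowers x) := fun a => ⟨2, by
    obtain ⟨i, hi⟩ := Subgroup.mem_zpowers_iff.1 a.2
    apply Subtype.ext
    show (a : G) ^ (3 ^ 2) = 1
    rw [← hi, ← zpow_natCast, ← zpow_mul, mul_comm, zpow_mul, zpow_natCast]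
    norm_num [hx]⟩
  have hR : IsPGroup 3 D.R := IsPGroup.of_card (n := 3) (by rw [D.cardR]; norm_num)
  obtain ⟨P, hP⟩ := hX.exists_le_sylow
  obtain ⟨Q, hQ⟩ := hR.exists_le_sylow
  have hRQ : D.R = (Q : Subgroup G) := by
    obtain ⟨v, hv⟩ := IsPGroup.iff_card.1 Q.isPGroup'
    refine Subgroup.eq_of_le_of_card_ge hQ ?_
    rw [hv, D.cardR]
    have hv3 : v ≤ 3 := by
      by_contra h
      exact D.not81 ((pow_dvd_pow 3 (show 4 ≤ v by omega)).trans (hv ▸ Subgroup.card_subgroup_dvd_card _))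
    calc 3 ^ v ≤ 3 ^ 3 := Nat.pow_le_pow_right (by norm_num) hv3
      _ = 27 := by norm_num
  obtain ⟨g, hg⟩ := MulAction.exists_smul_eq G P Q
  refine ⟨g, ?_⟩
  rw [hRQ, ← hg, Sylow.coe_subgroup_smul, Subgroup.mem_pointwise_smul_iff_inv_smul_mem]
  have : (MulAut.conj g)⁻¹ • (g * x * g⁻¹) = x := by
    simp [MulAut.smul_def, mul_assoc]
  rw [this]
  exact hP (Subgroup.mem_zpowers x)

theorem mem_Z_of_three {x u : G} (hx : x ^ 9 = 1) (hu : orderOf u = 2) (h : Commute u x) : x ∈ D.Z := by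
  obtain ⟨g, hg⟩ := conj_into_R D hx
  by_contra hz
  exact R_odd D (D.centR _ hg (fun h' => hz (conj_mem_Z D h')) _ (CountData.conj_commute h g))
    (by rw [CountData.orderOf_conj', hu])

theorem exists_nine {H : Subgroup G} (h : 9 ∣ Nat.card H) : ∃ x ∈ H, x ^ 9 = 1 ∧ x ∉ D.Z := by
  haveI : Fact (Nat.Prime 3) := ⟨by norm_num⟩
  obtain ⟨K, hK⟩ := Sylow.exists_subgroup_card_pow_prime 3 (n := 2) (G := H) (by simpa using h)
  have hK' : Nat.card K = 9 := by simpa using hK
  by_contra hall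
  push Not at hall
  have hle : K.map H.subtype ≤ D.Z := by
    rintro _ ⟨y, hy, rfl⟩
    refine hall _ y.2 ?_
    have := congrArg Subtype.val (pow_card_eq_one' (x := (⟨y, hy⟩ : K)))
    rw [hK'] at this
    exact congrArg Subtype.val this
  have := Subgroup.card_le_of_le hle
  rw [Subgroup.card_map_of_injective H.subtype_injective, hK', D.cardZ] at this
  omega

variable {p : ℕ}
  (hE : ∀ z : G, (∀ u : G, orderOf u = 2 → ¬ Commute u z) → (∀ g : G, g * z * g⁻¹ ∉ D.R) →
    (∀ a b : G, Commute a z → Commute b z → Commute a b) ∧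
    (Nat.card (Subgroup.centralizer ({z} : Set G)) = 3 * p ∨
      Nat.card (Subgroup.normalizer ((Subgroup.centralizer ({z} : Set G)) : Set G)) ∣
        6 * Nat.card (Subgroup.centralizer ({z} : Set G))))
  {z : G} (hz : z ∈ E D)

theorem Z_le_B : D.Z ≤ B z := fun w hw => CountData.mem_B.2 (z_comm D hw z)

include hE hz

theorem B_comm {a b : G} (ha : a ∈ B z) (hb : b ∈ B z) : Commute a b :=
  (hE z hz.1 hz.2).1 a b (CountData.mem_B.1 ha) (CountData.mem_B.1 hb)

theorem B_E {y : G} (hy : y ∈ B z) (hyZ : y ∉ D.Z) : y ∈ E D := by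
  refine ⟨fun u hu hc => ?_, fun g hg => hz.2 g ?_⟩
  · obtain ⟨g, s, hs, e⟩ := mem_sat₁ D hu hc hyZ
    have hzy : Commute (g⁻¹ * z * g⁻¹⁻¹) s := by
      have := CountData.conj_commute (CountData.mem_B.1 hy).symm g⁻¹
      rwa [← e, show g⁻¹ * (g * s * g⁻¹) * g⁻¹⁻¹ = s by group] at this
    have := CountData.conj_commute (cent_t D hs.1 hs.2 hzy).symm g
    rw [show g * (g⁻¹ * z * g⁻¹⁻¹) * g⁻¹ = z by group] at this
    exact hz.1 _ (by rw [CountData.orderOf_conj', D.ht]) this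
  · exact D.centR _ hg (fun h' => hyZ (conj_mem_Z D h')) _ (CountData.conj_commute (CountData.mem_B.1 hy).symm g)

theorem B_centralizer {y g : G} (hy : y ∈ B z) (hyZ : y ∉ D.Z) (hg : Commute g y) : g ∈ B z :=
  CountData.mem_B.2 ((hE y (B_E D hE hz hy hyZ).1 (B_E D hE hz hy hyZ).2).1 g z hg (CountData.mem_B.1 hy).symm)

theorem B_three {y : G} (hy : y ∈ B z) (h : y ^ 9 = 1) : y ∈ D.Z := by
  by_contra hyZ
  obtain ⟨g, hg⟩ := conj_into_R D h
  exact (B_E D hE hz hy hyZ).2 g hg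

theorem B_ti {g y : G} (hy : y ∈ B z) (hyZ : y ∉ D.Z) (hy' : g * y * g⁻¹ ∈ B z) :
    g ∈ Subgroup.normalizer (B z : Set G) := by
  have hy'Z : g * y * g⁻¹ ∉ D.Z := fun h => hyZ (conj_mem_Z D h)
  refine Subgroup.mem_normalizer_iff.2 fun a => ⟨fun ha => ?_, fun ha => ?_⟩
  · exact B_centralizer D hE hz hy' hy'Z (CountData.conj_commute (B_comm D hE hz ha hy) g)
  · refine B_centralizer D hE hz hy hyZ ?_
    have := CountData.conj_commute (B_comm D hE hz ha hy') g⁻¹
    simpa [mul_assoc] using this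

/-- arithmetic data of one class -/
theorem card_B : ∃ b : ℕ, Nat.card (B z) = 3 * b ∧ Odd b ∧ ¬ 3 ∣ b ∧ 5 ≤ b := by
  classical
  obtain ⟨b, hb⟩ : 3 ∣ Nat.card (B z) := D.cardZ ▸ Subgroup.card_dvd_of_le (Z_le_B D)
  have hodd : ¬ 2 ∣ Nat.card (B z) := fun h => by
    haveI : Fact (Nat.Prime 2) := ⟨Nat.prime_two⟩
    obtain ⟨u, hu⟩ := exists_prime_orderOf_dvd_card' 2 h
    exact hz.1 u (by rw [Subgroup.orderOf_coe, hu]) (CountData.mem_B.1 u.2)
  have h9 : ¬ 9 ∣ Nat.card (B z) := fun h => by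
    obtain ⟨x, hx, hx9, hxZ⟩ := exists_nine D h
    exact hxZ (B_three D hE hz hx hx9)
  have hbodd : Odd b := by
    rw [Nat.odd_iff]
    by_contra h
    exact hodd (hb ▸ Dvd.dvd.mul_left (show 2 ∣ b by omega) 3)
  have hb3 : ¬ 3 ∣ b := fun h => h9 (hb ▸ mul_dvd_mul_left 3 h)
  have hb5 : 5 ≤ b := by
    have h1 : b ≠ 1 := fun h1 => by
      rw [h1, mul_one] at hb
      have e := Subgroup.eq_of_le_of_card_ge (Z_le_B D (z := z)) (by rw [hb, D.cardZ])
      exact E_not_Z D hz (e ▸ CountData.mem_B.2 (Commute.refl z))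
    obtain ⟨c, rfl⟩ := hbodd
    omega
  exact ⟨b, hb, hbodd, hb3, hb5⟩

/-- the cubes -/
theorem cube_sub {b : ℕ} (hb : Nat.card (B z) = 3 * b) (h3 : ¬ 3 ∣ b) :
    ∃ B' : Subgroup G, Nat.card B' = b ∧ B' ≤ B z ∧ (∀ w ∈ B', w ∈ D.Z → w = 1) ∧
      ∀ g ∈ Subgroup.normalizer (B z : Set G), ∀ w ∈ B', g * w * g⁻¹ ∈ B' := by
  let φ : B z →* G :=
    { toFun := fun y => (y : G) ^ 3
      map_one' := by simp
      map_mul' := fun x y => (B_comm D hE hz x.2 y.2).mul_pow 3 }
  have hker : φ.ker = D.Z.subgroupOf (B z) := by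
    ext y
    show (y : G) ^ 3 = 1 ↔ (y : G) ∈ D.Z
    refine ⟨fun h => B_three D hE hz y.2 ?_, z_cube D⟩
    rw [show 9 = 3 * 3 by rfl, pow_mul, h, one_pow]
  have hcard : Nat.card φ.range = b := by
    have h := Subgroup.card_mul_index φ.ker
    rw [Subgroup.index_ker, hb, hker, Nat.card_congr (Subgroup.subgroupOfEquivOfLe (Z_le_B D)).toEquiv, D.cardZ] at h
    omega
  refine ⟨φ.range, hcard, ?_, fun w hw hwZ => ?_, ?_⟩
  · rintro _ ⟨y, rfl⟩; exact pow_mem y.2 3
  · have h1 : orderOf w ∣ b := hcard ▸ Subgroup.orderOf_dvd_natCard _ hw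
    have h2 : orderOf w ∣ 3 := orderOf_dvd_of_pow_eq_one (z_cube D hwZ)
    have := Nat.dvd_gcd h2 h1
    rwa [(Nat.Prime.coprime_iff_not_dvd (by norm_num)).2 h3, Nat.dvd_one, orderOf_eq_one_iff] at this
  · rintro g hg _ ⟨y, rfl⟩
    exact ⟨⟨g * y * g⁻¹, (Subgroup.mem_normalizer_iff.1 hg y).1 y.2⟩, conj_pow⟩

include hE in
omit hz in
/-- the normaliser of a class representative acts on the cubes with bounded index -/
theorem E_eq_empty (h2 : D.m = 2) (hp : p.Prime) : ∀ z : G, z ∉ E D := by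
  classical
  intro z hz
  obtain ⟨b, hb, -, h3, h5⟩ := card_B D hE hz
  set N := Subgroup.normalizer (B z : Set G) with hNdef
  obtain ⟨P, hP, hPle, hPZ, hPn⟩ := cube_sub D hE hz hb h3
  have hle : B z ≤ N := Subgroup.le_normalizer
  set f := ((B z).subgroupOf N).index with hfdef
  have hNf : Nat.card N = f * (3 * b) := by
    rw [← Subgroup.card_mul_index ((B z).subgroupOf N), Nat.card_congr (Subgroup.subgroupOfEquivOfLe hle).toEquiv, hb,
      mul_comm, hfdef]
  have hf0 : 0 < f := Nat.pos_of_ne_zero fun e => by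
    have : 0 < Nat.card N := Nat.card_pos
    rw [hNf, e, zero_mul] at this
    omega
  have hbig : 72 * (b - 1) < f * b := by
    have h := CountData.ti_card ((B z : Set G) \ D.Z) N
      (fun g hg y hy => ⟨(Subgroup.mem_normalizer_iff.1 hg y).1 hy.1, fun h' => hy.2 (conj_mem_Z D h')⟩)
      (fun g y hy hy' => B_ti D hE hz hy.1 hy.2 hy'.1)
    have hS : Nat.card ((B z : Set G) \ D.Z : Set G) = 3 * b - 3 := by
      have h' := Set.ncard_sdiff_add_ncard_of_subset (show (D.Z : Set G) ⊆ B z from Z_le_B D)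
      simp only [← Nat.card_coe_set_eq, SetLike.coe_sort_coe, D.cardZ, hb] at h'
      omega
    rw [hS, hNf] at h
    have hxe : Nat.card (sat ((B z : Set G) \ D.Z)) ≤ Nat.card (E D) := by
      rw [Nat.card_coe_set_eq, Nat.card_coe_set_eq]
      refine Set.ncard_le_ncard ?_
      rintro _ ⟨g, y, hy, rfl⟩
      have hy' := B_E D hE hz hy.1 hy.2
      refine ⟨fun u hu hc => hy'.1 (g⁻¹ * u * g⁻¹⁻¹) (by rw [CountData.orderOf_conj', hu]) ?_,
        fun a ha => hy'.2 (a * g) ?_⟩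
      · have := CountData.conj_commute hc g⁻¹
        rwa [show g⁻¹ * (g * y * g⁻¹) * g⁻¹⁻¹ = y by group] at this
      · rwa [show a * g * y * (a * g)⁻¹ = a * (g * y * g⁻¹) * a⁻¹ by group]
    have heq := card_eq D h2
    obtain ⟨b', rfl⟩ : ∃ b', b = b' + 1 := ⟨b - 1, by omega⟩
    rw [show 3 * (b' + 1) - 3 = 3 * b' by omega] at h
    rw [Nat.add_sub_cancel]
    by_contra hle'
    push Not at hle'
    have := Nat.mul_le_mul_left (Nat.card (sat ((B z : Set G) \ D.Z))) hle'
    nlinarith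
  have hor : f ∣ 6 ∨ b = p := by
    have h := (hE z hz.1 hz.2).2
    change Nat.card (B z) = 3 * p ∨ Nat.card N ∣ 6 * Nat.card (B z) at h
    rw [hb, hNf] at h
    rcases h with h | h
    · exact Or.inr (by omega)
    · exact Or.inl (Nat.dvd_of_mul_dvd_mul_right (by omega) h)
  have hf57 : 57 ≤ f := by
    by_contra hlt
    have := Nat.mul_le_mul_right b (show f ≤ 56 by omega)
    omega
  obtain rfl : b = p := hor.resolve_left fun h => by
    have := Nat.le_of_dvd (by norm_num) h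
    omega
  haveI : Fact b.Prime := ⟨hp⟩
  let φ : N →* MulAut P :=
    { toFun := fun g =>
        { toFun := fun w => ⟨g * w * (g : G)⁻¹, hPn _ g.2 _ w.2⟩
          invFun := fun w => ⟨(g : G)⁻¹ * w * (g : G)⁻¹⁻¹, hPn _ (inv_mem g.2) _ w.2⟩
          left_inv := fun w => Subtype.ext (by simp [mul_assoc])
          right_inv := fun w => Subtype.ext (by simp [mul_assoc])
          map_mul' := fun a b => Subtype.ext (by simp [mul_assoc]) }
      map_one' := MulEquiv.ext fun w => Subtype.ext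
        (show ((1 : N) : G) * w * ((1 : N) : G)⁻¹ = w by simp)
      map_mul' := fun a b => MulEquiv.ext fun w => Subtype.ext
        (show ((a * b : N) : G) * w * ((a * b : N) : G)⁻¹ = a * (b * w * (b : G)⁻¹) * (a : G)⁻¹ by simp [mul_assoc]) }
  have hker : φ.ker = (B z).subgroupOf N := by
    haveI : Nontrivial P := Finite.one_lt_card_iff_nontrivial.1 (by rw [hP]; omega)
    obtain ⟨⟨w, hw⟩, hw1⟩ := exists_ne (1 : P)
    ext g
    rw [MonoidHom.mem_ker, Subgroup.mem_subgroupOf]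
    constructor
    · intro h
      have e : (g : G) * w * (g : G)⁻¹ = w := congrArg Subtype.val (DFunLike.congr_fun h ⟨w, hw⟩)
      exact B_centralizer D hE hz (hPle hw) (fun h' => hw1 (Subtype.ext (hPZ w hw h'))) (mul_inv_eq_iff_eq_mul.1 e)
    · intro h
      refine MulEquiv.ext fun w => Subtype.ext (show (g : G) * w * (g : G)⁻¹ = w from ?_)
      rw [(B_comm D hE hz h (hPle w.2)).eq, mul_inv_cancel_right]
  haveI : IsCyclic P := isCyclic_of_prime_card hP
  haveI : Fact (Nat.card P).Prime := ⟨hP ▸ hp⟩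
  haveI : IsCyclic (MulAut P) :=
    isCyclic_of_surjective (IsCyclic.mulAutMulEquiv P).symm.toMonoidHom (IsCyclic.mulAutMulEquiv P).symm.surjective
  obtain ⟨⟨_, g₀, rfl⟩, hg₀⟩ := IsCyclic.exists_ofOrder_eq_natCard (α := φ.range)
  rw [← Subgroup.index_ker, hker, ← hfdef, ← Subgroup.orderOf_coe] at hg₀
  have hfb : f ∣ b - 1 := by
    rw [hfdef, ← hker, Subgroup.index_ker]
    refine (Subgroup.card_subgroup_dvd_card _).trans (dvd_of_eq ?_)
    rw [Nat.card_congr (IsCyclic.mulAutMulEquiv P).toEquiv, hP, Nat.card_eq_fintype_card, ZMod.card_units]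
  have hcop : Nat.Coprime f b := (hp.coprime_iff_not_dvd.2 fun h => by
    have := Nat.le_of_dvd hf0 h
    have := Nat.le_of_dvd (by omega) hfb
    omega).symm
  have hord : orderOf (φ (g₀ ^ b)) = f := by
    rw [map_pow, Nat.Coprime.orderOf_pow (hg₀.symm ▸ hcop), hg₀]
  set n : G := ((g₀ ^ b : N) : G) with hn
  have up : ∀ k, n ^ k ∈ D.Z → f ∣ k := fun k hk => by
    rw [← hord, orderOf_dvd_iff_pow_eq_one, ← map_pow, ← MonoidHom.mem_ker, hker, Subgroup.mem_subgroupOf]
    exact Z_le_B D (by simpa [hn] using hk)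
  have small : ∀ k, 0 < k → k < 57 → n ^ k ∉ D.Z := fun k h0 hk h => by
    have := Nat.le_of_dvd h0 (up k h)
    omega
  have back : ∀ g y : G, ∀ k, g * y * g⁻¹ = n → y ^ k ∈ D.Z → n ^ k ∈ D.Z := fun g y k e h => by
    rw [← e, conj_pow, (z_comm D h g).symm.eq, mul_inv_cancel_right]; exact h
  rcases cover D n with h | h | h | h
  · exact small 1 one_pos (by norm_num) (by rwa [pow_one])
  · obtain ⟨g, y, hy, e⟩ := h
    refine small 4 (by norm_num) (by norm_num) (back g y 4 e ?_)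
    by_cases hC : y ∈ D.C
    · refine mem_Z_of_three D ?_ D.ht (hy.1.pow_left 4).symm
      have h6 := congrArg Subtype.val (pow_card_eq_one' (x := (⟨y, hC⟩ : D.C)))
      rw [D.cardC, h2] at h6
      simp only [SubmonoidClass.coe_pow, OneMemClass.coe_one] at h6
      rw [← pow_mul, show 4 * 9 = 6 * 2 * 3 by rfl, pow_mul, h6, one_pow]
    · have hz0 := D.dic y hy.1 hC
      have := mul_mem hz0 hz0
      rwa [((hy.1.mul_left hy.1)).mul_mul_mul_comm, CountData.sq_one D.ht, one_mul, ← pow_two y, ← pow_add] at this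
  · obtain ⟨g, y, hy, e⟩ := h
    refine small 27 (by norm_num) (by norm_num) (back g y 27 e ?_)
    have h27 := congrArg Subtype.val (pow_card_eq_one' (x := (⟨y, hy.1⟩ : D.R)))
    rw [D.cardR] at h27
    simp only [SubmonoidClass.coe_pow, OneMemClass.coe_one] at h27
    rw [h27]; exact one_mem _
  · obtain ⟨c, hcn, -, h3c, hc5⟩ := card_B D hE h
    obtain ⟨Q, -, -, -, -⟩ := cube_sub D hE h hcn h3c
    have hnb : n ^ c ∈ D.Z := B_three D hE h (pow_mem (CountData.mem_B.2 (Commute.refl n)) c) (by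
      have h1 := congrArg Subtype.val (pow_card_eq_one' (x := (⟨n, CountData.mem_B.2 (Commute.refl n)⟩ : B n)))
      rw [hcn] at h1
      simp only [SubmonoidClass.coe_pow, OneMemClass.coe_one] at h1
      rw [← pow_mul, show c * 9 = 3 * c * 3 by ring, pow_mul, h1, one_pow])
    have hh := (hE n h.1 h.2).2
    change Nat.card (B n) = 3 * b ∨
      Nat.card (Subgroup.normalizer (B n : Set G)) ∣ 6 * Nat.card (B n) at hh
    rcases hh with hh | hh
    · have e : c = b := by omega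
      subst e
      have := Nat.Coprime.eq_one_of_dvd hcop (up c hnb)
      omega
    · have hti := CountData.ti_card ((B n : Set G) \ D.Z) (Subgroup.normalizer (B n : Set G))
        (fun g hg y hy => ⟨(Subgroup.mem_normalizer_iff.1 hg y).1 hy.1, fun h' => hy.2 (conj_mem_Z D h')⟩)
        (fun g y hy hy' => B_ti D hE h hy.1 hy.2 hy'.1)
      have hxe : Nat.card (sat ((B n : Set G) \ D.Z)) ≤ Nat.card (E D) := by
        rw [Nat.card_coe_set_eq, Nat.card_coe_set_eq]
        refine Set.ncard_le_ncard ?_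
        rintro _ ⟨g, y, hy, rfl⟩
        have hy' := B_E D hE h hy.1 hy.2
        refine ⟨fun u hu hc => hy'.1 (g⁻¹ * u * g⁻¹⁻¹) (by rw [CountData.orderOf_conj', hu]) ?_,
          fun a ha => hy'.2 (a * g) ?_⟩
        · have := CountData.conj_commute hc g⁻¹
          rwa [show g⁻¹ * (g * y * g⁻¹) * g⁻¹⁻¹ = y by group] at this
        · rwa [show a * g * y * (a * g)⁻¹ = a * (g * y * g⁻¹) * a⁻¹ by group]
      have hS : Nat.card ((B n : Set G) \ D.Z : Set G) = 3 * c - 3 := by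
        have h' := Set.ncard_sdiff_add_ncard_of_subset (show (D.Z : Set G) ⊆ B n from Z_le_B D)
        simp only [← Nat.card_coe_set_eq, SetLike.coe_sort_coe, D.cardZ, hcn] at h'
        omega
      have hNle := Nat.le_of_dvd (by have : 0 < Nat.card (B n) := Nat.card_pos; omega) hh
      rw [hcn] at hNle
      rw [hS] at hti
      have heq := card_eq D h2
      obtain ⟨c', rfl⟩ : ∃ c', c = c' + 1 := ⟨c - 1, by omega⟩
      rw [show 3 * (c' + 1) - 3 = 3 * c' by omega] at hti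
      have := Nat.mul_le_mul hxe hNle
      nlinarith

end DicyclicData

/-- the quaternion case is the normaliser of order 216 -/
theorem count_quaternion {G : Type*} [Group G] [Finite G] (D : DicyclicData G) (h2 : D.m = 2) (p : ℕ) (hp : p.Prime)
    (centE : ∀ z : G, (∀ u : G, orderOf u = 2 → ¬ Commute u z) → (∀ g : G, g * z * g⁻¹ ∉ D.R) →
      (∀ a b : G, Commute a z → Commute b z → Commute a b) ∧
      (Nat.card (Subgroup.centralizer ({z} : Set G)) = 3 * p ∨
        Nat.card (Subgroup.normalizer ((Subgroup.centralizer ({z} : Set G)) : Set G)) ∣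
          6 * Nat.card (Subgroup.centralizer ({z} : Set G)))) : Nat.card G = 216 := by
  have h := DicyclicData.card_eq D h2
  have he : DicyclicData.E D = ∅ := Set.eq_empty_of_forall_notMem (DicyclicData.E_eq_empty D centE h2 hp)
  rw [he, Nat.card_coe_set_eq, Set.ncard_empty] at h
  omega

end Cfsg.Agent.Forms.Max.SL3.SympType
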