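import Mathlib
import Cfsg.Agent.Lib.Forms.Max.SL3.SympType.Invol
import Cfsg.Agent.Lib.Forms.Max.SL3.SympType.Count
import Cfsg.Agent.Lib.Forms.Max.SL3.SympType.Quaternion

/-!
# Assembling the counting data
-/

set_option autoImplicit false
set_option linter.unusedSectionVars false

namespace Cfsg.Agent.Forms.Max.SL3.SympType

open Matrix

variable {F : Type*} [Field F] [Fintype F] {H : Subgroup (GL (Fin 3) F)} {p : ℕ} {ω : F}

/-- the facts on elements commuting with no involution and not conjugate into the extraspecial group -/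
structure Elem (h : Amb H p ω) : Prop where
  psq : ¬ p ^ 2 ∣ Nat.card H
  scal : ∀ z : H, (∀ u : H, orderOf u = 2 → ¬ Commute u z) → (∀ g : H, g * z * g⁻¹ ∉ r0Grp h) →
    ∀ g : H, ∀ w ∈ zGrp h, g * z * g⁻¹ = z * w → w = 1
  centE : ∀ z : H, (∀ u : H, orderOf u = 2 → ¬ Commute u z) → (∀ g : H, g * z * g⁻¹ ∉ r0Grp h) →
    (∀ a b : H, Commute a z → Commute b z → Commute a b) ∧
    (Nat.card (Subgroup.centralizer ({z} : Set H)) = 3 * p ∨
      Nat.card (Subgroup.normalizer ((Subgroup.centralizer ({z} : Set H)) : Set H)) ∣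
        6 * Nat.card (Subgroup.centralizer ({z} : Set H)))

namespace Setup

variable {h : Amb H p ω} (S : Setup h)

theorem q_mem : S.q ∈ S.C := S.mem_C.2 (Commute.refl _)

theorem t_mem : S.t ∈ S.C := S.qq ▸ mul_mem S.q_mem S.q_mem

theorem Z_le : zGrp h ≤ S.C := fun z hz =>
  S.mem_C.2 (Subgroup.mem_center_iff.1 (h.zGrp_le_center hz) S.q).symm

theorem C_le : S.C ≤ Subgroup.centralizer ({S.t} : Set H) := fun _ hg =>
  Subgroup.mem_centralizer_singleton_iff.2 (S.C_comm_t hg)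

theorem f_not_C : S.f ∉ S.C := S.not_C_of_anti S.hf S.fanti

theorem order_q : orderOf S.q = 4 := by
  refine orderOf_eq_prime_pow (p := 2) (n := 1) ?_ ?_
  · rw [pow_one, pow_two, S.qq]; exact h.t_ne S.ht
  · rw [show 2 ^ (1 + 1) = 2 * 2 from rfl, pow_mul, pow_two, pow_two, S.qq, h.t_sq S.ht]

theorem twelve_dvd {A : Subgroup H} (hq : S.q ∈ A) (hZ : zGrp h ≤ A) : 12 ∣ Nat.card A := by
  have h4 : 4 ∣ Nat.card A := S.order_q ▸ Subgroup.orderOf_dvd_natCard A hq
  have h3 : 3 ∣ Nat.card A := by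
    have := Subgroup.card_dvd_of_le hZ
    rwa [h.card_zGrp] at this
  exact Nat.Coprime.mul_dvd_of_dvd_of_dvd (by norm_num : Nat.Coprime 4 3) h4 h3

theorem card_L : Nat.card (Subgroup.centralizer ({S.t} : Set H)) = 2 * Nat.card S.C :=
  (card_two_cosets S.C_le (Subgroup.mem_centralizer_singleton_iff.2 S.hf) S.f_not_C fun x hx hx' =>
    S.mul_anti S.hf.inv_left (fun e => S.f_not_C (by simpa using inv_mem e))
      (Subgroup.mem_centralizer_singleton_iff.1 hx) hx').1

/-- the elements of the commuting part of positive character -/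
def C1 : Subgroup H where
  carrier := {c | c ∈ S.C ∧ aM c ^ 3 = 1}
  one_mem' := ⟨one_mem _, by
    rw [(h.of_blk (g := (1 : H)) (a := 1) (W := 1) (by rw [mt_one, one_mul, blk_one, mul_one])).1, one_pow]⟩
  mul_mem' := by
    rintro a b ⟨ha, ha'⟩ ⟨hb, hb'⟩
    exact ⟨mul_mem ha hb, by rw [(h.aM_wM_mul S.ht (S.C_comm_t ha) (S.C_comm_t hb)).1, mul_pow, ha', hb', one_mul]⟩
  inv_mem' := by
    rintro a ⟨ha, ha'⟩
    refine ⟨inv_mem ha, ?_⟩
    obtain ⟨m, hm⟩ : ∃ m, a ^ (m + 1) = 1 :=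
      ⟨orderOf a - 1, by rw [Nat.sub_add_cancel (orderOf_pos a), pow_orderOf_eq_one]⟩
    rw [show a⁻¹ = a ^ m from inv_eq_of_mul_eq_one_left (by rw [← pow_succ]; exact hm),
      (h.aM_wM_pow S.ht (S.C_comm_t ha) m).1, ← pow_mul, mul_comm, pow_mul, ha', one_pow]

theorem q_mem_C1 : S.q ∈ S.C1 := ⟨S.q_mem, by rw [S.q_a, one_pow]⟩

theorem Z_le_C1 : zGrp h ≤ S.C1 := fun z hz => ⟨S.Z_le hz, by
  obtain ⟨i, hi⟩ := h.mem_zGrp.1 hz
  have hd := h.det_wM S.ht (S.C_comm_t (S.Z_le hz))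
  rw [(h.mem_Z_iff S.ht (S.C_comm_t (S.Z_le hz))).1 hz, Matrix.det_smul, Fintype.card_fin, Matrix.det_one,
    mul_one, ← pow_succ'] at hd
  exact hd⟩

theorem pL : ¬ p ∣ Nat.card (Subgroup.centralizer ({S.t} : Set H)) := by
  intro hd
  have : Fact p.Prime := h.fact
  obtain ⟨x, hx⟩ := exists_prime_orderOf_dvd_card' p hd
  have hxt : Commute (x : H) S.t := Subgroup.mem_centralizer_singleton_iff.1 x.2
  obtain ⟨y, hy, ey⟩ := mem_planeGroup_of_mem h.det_bL_ne (mem_mt _) (h.blk_of_comm S.ht hxt)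
  obtain ⟨a0, w0⟩ := h.of_blk (g := (1 : H)) (a := 1) (W := 1) (by rw [mt_one, one_mul, blk_one, mul_one])
  have hxp : (x : H) ^ p = 1 := by
    rw [← Subgroup.coe_pow, orderOf_dvd_iff_pow_eq_one.1 (dvd_of_eq hx), Subgroup.coe_one]
  have hyp : y ^ p = 1 := Units.ext (by
    rw [Units.val_pow_eq_pow_val, ey, ← (h.aM_wM_pow S.ht hxt p).2, hxp, w0, Units.val_one])
  have hy1 := planeGroup_pow_eq_one p h.card h.noTr h.det_bL_ne y hy hyp
  rw [hy1, Units.val_one, ← w0] at ey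
  have hx1 : (x : H) = 1 := h.eq_of_wM S.ht hxt (Commute.one_left _) ey.symm
  rw [show x = 1 from Subtype.ext hx1, orderOf_one] at hx
  exact h.prime.ne_one hx.symm

theorem cardI_eq (hI : ∃ g : H, Commute g S.t ∧ g ∉ S.C ∧ g * g ∈ zGrp h) (h9 : p % 9 ≠ 1) :
    Nat.card S.C = 2 * Nat.card S.C1 ∧
      Nat.card {g : H // Commute g S.t ∧ g ∉ S.C ∧ g * g ∈ zGrp h} = Nat.card S.C1 := by
  obtain ⟨g, hg, hgC, hgZ⟩ := hI
  have hga : aM g ^ 3 = -1 := (S.sq h9 hg hgC).1.1 hgZ
  have hfi : S.f⁻¹ ∉ S.C := fun e => S.f_not_C (by simpa using inv_mem e)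
  have afi : aM S.f⁻¹ = 1 := by
    have e := (h.aM_wM_mul S.ht S.hf S.hf.inv_left).1
    rw [mul_inv_cancel, S.fa, one_mul,
      (h.of_blk (g := (1 : H)) (a := 1) (W := 1) (by rw [mt_one, one_mul, blk_one, mul_one])).1] at e
    exact e.symm
  set c0 := S.f⁻¹ * g with hc0
  have hc0C : c0 ∈ S.C := S.mul_anti S.hf.inv_left hfi hg hgC
  have hc0a : aM c0 ^ 3 = -1 := by rw [(h.aM_wM_mul S.ht S.hf.inv_left hg).1, afi, one_mul, hga]
  have hne : (-1 : F) ≠ 1 := fun e => h.two (by linear_combination -e)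
  have key := card_two_cosets (A := S.C1) (B := S.C) (fun _ hx => hx.1) hc0C
    (fun e => hne (hc0a ▸ e.2)) fun x hx hx' => ?_
  · refine ⟨key.1, ?_⟩
    rw [← key.2]
    refine Nat.card_congr
      { toFun := fun x => ⟨S.f⁻¹ * x.1, S.mul_anti S.hf.inv_left hfi x.2.1 x.2.2.1, fun e => hne ?_⟩
        invFun := fun c => ⟨S.f * c.1, S.hf.mul_left (S.C_comm_t c.2.1), ?_, ?_⟩
        left_inv := fun x => Subtype.ext (mul_inv_cancel_left S.f x.1)
        right_inv := fun c => Subtype.ext (inv_mul_cancel_left S.f c.1) }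
    · have := e.2
      rw [(h.aM_wM_mul S.ht S.hf.inv_left x.2.1).1, afi, one_mul, (S.sq h9 x.2.1 x.2.2.1).1.1 x.2.2.2] at this
      exact this
    · exact fun e => S.f_not_C (by simpa using mul_mem e (inv_mem c.2.1))
    · refine (S.sq h9 (S.hf.mul_left (S.C_comm_t c.2.1))
        (fun e => S.f_not_C (by simpa using mul_mem e (inv_mem c.2.1)))).1.2 ?_
      rw [(h.aM_wM_mul S.ht S.hf (S.C_comm_t c.2.1)).1, S.fa, one_mul]
      exact (mul_self_eq_one_iff.1 (S.C_six h9 c.2.1)).resolve_left fun e => c.2.2 ⟨c.2.1, e⟩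
  · refine ⟨mul_mem (inv_mem hc0C) hx, ?_⟩
    have hxa : aM x ^ 3 = -1 := (mul_self_eq_one_iff.1 (S.C_six h9 hx)).resolve_left fun e => hx' ⟨hx, e⟩
    have hyC : c0⁻¹ * x ∈ S.C := mul_mem (inv_mem hc0C) hx
    have e := (h.aM_wM_mul S.ht (S.C_comm_t hc0C) (S.C_comm_t hyC)).1
    rw [mul_inv_cancel_left] at e
    rw [e, mul_pow, hc0a] at hxa
    linear_combination -hxa

end Setup

namespace Amb

variable (h : Amb H p ω)
include h

/-- **Without transvections the group normalises the extraspecial group.** -/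
theorem le_normalizer_r0 (h9 : p % 9 ≠ 1) (hE : Elem h) : Subgroup.normalizer (r0Grp h : Set H) = ⊤ := by
  obtain ⟨S⟩ := h.exists_setup h9
  have h12 := S.twelve_dvd S.q_mem S.Z_le
  obtain ⟨k, hk⟩ := h12
  have hk0 : k ≠ 0 := fun e => (Nat.card_pos (α := S.C)).ne' (by rw [hk, e, mul_zero])
  have hL := S.card_L
  rw [hk] at hL
  by_cases hI : ∃ g : H, Commute g S.t ∧ g ∉ S.C ∧ g * g ∈ zGrp h
  · obtain ⟨hC, hcI⟩ := S.cardI_eq hI h9
    obtain ⟨j, hj⟩ := S.twelve_dvd S.q_mem_C1 S.Z_le_C1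
    exact (count_false
      { Z := zGrp h, R := r0Grp h, C := S.C, t := S.t, q := S.q, p := p, m := 2 * k
        hZ := h.zGrp_le_center, cardZ := h.card_zGrp, hZR := h.zGrp_le, cardR := h.card_r0Grp
        not81 := h.not_eightyone h9, cardN := h.card_normalizer h9, ti := h.ti h9, centR := h.centR h9
        ht := h.t_order S.ht, hCL := S.C_le, Ccomm := S.Ccomm
        cardC := by rw [hk]; ring
        cardL := by rw [hL]; ring
        four := ⟨j, by rw [hk, hj] at hC; omega⟩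
        Cinv := S.Cinv h9, hq := ⟨S.q_mem, S.qq⟩, anti := S.anti, fix := S.fix h9, centC := S.centC h9
        sq := fun g hg hC => (S.sq h9 hg hC).2.2
        cardI := by rw [hcI]; omega
        hp := h.prime, p7 := h.seven
        pL := by rw [show 12 * (2 * k) = Nat.card (Subgroup.centralizer ({S.t} : Set H)) by rw [hL]; ring]; exact S.pL
        psq := hE.psq, scal := hE.scal, centE := hE.centE }).elim
  · push Not at hI
    let D : DicyclicData H :=
      { Z := zGrp h, R := r0Grp h, C := S.C, t := S.t, q := S.q, m := 2 * k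
        hm := by omega
        hZ := h.zGrp_le_center, cardZ := h.card_zGrp, hZR := h.zGrp_le, cardR := h.card_r0Grp
        not81 := h.not_eightyone h9, cardN := h.card_normalizer h9, ti := h.ti h9, centR := h.centR h9
        ht := h.t_order S.ht, hCL := S.C_le, Ccomm := S.Ccomm
        cardC := by rw [hk]; ring
        cardL := by rw [hL]; ring
        Cinv := S.Cinv h9, hq := ⟨S.q_mem, S.qq⟩, anti := S.anti, centC := S.centC h9
        dic := fun g hg hC => (S.sq h9 hg hC).2.2.resolve_left (hI g hg hC) }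
    by_cases h3 : 3 ≤ D.m
    · exact (count_dicyclic D h3).elim
    · have h216 := count_quaternion D (by show 2 * k = 2; have : ¬ 3 ≤ 2 * k := h3; omega) p h.prime hE.centE
      exact Subgroup.eq_top_of_card_eq _ (by rw [h.card_normalizer h9, h216])

end Amb

end Cfsg.Agent.Forms.Max.SL3.SympType
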