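import Mathlib

/-!
# Three by three matrices: characteristic equation, roots, rank one
-/

set_option autoImplicit false
set_option linter.unusedSectionVars false

namespace Cfsg.Agent.Forms.Max.SL3.SympType

open Matrix

variable {K : Type*} [Field K]

local notation "M3" => Matrix (Fin 3) (Fin 3) K

/-- the second coefficient of the characteristic polynomial -/
def sC (M : Matrix (Fin 3) (Fin 3) K) : K :=
  M 0 0 * M 1 1 - M 0 1 * M 1 0 + (M 0 0 * M 2 2 - M 0 2 * M 2 0) + (M 1 1 * M 2 2 - M 1 2 * M 2 1)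

theorem trace_sq (M : M3) : M.trace * M.trace - (M * M).trace = 2 * sC M := by
  simp [Matrix.trace_fin_three, sC, Matrix.mul_apply, Fin.sum_univ_three]
  ring

theorem adjugate_three (M : M3) : M.adjugate = M * M - M.trace • M + sC M • 1 := by
  ext i j
  fin_cases i <;> fin_cases j <;>
    simp [Matrix.adjugate_fin_three, Matrix.trace_fin_three, sC, Matrix.mul_apply, Fin.sum_univ_three] <;> ring

theorem cayley_three (M : M3) : M * M * M - M.trace • (M * M) + sC M • M - M.det • 1 = 0 := by
  have e := Matrix.mul_adjugate M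
  rw [adjugate_three, mul_add, mul_sub, Matrix.mul_smul, Matrix.mul_smul, mul_one, ← Matrix.mul_assoc] at e
  rw [e, sub_self]

theorem det_sub_three (M : M3) (r : K) :
    (r • 1 - M).det = r ^ 3 - M.trace * r ^ 2 + sC M * r - M.det := by
  simp [Matrix.det_fin_three, Matrix.trace_fin_three, sC]
  ring

theorem exists_roots [IsAlgClosed K] (M : M3) : ∃ r : Fin 3 → K,
    r 0 + r 1 + r 2 = M.trace ∧ r 0 * r 1 + r 0 * r 2 + r 1 * r 2 = sC M ∧ r 0 * r 1 * r 2 = M.det := by
  obtain ⟨x, hx⟩ : ∃ x : K, (Polynomial.X ^ 3 + Polynomial.C (-M.trace) * Polynomial.X ^ 2 +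
      Polynomial.C (sC M) * Polynomial.X + Polynomial.C (-M.det)).IsRoot x :=
    IsAlgClosed.exists_root _ (by
      have : (Polynomial.X ^ 3 + Polynomial.C (-M.trace) * Polynomial.X ^ 2 +
          Polynomial.C (sC M) * Polynomial.X + Polynomial.C (-M.det)).natDegree = 3 := by compute_degree!
      exact fun e => by rw [Polynomial.natDegree, e] at this; simp at this)
  obtain ⟨y, hy⟩ : ∃ y : K, (Polynomial.X ^ 2 + Polynomial.C (x - M.trace) * Polynomial.X +
      Polynomial.C (sC M + x ^ 2 - M.trace * x)).IsRoot y :=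
    IsAlgClosed.exists_root _ (by
      have : (Polynomial.X ^ 2 + Polynomial.C (x - M.trace) * Polynomial.X +
          Polynomial.C (sC M + x ^ 2 - M.trace * x)).natDegree = 2 := by compute_degree!
      exact fun e => by rw [Polynomial.natDegree, e] at this; simp at this)
  simp [Polynomial.IsRoot] at hx hy
  refine ⟨![x, y, M.trace - x - y], ?_, ?_, ?_⟩ <;> simp
  · linear_combination -hy
  · linear_combination hx - x * hy

theorem root_eq {M : M3} {r : Fin 3 → K} (ht : r 0 + r 1 + r 2 = M.trace)
    (hs : r 0 * r 1 + r 0 * r 2 + r 1 * r 2 = sC M) (hd : r 0 * r 1 * r 2 = M.det) (i : Fin 3) :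
    r i ^ 3 - M.trace * r i ^ 2 + sC M * r i - M.det = 0 := by
  fin_cases i <;> simp <;> rw [← ht, ← hs, ← hd] <;> ring

theorem exists_eigen {M : M3} {r : Fin 3 → K} (ht : r 0 + r 1 + r 2 = M.trace)
    (hs : r 0 * r 1 + r 0 * r 2 + r 1 * r 2 = sC M) (hd : r 0 * r 1 * r 2 = M.det) (i : Fin 3) :
    ∃ v : Fin 3 → K, v ≠ 0 ∧ M *ᵥ v = r i • v := by
  obtain ⟨v, hv, e⟩ := Matrix.exists_mulVec_eq_zero_iff.2
    ((det_sub_three M (r i)).trans (root_eq ht hs hd i))
  rw [Matrix.sub_mulVec, Matrix.smul_mulVec, Matrix.one_mulVec, sub_eq_zero] at e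
  exact ⟨v, hv, e.symm⟩

/-- three eigenvectors for distinct eigenvalues give an invertible frame -/
theorem exists_frame {M : M3} {r : Fin 3 → K} (ht : r 0 + r 1 + r 2 = M.trace)
    (hs : r 0 * r 1 + r 0 * r 2 + r 1 * r 2 = sC M) (hd : r 0 * r 1 * r 2 = M.det) (hr : Function.Injective r) :
    ∃ P : M3, P.det ≠ 0 ∧ M * P = P * diagonal r := by
  choose v hv0 hv using exists_eigen ht hs hd
  refine ⟨Matrix.of fun i j => v j i, ?_, ?_⟩
  · intro hP
    obtain ⟨c, hc, e⟩ := Matrix.exists_mulVec_eq_zero_iff.2 hP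
    have e0 : c 0 • v 0 + c 1 • v 1 + c 2 • v 2 = 0 := by
      funext i
      have := congrFun e i
      simp [Matrix.mulVec, dotProduct, Fin.sum_univ_three] at this
      simp
      linear_combination this
    have e1 := congrArg (M *ᵥ ·) e0
    simp only [Matrix.mulVec_add, Matrix.mulVec_smul, hv, smul_smul, Matrix.mulVec_zero] at e1
    have e2 := congrArg (M *ᵥ ·) e1
    simp only [Matrix.mulVec_add, Matrix.mulVec_smul, hv, smul_smul, Matrix.mulVec_zero] at e2
    have h01 : r 0 - r 1 ≠ 0 := sub_ne_zero.2 (hr.ne (by decide))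
    have h02 : r 0 - r 2 ≠ 0 := sub_ne_zero.2 (hr.ne (by decide))
    have h12 : r 1 - r 2 ≠ 0 := sub_ne_zero.2 (hr.ne (by decide))
    have k0 : (c 0 * ((r 0 - r 1) * (r 0 - r 2))) • v 0 = 0 := by
      funext i
      have a0 := congrFun e0 i
      have a1 := congrFun e1 i
      have a2 := congrFun e2 i
      simp only [Pi.smul_apply, Pi.add_apply, Pi.zero_apply, smul_eq_mul] at a0 a1 a2 ⊢
      linear_combination (exp := 1) a2 - (r 1 + r 2) * a1 + r 1 * r 2 * a0
    have k1 : (c 1 * ((r 0 - r 1) * (r 1 - r 2))) • v 1 = 0 := by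
      funext i
      have a0 := congrFun e0 i
      have a1 := congrFun e1 i
      have a2 := congrFun e2 i
      simp only [Pi.smul_apply, Pi.add_apply, Pi.zero_apply, smul_eq_mul] at a0 a1 a2 ⊢
      linear_combination (exp := 1) -a2 + (r 0 + r 2) * a1 - r 0 * r 2 * a0
    have k2 : (c 2 * ((r 0 - r 2) * (r 1 - r 2))) • v 2 = 0 := by
      funext i
      have a0 := congrFun e0 i
      have a1 := congrFun e1 i
      have a2 := congrFun e2 i
      simp only [Pi.smul_apply, Pi.add_apply, Pi.zero_apply, smul_eq_mul] at a0 a1 a2 ⊢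
      linear_combination (exp := 1) a2 - (r 0 + r 1) * a1 + r 0 * r 1 * a0
    refine hc (funext fun i => ?_)
    fin_cases i
    · exact (mul_eq_zero.1 ((smul_eq_zero.1 k0).resolve_right (hv0 0))).resolve_right (mul_ne_zero h01 h02)
    · exact (mul_eq_zero.1 ((smul_eq_zero.1 k1).resolve_right (hv0 1))).resolve_right (mul_ne_zero h01 h12)
    · exact (mul_eq_zero.1 ((smul_eq_zero.1 k2).resolve_right (hv0 2))).resolve_right (mul_ne_zero h02 h12)
  · ext i j
    have := congrFun (hv j) i
    simp [Matrix.mulVec, dotProduct, Fin.sum_univ_three] at this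
    rw [Matrix.mul_apply, Matrix.mul_diagonal, Fin.sum_univ_three]
    simp
    linear_combination this

set_option maxHeartbeats 6000000 in
/-- a matrix with vanishing adjugate has rank at most one -/
theorem exists_vecMulVec {N : M3} (h : N.adjugate = 0) : ∃ u φ : Fin 3 → K, N = vecMulVec u φ := by
  by_cases hN : N = 0
  · exact ⟨0, 0, by rw [hN]; ext i j; simp [Matrix.vecMulVec_apply]⟩
  obtain ⟨a, b, hab⟩ : ∃ a b, N a b ≠ 0 := by
    by_contra hc
    push Not at hc
    exact hN (Matrix.ext fun i j => by simpa using hc i j)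
  refine ⟨fun i => N i b, fun j => N a j / N a b, ?_⟩
  rw [Matrix.adjugate_fin_three] at h
  have c00 := congrFun (congrFun h 0) 0
  have c01 := congrFun (congrFun h 0) 1
  have c02 := congrFun (congrFun h 0) 2
  have c10 := congrFun (congrFun h 1) 0
  have c11 := congrFun (congrFun h 1) 1
  have c12 := congrFun (congrFun h 1) 2
  have c20 := congrFun (congrFun h 2) 0
  have c21 := congrFun (congrFun h 2) 1
  have c22 := congrFun (congrFun h 2) 2
  simp at c00 c01 c02 c10 c11 c12 c20 c21 c22
  ext i j
  rw [Matrix.vecMulVec_apply, mul_div_assoc', eq_div_iff hab]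
  fin_cases i <;> fin_cases a <;> fin_cases j <;> fin_cases b <;> simp <;> grind

/-- a square zero matrix has rank at most one -/
theorem adjugate_of_sq_zero {N : M3} (h : N * N = 0) : N.adjugate = 0 := by
  by_cases hN : N = 0
  · rw [hN, Matrix.adjugate_zero]
  have hd : N.det = 0 := by
    have := congrArg Matrix.det h
    rw [Matrix.det_mul, Matrix.det_zero, mul_self_eq_zero] at this
    exact this
  have e := cayley_three N
  rw [h, zero_mul, smul_zero, sub_zero, zero_add, hd, zero_smul, sub_zero, smul_eq_zero] at e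
  have hs := e.resolve_right hN
  have ht : N.trace * N.trace = 0 := by
    have := trace_sq N
    rw [h, Matrix.trace_zero, hs, sub_zero, mul_zero] at this
    exact this
  rw [adjugate_three, h, hs, mul_self_eq_zero.1 ht, zero_smul, zero_smul, sub_zero, add_zero]

/-- an idempotent of trace one has rank one -/
theorem adjugate_of_idem (h2 : (2 : K) ≠ 0) {E : M3} (h : E * E = E) (ht : E.trace = 1) : E.adjugate = 0 := by
  have hs : sC E = 0 := by
    have := trace_sq E
    rw [h, ht, one_mul, sub_self] at this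
    exact (mul_eq_zero.1 this.symm).resolve_left h2
  rw [adjugate_three, h, ht, hs, one_smul, zero_smul, sub_self, add_zero]

end Cfsg.Agent.Forms.Max.SL3.SympType
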