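import Mathlib
import Cfsg.Agent.Lib.Forms.Max.SL3.SympType.Invol
import Cfsg.Agent.Lib.Forms.Max.SL3.SympType.Roots

/-!
# Centralisers by the shape of the element: distinct eigenvalues, homologies, regular unipotents
-/

set_option autoImplicit false
set_option linter.unusedSectionVars false

namespace Cfsg.Agent.Forms.Max.SL3.SympType

open Matrix

variable {F : Type*} [Field F] [Fintype F] {H : Subgroup (GL (Fin 3) F)} {p : ℕ} {ω : F}

local notation "M3" => Matrix (Fin 3) (Fin 3) F
local notation "M2" => Matrix (Fin 2) (Fin 2) F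

/-- the conclusion on a centraliser: commutative and small normaliser -/
def Small (z : H) : Prop :=
  (∀ a b : H, Commute a z → Commute b z → Commute a b) ∧
    Nat.card (Subgroup.normalizer ((Subgroup.centralizer ({z} : Set H)) : Set H)) ∣
      6 * Nat.card (Subgroup.centralizer ({z} : Set H))

theorem cent_distinct {K : Type*} [Field K] (f : F →+* K) (z : H) (P : Matrix (Fin 3) (Fin 3) K) (hP : P.det ≠ 0)
    (r : Fin 3 → K) (hr : Function.Injective r) (e : f.mapMatrix (mt z) * P = P * diagonal r) : Small z := by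
  classical
  have hPu : IsUnit P.det := isUnit_iff_ne_zero.2 hP
  set φ : H → Matrix (Fin 3) (Fin 3) K := fun n => P⁻¹ * f.mapMatrix (mt n) * P with hφ
  have φmul : ∀ n m, φ (n * m) = φ n * φ m := fun n m => by
    simp only [hφ, mt_mul, map_mul, Matrix.mul_assoc]
    rw [← Matrix.mul_assoc P, Matrix.mul_nonsing_inv _ hPu, one_mul]
  have φone : φ 1 = 1 := by simp only [hφ, mt_one, map_one, mul_one, Matrix.nonsing_inv_mul _ hPu]
  have φinj : Function.Injective φ := fun n m h => by
    have h1 := congrArg (fun M => P * M * P⁻¹) h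
    simp only [hφ, Matrix.mul_assoc, Matrix.mul_nonsing_inv _ hPu, mul_one] at h1
    rw [← Matrix.mul_assoc P, ← Matrix.mul_assoc P, Matrix.mul_nonsing_inv _ hPu, one_mul, one_mul] at h1
    exact mt_inj (Matrix.map_injective f.injective h1)
  have φz : φ z = diagonal r := by
    simp only [hφ]
    rw [Matrix.mul_assoc, e, ← Matrix.mul_assoc, Matrix.nonsing_inv_mul _ hPu, one_mul]
  have dia : ∀ n : H, Commute n z ↔ ∀ i j, i ≠ j → φ n i j = 0 := by
    intro n
    constructor
    · intro h i j hij
      have h1 := congrArg φ h.eq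
      rw [φmul, φmul, φz] at h1
      have h2 := congrFun (congrFun h1 i) j
      rw [Matrix.mul_diagonal, Matrix.diagonal_mul] at h2
      have h3 : φ n i j * (r j - r i) = 0 := by linear_combination h2
      exact (mul_eq_zero.1 h3).resolve_right (sub_ne_zero.2 (hr.ne hij.symm))
    · intro h
      refine φinj ?_
      rw [φmul, φmul, φz]
      ext i j
      rw [Matrix.mul_diagonal, Matrix.diagonal_mul]
      rcases eq_or_ne i j with rfl | hij
      · exact mul_comm _ _
      · rw [h i j hij, zero_mul, mul_zero]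
  have hcomm : ∀ a b : H, Commute a z → Commute b z → Commute a b := by
    intro a b ha hb
    refine φinj ?_
    rw [φmul, φmul]
    have da : φ a = diagonal fun i => φ a i i := by
      ext i j
      rcases eq_or_ne i j with rfl | hij
      · rw [Matrix.diagonal_apply_eq]
      · rw [Matrix.diagonal_apply_ne _ hij, (dia a).1 ha i j hij]
    have db : φ b = diagonal fun i => φ b i i := by
      ext i j
      rcases eq_or_ne i j with rfl | hij
      · rw [Matrix.diagonal_apply_eq]
      · rw [Matrix.diagonal_apply_ne _ hij, (dia b).1 hb i j hij]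
    rw [da, db, Matrix.diagonal_mul_diagonal, Matrix.diagonal_mul_diagonal]
    simp only [mul_comm]
  refine ⟨hcomm, ?_⟩
  set B : Subgroup H := Subgroup.centralizer ({z} : Set H) with hB
  set N : Subgroup H := Subgroup.normalizer (B : Set H) with hN
  have row : ∀ n : H, ∀ i, ∃ j, φ n i j ≠ 0 := by
    intro n i
    by_contra hc
    push Not at hc
    have h1 := congrFun (congrFun (φmul n n⁻¹) i) i
    rw [mul_inv_cancel, φone, Matrix.one_apply_eq, Matrix.mul_apply] at h1
    simp [hc] at h1
  have uniq : ∀ n ∈ N, ∀ i j k, φ n i j ≠ 0 → φ n i k ≠ 0 → j = k := by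
    intro n hn i j k hj hk
    by_contra hjk
    have hy : n * z * n⁻¹ ∈ B := (Subgroup.mem_normalizer_iff.1 hn z).1
      (Subgroup.mem_centralizer_singleton_iff.2 (Commute.refl z))
    have h1 : φ (n * z * n⁻¹) * φ n = φ n * φ z := by rw [← φmul, ← φmul, inv_mul_cancel_right]
    have d := (dia _).1 (Subgroup.mem_centralizer_singleton_iff.1 hy)
    have e1 : ∀ l, φ (n * z * n⁻¹) i i * φ n i l = φ n i l * r l := fun l => by
      have h2 := congrFun (congrFun h1 i) l
      rw [φz, Matrix.mul_diagonal, Matrix.mul_apply] at h2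
      rw [← h2, Finset.sum_eq_single i (fun b _ hb => by rw [d i b hb.symm, zero_mul]) (by simp)]
    have a1 : r j = φ (n * z * n⁻¹) i i := mul_left_cancel₀ hj (by rw [← e1 j, mul_comm])
    have a2 : r k = φ (n * z * n⁻¹) i i := mul_left_cancel₀ hk (by rw [← e1 k, mul_comm])
    exact hjk (hr (a1.trans a2.symm))
  choose σ hσ using fun (n : N) (i : Fin 3) => row n i
  have σuniq : ∀ (n : N) i j, φ n i j ≠ 0 → σ n i = j := fun n i j h => uniq n n.2 i _ _ (hσ n i) h
  have σone : ∀ i, σ 1 i = i := fun i => σuniq 1 i i (by simp [φone])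
  have σmul : ∀ (n m : N) i, σ (n * m) i = σ m (σ n i) := by
    intro n m i
    refine σuniq _ _ _ ?_
    rw [Subgroup.coe_mul, φmul, Matrix.mul_apply, Finset.sum_eq_single (σ n i)
      (fun b _ hb => by
        have : φ (n : H) i b = 0 := by
          by_contra h0
          exact hb (σuniq n i b h0).symm
        rw [this, zero_mul]) (by simp)]
    exact mul_ne_zero (hσ n i) (hσ m _)
  let π : N →* Equiv.Perm (Fin 3) :=
    { toFun := fun n =>
        { toFun := σ n⁻¹
          invFun := σ n
          left_inv := fun i => by rw [← σmul, inv_mul_cancel, σone]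
          right_inv := fun i => by rw [← σmul, mul_inv_cancel, σone] }
      map_one' := by ext i; simp [σone]
      map_mul' := fun n m => by
        ext i
        show ((σ (n * m)⁻¹ i : Fin 3) : ℕ) = (σ n⁻¹ (σ m⁻¹ i) : Fin 3)
        rw [_root_.mul_inv_rev, σmul] }
  have hker : Nat.card π.ker = Nat.card B := by
    refine Nat.card_congr
      { toFun := fun n => ⟨(n : N), ?_⟩
        invFun := fun b => ⟨⟨b, Subgroup.le_normalizer b.2⟩, ?_⟩
        left_inv := fun n => rfl
        right_inv := fun b => rfl }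
    · rw [← inv_mem_iff]
      refine Subgroup.mem_centralizer_singleton_iff.2 ((dia _).2 fun i j hij => ?_)
      by_contra h0
      have h1 : σ ((n : N)⁻¹) i = i := Equiv.ext_iff.1 (MonoidHom.mem_ker.1 n.2) i
      exact hij (h1.symm.trans (σuniq _ i j h0))
    · refine MonoidHom.mem_ker.2 (Equiv.ext fun i => ?_)
      show σ _ i = i
      refine σuniq _ i i fun h0 => ?_
      obtain ⟨j, hj⟩ := row ((b : H)⁻¹) i
      rcases eq_or_ne i j with rfl | hij
      · exact hj h0
      · exact hj ((dia _).1 (Subgroup.mem_centralizer_singleton_iff.1 (inv_mem b.2)) i j hij)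
  rw [← Subgroup.card_mul_index π.ker, Subgroup.index_ker, hker, mul_comm (Nat.card B)]
  refine Nat.mul_dvd_mul_right ?_ _
  have := Subgroup.card_subgroup_dvd_card π.range
  rwa [Nat.card_perm, Nat.card_fin, show Nat.factorial 3 = 6 from rfl] at this

theorem exists_hom_frame {u φ : Fin 3 → F} (h1 : φ ⬝ᵥ u = 1) :
    ∃ B : M3, B.det ≠ 0 ∧ vecMulVec u φ * B = B * blk 1 0 := by
  simp [dotProduct, Fin.sum_univ_three] at h1
  by_cases h0 : φ 0 = 0
  · by_cases h1' : φ 1 = 0
    · rw [h0, h1', zero_mul, zero_mul, zero_add, zero_add] at h1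
      refine ⟨!![u 0, 1, 0; u 1, 0, 1; u 2, 0, 0], ?_, ?_⟩
      · rw [Matrix.det_fin_three]; simp
        exact right_ne_zero_of_mul_eq_one h1
      · ext i j
        fin_cases i <;> fin_cases j <;>
          simp [blk, Matrix.mul_apply, Fin.sum_univ_three, Matrix.vecMulVec_apply, h0, h1'] <;>
          linear_combination (norm := ring_nf) (u _) * h1
    · rw [h0, zero_mul, zero_add] at h1
      refine ⟨!![u 0, 1, 0; u 1, 0, -φ 2; u 2, 0, φ 1], ?_, ?_⟩
      · rw [Matrix.det_fin_three]; simp
        intro e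
        exact one_ne_zero (α := F) (by linear_combination -h1 - e)
      · ext i j
        fin_cases i <;> fin_cases j <;>
          simp [blk, Matrix.mul_apply, Fin.sum_univ_three, Matrix.vecMulVec_apply, h0] <;> grind
  · refine ⟨!![u 0, -φ 1, -φ 2; u 1, φ 0, 0; u 2, 0, φ 0], ?_, ?_⟩
    · rw [Matrix.det_fin_three]; simp
      intro e
      exact h0 (by linear_combination e - φ 0 * h1)
    · ext i j
      fin_cases i <;> fin_cases j <;>
        simp [blk, Matrix.mul_apply, Fin.sum_univ_three, Matrix.vecMulVec_apply] <;> grind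

theorem idem_comm {u φ u' φ' : Fin 3 → F} (hu : φ ⬝ᵥ u = 1) (hu1 : φ' ⬝ᵥ u' = 1)
    (e : vecMulVec u' φ' * vecMulVec u φ = vecMulVec u φ * vecMulVec u' φ') :
    vecMulVec u φ = vecMulVec u' φ' ∨ φ ⬝ᵥ u' = 0 ∧ φ' ⬝ᵥ u = 0 := by
  rw [Matrix.vecMulVec_mul_vecMulVec, Matrix.vecMulVec_mul_vecMulVec] at e
  set c := φ ⬝ᵥ u' with hc
  set d := φ' ⬝ᵥ u with hd
  have ku : d • u' = (c * d) • u := by
    have := congrArg (fun M => M *ᵥ u) e
    simp only [Matrix.vecMulVec_mulVec, smul_dotProduct, hu, ← hd, op_smul_eq_smul, smul_eq_mul, mul_one] at this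
    exact this
  have ku' : (c * d) • u' = c • u := by
    have := congrArg (fun M => M *ᵥ u') e
    simp only [Matrix.vecMulVec_mulVec, smul_dotProduct, hu1, ← hc, op_smul_eq_smul, smul_eq_mul, mul_one] at this
    rwa [mul_comm]
  have kφ : (c * d) • φ = c • φ' := by
    have := congrArg (fun M => φ ᵥ* M) e
    simp only [Matrix.vecMul_vecMulVec, hu, ← hc, smul_smul, one_mul] at this
    exact this
  have hu0' : u' ≠ 0 := by intro e0; rw [e0] at hu1; simp at hu1
  by_cases hc0 : c = 0
  · rw [hc0, zero_mul, zero_smul] at ku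
    exact Or.inr ⟨hc0, (smul_eq_zero.1 ku).resolve_right hu0'⟩
  · left
    have e1 : d • u' = u := by
      rw [mul_smul] at ku'
      exact smul_right_injective (Fin 3 → F) hc0 ku'
    have e2 : d • φ = φ' := by
      rw [mul_smul] at kφ
      exact smul_right_injective (Fin 3 → F) hc0 kφ
    rw [← e1, ← e2]
    ext i j
    simp [Matrix.vecMulVec_apply]
    ring

namespace Amb

variable (h : Amb H p ω)
include h

set_option maxHeartbeats 800000 in
/-- two commuting homologies with distinct centres give an element with distinct eigenvalues -/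
theorem small_of_commuting (z y : H) (hno : ∀ v : H, orderOf v = 2 → ¬ Commute v z) {a s : F} (hs : s ≠ 0)
    {u φ u' φ' : Fin 3 → F} (hu : φ ⬝ᵥ u = 1) (hu1 : φ' ⬝ᵥ u' = 1) (hc0 : φ ⬝ᵥ u' = 0) (hd0 : φ' ⬝ᵥ u = 0)
    (ez : mt z = a • 1 + s • vecMulVec u φ) (ey : mt y = a • 1 + s • vecMulVec u' φ') :
    Small (z * (y * y)) := by
  have hu0 : u ≠ 0 := by intro e0; rw [e0] at hu; simp at hu
  set c := φ ⬝ᵥ u' with hc
  set d := φ' ⬝ᵥ u with hd
  set E : M3 := vecMulVec u φ with hE
  set b := a + s with hb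
  have hdet : a * a * b = 1 := by
    have := h.det_eq (mem_mt z)
    rw [ez, hE, Matrix.det_fin_three] at this
    simp [dotProduct, Fin.sum_univ_three] at hu
    simp [Matrix.vecMulVec_apply] at this
    linear_combination this - s * a * a * hu
  have hab : b ≠ -a := by
    intro e
    have ha3 : a * a * a = -1 := by rw [e] at hdet; linear_combination -hdet
    have hs2 : s = -(2 * a) := by rw [hb] at e; linear_combination e
    have hsq : mt z * mt z = (a * a) • 1 := by
      rw [ez, hE]
      simp only [mul_add, add_mul, Matrix.smul_mul, Matrix.mul_smul, one_mul, mul_one,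
        Matrix.vecMulVec_mul_vecMulVec, hu, one_smul, hs2]
      module
    have h6 : (z ^ 3) ^ 2 = 1 := mt_inj (by
      rw [← pow_mul, show 3 * 2 = 2 * 3 from rfl, mt_pow, pow_mul, pow_two, hsq, smul_pow, one_pow, mt_one,
        show (a * a) ^ 3 = 1 by linear_combination (a * a * a - 1) * ha3, one_smul])
    have h3 : z ^ 3 ≠ 1 := by
      intro e3
      have h1 := congrArg mt e3
      rw [mt_pow, pow_succ, pow_two, hsq, Matrix.smul_mul, one_mul, ez, mt_one, smul_add, smul_smul, smul_smul,
        ha3, hE] at h1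
      have h2 := congrArg Matrix.trace h1
      rw [Matrix.trace_add, Matrix.trace_smul, Matrix.trace_smul, Matrix.trace_one, Matrix.trace_vecMulVec, hs2,
        dotProduct_comm, hu, Fintype.card_fin] at h2
      simp at h2
      have h4 : (4 : F) ≠ 0 := by exact_mod_cast h.nat_ne 4 (by norm_num) (by decide +kernel)
      exact h4 (by linear_combination -h2 - 2 * ha3)
    exact hno _ (orderOf_eq_prime h6 h3) ((Commute.refl z).pow_left 3)
  refine cent_distinct (RingHom.id F) _ (Matrix.of fun i j => (![u, u', crossProduct φ φ'] : Fin 3 → Fin 3 → F) j i) ?_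
    ![a * a * b, a * b * b, a * a * a] ?_ ?_
  · have e : c * d = 0 := by rw [hc0, zero_mul]
    have k : (φ ⬝ᵥ u) * (φ' ⬝ᵥ u') - c * d = 1 := by rw [hu, hu1, e]; ring
    rw [hc, hd] at k
    simp [dotProduct, Fin.sum_univ_three] at k
    rw [Matrix.det_fin_three]
    simp [cross_apply]
    intro e'
    exact one_ne_zero (α := F) (by linear_combination e' - k)
  · have ha : a ≠ 0 := fun e => by simp [e] at hdet
    have hbne : b ≠ 0 := fun e => by simp [e] at hdet
    have hba : b ≠ a := fun e => hs (by rw [hb] at e; linear_combination e)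
    have n01 : a * a * b ≠ a * b * b := fun e => hba (mul_left_cancel₀ (mul_ne_zero ha hbne)
      (show a * b * b = a * b * a by linear_combination -e))
    have n02 : a * a * b ≠ a * a * a := fun e => hba (mul_left_cancel₀ (mul_ne_zero ha ha) e)
    have n12 : a * b * b ≠ a * a * a := fun e => by
      have : a * ((b - a) * (b + a)) = 0 := by linear_combination e
      rcases mul_eq_zero.1 ((mul_eq_zero.1 this).resolve_left ha) with e0 | e0
      · exact hba (sub_eq_zero.1 e0)
      · exact hab (by linear_combination e0)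
    intro i j e
    fin_cases i <;> fin_cases j <;>
      first
        | rfl | exact absurd e n01 | exact absurd e n02 | exact absurd e n12 | exact absurd e.symm n01
        | exact absurd e.symm n02 | exact absurd e.symm n12
  · rw [RingHom.mapMatrix_apply, RingHom.coe_id, Matrix.map_id, mt_mul, mt_mul, ez, ey, hE]
    have hcr : φ ⬝ᵥ crossProduct φ φ' = 0 ∧ φ' ⬝ᵥ crossProduct φ φ' = 0 :=
      ⟨dot_self_cross φ φ', dot_cross_self φ φ'⟩
    have act : ∀ (w : Fin 3 → F), ((a • (1 : M3) + s • vecMulVec u φ) *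
        ((a • (1 : M3) + s • vecMulVec u' φ') * (a • (1 : M3) + s • vecMulVec u' φ'))) *ᵥ w =
        (a * a * a) • w + (a * a * s * (φ ⬝ᵥ w)) • u + ((2 * a + s) * a * s * (φ' ⬝ᵥ w)) • u' := by
      intro w
      simp only [← Matrix.mulVec_mulVec, Matrix.add_mulVec, Matrix.smul_mulVec, Matrix.one_mulVec,
        Matrix.vecMulVec_mulVec, op_smul_eq_smul, dotProduct_add, dotProduct_smul, smul_eq_mul, ← hc, hu1, hc0]
      module
    have cols : ∀ (M P : M3) (r : Fin 3 → F), (∀ j, M *ᵥ (fun i => P i j) = r j • fun i => P i j) →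
        M * P = P * diagonal r := by
      intro M P r hh
      ext i j
      rw [Matrix.mul_diagonal, mul_comm]
      exact congrFun (hh j) i
    refine cols _ _ _ fun j => ?_
    have col : ∀ v : Fin 3 → Fin 3 → F, (fun i => (Matrix.of fun i j => v j i : M3) i j) = v j := fun v => rfl
    rw [col, act]
    fin_cases j <;> simp [hu, hu1, hcr.1, hcr.2, ← hc, ← hd, hc0, hd0] <;> rw [hb] <;> module

set_option maxHeartbeats 800000 in
/-- the centraliser of a homology without commuting involutions -/
theorem cent_homology (z : H) (hno : ∀ v : H, orderOf v = 2 → ¬ Commute v z) {a s : F} (hs : s ≠ 0)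
    {u φ : Fin 3 → F} (hu : φ ⬝ᵥ u = 1) (ez : mt z = a • 1 + s • vecMulVec u φ) : Small z := by
  classical
  have : Fact p.Prime := h.fact
  set E : M3 := vecMulVec u φ with hE
  obtain ⟨Bm, hBm, eBm⟩ := exists_hom_frame hu
  have hBu : IsUnit Bm.det := isUnit_iff_ne_zero.2 hBm
  have commE : ∀ g : H, Commute g z → mt g * E = E * mt g := by
    intro g hg
    have e := congrArg mt hg.eq
    rw [mt_mul, mt_mul, ez, mul_add, add_mul, Matrix.mul_smul, Matrix.smul_mul, mul_one, one_mul, Matrix.mul_smul,
      Matrix.smul_mul, add_right_inj] at e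
    exact smul_right_injective M3 hs e
  set Nf : H → M3 := fun g => Bm⁻¹ * mt g * Bm with hNf
  set W : H → M2 := fun g => !![Nf g 1 1, Nf g 1 2; Nf g 2 1, Nf g 2 2] with hW
  have blkeq : ∀ g : H, Commute g z → mt g * Bm = Bm * blk (Nf g 0 0) (W g) := by
    intro g hg
    have e1 : Nf g * blk 1 0 = blk 1 0 * Nf g := by
      simp only [hNf, Matrix.mul_assoc]
      rw [← eBm, ← Matrix.mul_assoc (mt g), commE g hg, Matrix.mul_assoc E, ← Matrix.mul_assoc Bm⁻¹ E,
        show Bm⁻¹ * E = blk 1 0 * Bm⁻¹ from ?_, Matrix.mul_assoc]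
      calc Bm⁻¹ * E = Bm⁻¹ * (E * Bm) * Bm⁻¹ := by
            rw [Matrix.mul_assoc, Matrix.mul_assoc E, Matrix.mul_nonsing_inv _ hBu, mul_one]
        _ = _ := by rw [eBm, ← Matrix.mul_assoc Bm⁻¹, Matrix.nonsing_inv_mul _ hBu, one_mul]
    have z01 := congrFun (congrFun e1 0) 1
    have z02 := congrFun (congrFun e1 0) 2
    have z10 := congrFun (congrFun e1 1) 0
    have z20 := congrFun (congrFun e1 2) 0
    simp [blk, Matrix.mul_apply, Fin.sum_univ_three] at z01 z02 z10 z20
    have e2 : Nf g = blk (Nf g 0 0) (W g) := by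
      ext i j
      fin_cases i <;> fin_cases j <;> simp [blk, hW, z01, z02, z10, z20]
      all_goals grind
    rw [← e2]
    simp only [hNf]
    rw [← Matrix.mul_assoc, ← Matrix.mul_assoc, Matrix.mul_nonsing_inv _ hBu, one_mul]
  have ofblk : ∀ (g : H) (c : F) (V : M2), mt g * Bm = Bm * blk c V → W g = V := by
    intro g c V e
    have e2 : Nf g = blk c V := by
      simp only [hNf]
      rw [Matrix.mul_assoc, e, ← Matrix.mul_assoc, Matrix.nonsing_inv_mul _ hBu, one_mul]
    ext i j
    fin_cases i <;> fin_cases j <;> simp [hW, e2, blk]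
  set Bz : Subgroup H := Subgroup.centralizer ({z} : Set H)
  have hcz : ∀ g : Bz, Commute (g : H) z := fun g => Subgroup.mem_centralizer_singleton_iff.1 g.2
  let ψ0 : Bz →* M2 :=
    { toFun := fun g => W g
      map_one' := ofblk _ 1 1 (by rw [Subgroup.coe_one, mt_one, one_mul, blk_one, mul_one])
      map_mul' := fun g g' => ofblk _ _ _ (by
        rw [Subgroup.coe_mul, mt_mul, Matrix.mul_assoc, blkeq _ (hcz g'), ← Matrix.mul_assoc, blkeq _ (hcz g),
          Matrix.mul_assoc, blk_mul]) }
  let ψ : Bz →* GL (Fin 2) F := ψ0.toHomUnits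
  have hψ : ∀ g : Bz, (ψ g : M2) = W g := fun g => rfl
  have hle : ∀ x ∈ ψ.range, x ∈ planeGroup H Bm := by
    rintro x ⟨g, rfl⟩
    have e := blkeq _ (hcz g)
    refine ⟨Nf g 0 0, fun e0 => ?_, (g : H), (g : H).2, by rw [hψ]; exact e⟩
    have := congrArg Matrix.det e
    rw [Matrix.det_mul, Matrix.det_mul, det_blk, e0, zero_mul, mul_zero, h.det_eq (mem_mt _), one_mul] at this
    exact hBm this
  have hodd : ∀ x ∈ ψ.range, Odd (orderOf x) := by
    rintro x ⟨g, rfl⟩
    have hg : Odd (orderOf g) := by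
      by_contra he
      rw [Nat.not_odd_iff_even] at he
      have h2 : 2 ∣ orderOf g := he.two_dvd
      have ho : orderOf ((g ^ (orderOf g / 2) : Bz) : H) = 2 := by
        rw [Subgroup.orderOf_coe, orderOf_pow_orderOf_div (orderOf_pos g).ne' h2]
      exact hno _ ho (hcz _)
    exact hg.of_dvd_nat (orderOf_map_dvd ψ g)
  have inj : ∀ g g' : Bz, ψ g = ψ g' → g = g' := by
    intro g g' e
    have eW : W g = W g' := by rw [← hψ, ← hψ, e]
    have d1 := congrArg Matrix.det (blkeq _ (hcz g))
    have d2 := congrArg Matrix.det (blkeq _ (hcz g'))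
    rw [Matrix.det_mul, Matrix.det_mul, det_blk, h.det_eq (mem_mt _), one_mul] at d1 d2
    rw [eW] at d1
    have ea : Nf g 0 0 = Nf g' 0 0 := by
      have hW0 : (W g').det ≠ 0 := fun e0 => hBm (by rw [d2, e0, mul_zero, mul_zero])
      exact mul_right_cancel₀ hW0 (mul_left_cancel₀ hBm (d1.symm.trans d2))
    refine Subtype.ext (mt_inj ?_)
    have e1 := blkeq _ (hcz g)
    rw [ea, eW] at e1
    have := congrArg (fun M => M * Bm⁻¹) (e1.trans (blkeq _ (hcz g')).symm)
    simpa [Matrix.mul_assoc, Matrix.mul_nonsing_inv _ hBu] using this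
  have hcomm : ∀ a b : H, Commute a z → Commute b z → Commute a b := by
    intro a b ha hb
    let a' : Bz := ⟨a, Subgroup.mem_centralizer_singleton_iff.2 ha⟩
    let b' : Bz := ⟨b, Subgroup.mem_centralizer_singleton_iff.2 hb⟩
    have := inj (a' * b') (b' * a') (by
      rw [map_mul, map_mul]
      exact commute_of_odd p h.card h.two_ne ψ.range
        (fun x hx => planeGroup_pow_eq_one p h.card h.noTr hBm x (hle x hx)) hodd ⟨a', rfl⟩ ⟨b', rfl⟩)
    exact congrArg Subtype.val this
  refine ⟨hcomm, ?_⟩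
  by_cases hfix : ∀ n ∈ Subgroup.normalizer (Bz : Set H), n * z * n⁻¹ = z
  · have : Subgroup.normalizer (Bz : Set H) = Bz := le_antisymm
      (fun n hn => Subgroup.mem_centralizer_singleton_iff.2 (mul_inv_eq_iff_eq_mul.1 (hfix n hn)))
      Subgroup.le_normalizer
    rw [this]
    exact Dvd.intro_left _ rfl
  push Not at hfix
  obtain ⟨n, hn, hne⟩ := hfix
  set y := n * z * n⁻¹ with hy
  have hyz : Commute y z := Subgroup.mem_centralizer_singleton_iff.1
    ((Subgroup.mem_normalizer_iff.1 hn z).1 (Subgroup.mem_centralizer_singleton_iff.2 (Commute.refl z)))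
  set u' : Fin 3 → F := mt n *ᵥ u with hu'
  set φ' : Fin 3 → F := φ ᵥ* mt n⁻¹ with hφ'
  have hu1 : φ' ⬝ᵥ u' = 1 := by
    rw [hu', hφ', ← Matrix.dotProduct_mulVec, Matrix.mulVec_mulVec, mt_inv_mul, Matrix.one_mulVec, hu]
  have ey : mt y = a • 1 + s • vecMulVec u' φ' := by
    rw [hy, mt_mul, mt_mul, ez, mul_add, add_mul, Matrix.mul_smul, Matrix.smul_mul, mul_one, mt_mul_inv,
      Matrix.mul_smul, Matrix.smul_mul, hE, Matrix.mul_vecMulVec, Matrix.vecMulVec_mul]
  have eEE := commE y hyz
  rw [ey, mul_add, add_mul, Matrix.smul_mul, Matrix.mul_smul, mul_one, one_mul, Matrix.smul_mul, Matrix.mul_smul,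
    add_right_inj] at eEE
  have eEE' := smul_right_injective M3 hs eEE
  rw [hE] at eEE'
  have hne' : vecMulVec u φ ≠ vecMulVec u' φ' := fun e => hne (mt_inj (by rw [ey, ez, hE, ← e]))
  obtain ⟨hc0, hd0⟩ := (idem_comm hu hu1 eEE').resolve_left hne'
  have hsmall : Small (z * (y * y)) := h.small_of_commuting z y hno hs hu hu1 hc0 hd0 ez ey
  have hy'z : Commute (z * (y * y)) z := (Commute.refl z).mul_left (hyz.mul_left hyz)
  have heq : Subgroup.centralizer ({z * (y * y)} : Set H) = Bz := by
    ext g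
    rw [Subgroup.mem_centralizer_singleton_iff, Subgroup.mem_centralizer_singleton_iff]
    exact ⟨fun hg => hsmall.1 g z hg hy'z.symm, fun hg => hcomm g _ hg hy'z⟩
  have := hsmall.2
  rwa [heq] at this

end Amb

end Cfsg.Agent.Forms.Max.SL3.SympType
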