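import Cfsg.Agent.Lib.Forms.Max.SL3.SympType.Fusion

/-!
# Counting in a group with a dihedral-type involution centraliser: classes without commuting involution
-/

set_option autoImplicit false
set_option linter.unusedSectionVars false

namespace Cfsg.Agent.Forms.Max.SL3.SympType

namespace CountData

variable {G : Type*} [Group G] [Finite G] (D : CountData G)

theorem orderOf_conj' (g u : G) : orderOf (g * u * g⁻¹) = orderOf u :=
  orderOf_injective (MulAut.conj g).toMonoidHom (MulAut.conj g).injective u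

theorem conj_commute {x y : G} (h : Commute x y) (g : G) : Commute (g * x * g⁻¹) (g * y * g⁻¹) :=
  Commute.map h (MulAut.conj g).toMonoidHom

theorem conj_mem_Z {g x : G} (h : g * x * g⁻¹ ∈ D.Z) : x ∈ D.Z := by
  have h1 := (Z_comm D h g).eq
  rw [inv_mul_cancel_right] at h1
  rwa [mul_left_cancel h1.symm] at h

/-- every involution is conjugate to `t` -/
theorem all_conj {u : G} (hu : orderOf u = 2) : IsConj u D.t := by
  have base : ∀ v : G, orderOf v = 2 → Commute v D.t → IsConj v D.t := fun v hv hvt => by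
    by_cases hC : v ∈ D.C
    · rw [D.Cinv v hC hv]
    · exact fusion D hv hvt hC
  have htt := sq_one D.ht
  have huu := sq_one hu
  set k := u * D.t with hk
  have hinv : D.t * k * D.t⁻¹ = k⁻¹ := by
    rw [hk, _root_.mul_inv_rev, inv_eq_of_mul_eq_one_right htt, inv_eq_of_mul_eq_one_right huu, mul_assoc, mul_assoc u,
      htt, mul_one]
  rcases Nat.even_or_odd (orderOf k) with he | ho
  · obtain ⟨j, hj⟩ := he
    have hj0 : 0 < j := by have := orderOf_pos k; omega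
    have hz2 : k ^ j * k ^ j = 1 := by rw [← pow_add, ← hj, pow_orderOf_eq_one]
    have hz1 : k ^ j ≠ 1 := pow_ne_one_of_lt_orderOf (by omega) (by omega)
    have hzo : orderOf (k ^ j) = 2 := orderOf_eq_prime (by rw [pow_two, hz2]) hz1
    have hzt : Commute (k ^ j) D.t := by
      have : D.t * k ^ j * D.t⁻¹ = (k ^ j)⁻¹ := by rw [← conj_pow, hinv, inv_pow]
      rw [inv_eq_of_mul_eq_one_right hz2] at this
      exact (mul_inv_eq_iff_eq_mul.1 this).symm
    have hzu : Commute (k ^ j) u := by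
      have := (Commute.self_pow k j).symm.mul_right hzt
      rwa [hk, mul_assoc, htt, mul_one] at this
    obtain ⟨g, hg⟩ := isConj_iff.1 (base _ hzo hzt)
    have hc := conj_commute hzu g
    rw [hg] at hc
    exact (isConj_iff.2 ⟨g, rfl⟩).trans (base (g * u * g⁻¹) (by rw [orderOf_conj', hu]) hc.symm)
  · obtain ⟨j, hj⟩ := ho
    refine (isConj_iff.2 ⟨k ^ (j + 1), ?_⟩).symm
    have h1 : D.t * (k ^ (j + 1))⁻¹ * D.t⁻¹ = k ^ (j + 1) := by
      rw [← inv_pow, ← conj_pow]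
      have : D.t * k⁻¹ * D.t⁻¹ = k := by
        have e := congrArg (fun v => v⁻¹) hinv
        simpa [mul_assoc] using e
      rw [this]
    calc k ^ (j + 1) * D.t * (k ^ (j + 1))⁻¹
        = k ^ (j + 1) * (D.t * (k ^ (j + 1))⁻¹ * D.t⁻¹) * D.t := by group
      _ = k ^ (2 * j + 1) * k * D.t := by rw [h1, ← pow_add, ← pow_succ]; ring_nf
      _ = u := by rw [← hj, pow_orderOf_eq_one, one_mul, hk, mul_assoc, htt, mul_one]

/-- a `3`-element is conjugate into `R` -/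
theorem conj_into_R {x : G} (hx : x ^ 9 = 1) : ∃ g : G, g * x * g⁻¹ ∈ D.R := by
  haveI : Fact (Nat.Prime 3) := ⟨by norm_num⟩
  have hX : IsPGroup 3 (Subgroup.zpowers x) := fun a => ⟨2, by
    obtain ⟨i, hi⟩ := Subgroup.mem_zpowers_iff.1 a.2
    apply Subtype.ext
    show (a : G) ^ (3 ^ 2) = 1
    rw [← hi, ← zpow_natCast, ← zpow_mul, mul_comm, zpow_mul, zpow_natCast]
    norm_num [hx]⟩
  have hR : IsPGroup 3 D.R := IsPGroup.of_card (n := 3) (by rw [D.cardR]; norm_num)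
  obtain ⟨P, hP⟩ := hX.exists_le_sylow
  obtain ⟨Q, hQ⟩ := hR.exists_le_sylow
  have hRQ : D.R = (Q : Subgroup G) := by
    obtain ⟨v, hv⟩ := IsPGroup.iff_card.1 Q.isPGroup'
    refine Subgroup.eq_of_le_of_card_ge hQ ?_
    rw [hv, D.cardR]
    have hv3 : v ≤ 3 := by
      by_contra h
      exact D.not81 ((pow_dvd_pow 3 (show 4 ≤ v by omega)).trans (hv ▸ Subgroup.card_subgroup_dvd_card _))
    calc 3 ^ v ≤ 3 ^ 3 := Nat.pow_le_pow_right (by norm_num) hv3
      _ = 27 := by norm_num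
  obtain ⟨g, hg⟩ := MulAction.exists_smul_eq G P Q
  refine ⟨g, ?_⟩
  rw [hRQ, ← hg, Sylow.coe_subgroup_smul, Subgroup.mem_pointwise_smul_iff_inv_smul_mem]
  have : (MulAut.conj g)⁻¹ • (g * x * g⁻¹) = x := by
    simp [MulAut.smul_def, mul_assoc]
  rw [this]
  exact hP (Subgroup.mem_zpowers x)

/-- a `3`-element commuting with an involution is central -/
theorem mem_Z_of_three {x u : G} (hx : x ^ 9 = 1) (hu : orderOf u = 2) (h : Commute u x) : x ∈ D.Z := by
  obtain ⟨g, hg⟩ := conj_into_R D hx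
  by_contra hz
  exact R_odd D (D.centR _ hg (fun h' => hz (conj_mem_Z D h')) _ (conj_commute h g))
    (by rw [orderOf_conj', hu])

theorem exists_nine {H : Subgroup G} (h : 9 ∣ Nat.card H) : ∃ x ∈ H, x ^ 9 = 1 ∧ x ∉ D.Z := by
  haveI : Fact (Nat.Prime 3) := ⟨by norm_num⟩
  obtain ⟨K, hK⟩ := Sylow.exists_subgroup_card_pow_prime 3 (n := 2) (G := H) (by simpa using h)
  have hK' : Nat.card K = 9 := by simpa using hK
  by_contra hall
  push Not at hall
  have hle : K.map H.subtype ≤ D.Z := by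
    rintro _ ⟨y, hy, rfl⟩
    refine hall _ y.2 ?_
    have := congrArg Subtype.val (pow_card_eq_one' (x := (⟨y, hy⟩ : K)))
    rw [hK'] at this
    exact congrArg Subtype.val this
  have := Subgroup.card_le_of_le hle
  rw [Subgroup.card_map_of_injective H.subtype_injective, hK', D.cardZ] at this
  omega

theorem three_m : ¬ 3 ∣ D.m := by
  intro h
  have h9 : 9 ∣ Nat.card D.C := by rw [D.cardC]; omega
  obtain ⟨x, hxC, hx9, hxZ⟩ := exists_nine D h9
  exact hxZ (mem_Z_of_three D hx9 D.ht (commute_of_mem D hxC).symm)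

/-- elements commuting with no involution and not conjugate into `R` -/
def E (D : CountData G) : Set G :=
  {x | (∀ u : G, orderOf u = 2 → ¬ Commute u x) ∧ ∀ g : G, g * x * g⁻¹ ∉ D.R}

theorem E_not_Z {x : G} (h : x ∈ E D) : x ∉ D.Z := fun hz =>
  h.1 D.t D.ht (Z_comm D hz _).symm

theorem E_conj {x : G} (h : x ∈ E D) (g : G) : g * x * g⁻¹ ∈ E D := by
  refine ⟨fun u hu hc => h.1 (g⁻¹ * u * g⁻¹⁻¹) (by rw [orderOf_conj', hu]) ?_, fun a ha => h.2 (a * g) ?_⟩
  · have := conj_commute hc g⁻¹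
    rwa [show g⁻¹ * (g * x * g⁻¹) * g⁻¹⁻¹ = x by group] at this
  · rwa [show a * g * x * (a * g)⁻¹ = a * (g * x * g⁻¹) * a⁻¹ by group]

/-- an element commuting with an involution is central or conjugate into `S₁` -/
theorem mem_sat₁ {x u : G} (hu : orderOf u = 2) (h : Commute u x) (hx : x ∉ D.Z) : x ∈ sat (S₁ D) := by
  have step : ∀ y : G, Commute y D.t → y ∉ D.Z → (y ∈ D.C ∨ y * y ∉ D.Z) → y ∈ sat (S₁ D) :=
    fun y hy hyZ hor => ⟨1, y, ⟨hy, fun _ => hyZ, fun hC => hor.resolve_left hC⟩, by simp⟩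
  have back : ∀ g y : G, g * y * g⁻¹ ∈ sat (S₁ D) → y ∈ sat (S₁ D) := fun g y hy => by
    have := conj_mem_sat hy g⁻¹
    rwa [show g⁻¹ * (g * y * g⁻¹) * g⁻¹⁻¹ = y by group] at this
  obtain ⟨g, hg⟩ := isConj_iff.1 (all_conj D hu)
  have hy : Commute (g * x * g⁻¹) D.t := hg ▸ (conj_commute h g).symm
  have hyZ : g * x * g⁻¹ ∉ D.Z := fun h' => hx (conj_mem_Z D h')
  refine back g x ?_
  set y := g * x * g⁻¹
  by_cases hor : y ∈ D.C ∨ y * y ∉ D.Z
  · exact step y hy hyZ hor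
  push Not at hor
  obtain ⟨hyC, hy2⟩ := hor
  have h3 : orderOf (y ^ 3) = 2 := by
    refine orderOf_eq_prime ?_ fun e => ?_
    · rw [← pow_mul, show 3 * 2 = 2 * 3 by rfl, pow_mul, pow_two, Z_cube D hy2]
    · rw [pow_succ, pow_two] at e
      exact hyC (eq_inv_of_mul_eq_one_right e ▸ inv_mem (Z_le_C D hy2))
  obtain ⟨a, ha⟩ := isConj_iff.1 (all_conj D h3)
  refine back a y ?_
  have hc : Commute (a * y * a⁻¹) D.t := ha ▸ conj_commute (Commute.self_pow y 3) a
  refine step _ hc (fun h' => hyZ (conj_mem_Z D h')) (Or.inl ?_)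
  by_contra hC
  have hz : a * y * a⁻¹ * (a * y * a⁻¹) ∈ D.Z := by
    have e : a * y * a⁻¹ * (a * y * a⁻¹) = y * y := by
      rw [show a * y * a⁻¹ * (a * y * a⁻¹) = a * (y * y) * a⁻¹ by group, (Z_comm D hy2 a).symm.eq, mul_inv_cancel_right]
    rwa [e]
  have e3 : a * y * a⁻¹ * (a * y * a⁻¹) * (a * y * a⁻¹) = D.t := by
    rw [← ha, pow_succ, pow_two]; group
  have := mul_mem (inv_mem (Z_le_C D hz)) (t_mem_C D)
  rw [← e3, inv_mul_cancel_left] at this
  exact hC this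

theorem cover (x : G) : x ∈ D.Z ∨ x ∈ sat (S₁ D) ∨ x ∈ sat (S₂ D) ∨ x ∈ E D := by
  by_cases hz : x ∈ D.Z
  · exact Or.inl hz
  right
  by_cases h1 : ∃ u : G, orderOf u = 2 ∧ Commute u x
  · obtain ⟨u, hu, hc⟩ := h1; exact Or.inl (mem_sat₁ D hu hc hz)
  right
  by_cases h2 : ∃ g : G, g * x * g⁻¹ ∈ D.R
  · obtain ⟨g, hg⟩ := h2
    exact Or.inl ⟨g⁻¹, g * x * g⁻¹, ⟨hg, fun h' => hz (conj_mem_Z D h')⟩, by group⟩
  push Not at h1 h2
  exact Or.inr ⟨h1, h2⟩

theorem card_eq : Nat.card G * (5 * D.m + 9) = 108 * D.m + 36 * D.m * Nat.card (E D) := by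
  have h := (main_bound D (E D) (fun y hy => E_not_Z D hy)
    (fun y hy hsat => by
      obtain ⟨g, s, hs, rfl⟩ := hsat
      exact hy.1 (g * D.t * g⁻¹) (by rw [orderOf_conj', D.ht]) (conj_commute hs.1.symm g))
    (fun y hy hsat => by
      obtain ⟨g, s, hs, rfl⟩ := hsat
      exact hy.2 g⁻¹ (by rw [show g⁻¹ * (g * s * g⁻¹) * g⁻¹⁻¹ = s by group]; exact hs.1))).2 (cover D)
  have e1 := card_sat₁ D
  have e2 := card_sat₂ D
  have e3 : Nat.card (sat (S₂ D)) * 9 = Nat.card G := by omega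
  zify at h e1 e3 ⊢
  linear_combination (36 * (D.m : ℤ)) * h + 3 * e1 + (4 * (D.m : ℤ)) * e3

theorem dvd_card : 108 * D.m ∣ Nat.card G := by
  have h1 : 4 * D.m ∣ Nat.card G := by
    refine dvd_trans ⟨3, ?_⟩ (Subgroup.card_subgroup_dvd_card (Subgroup.centralizer ({D.t} : Set G)))
    rw [D.cardL]; ring
  have h2 : 27 ∣ Nat.card G := D.cardR ▸ Subgroup.card_subgroup_dvd_card D.R
  have hc : Nat.Coprime (4 * D.m) (3 ^ 3) := by
    refine Nat.Coprime.pow_right 3 ((Nat.Prime.coprime_iff_not_dvd (by norm_num)).2 fun h => three_m D ?_).symm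
    omega
  have := hc.mul_dvd_of_dvd_of_dvd h1 h2
  rwa [show 4 * D.m * 3 ^ 3 = 108 * D.m by ring] at this

variable {z : G} (hz : z ∈ E D)

/-- the centraliser of an element of `E` -/
def B (z : G) : Subgroup G := Subgroup.centralizer {z}

theorem mem_B {g : G} : g ∈ B z ↔ Commute g z := Subgroup.mem_centralizer_singleton_iff

theorem Z_le_B : D.Z ≤ B z := fun w hw => mem_B.2 (Z_comm D hw z)

include hz

theorem B_comm {a b : G} (ha : a ∈ B z) (hb : b ∈ B z) : Commute a b :=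
  (D.centE z hz.1 hz.2).1 a b (mem_B.1 ha) (mem_B.1 hb)

theorem B_E {y : G} (hy : y ∈ B z) (hyZ : y ∉ D.Z) : y ∈ E D := by
  refine ⟨fun u hu hc => ?_, fun g hg => hz.2 g ?_⟩
  · obtain ⟨g, s, hs, e⟩ := mem_sat₁ D hu hc hyZ
    have hzy : Commute (g⁻¹ * z * g⁻¹⁻¹) s := by
      have := conj_commute (mem_B.1 hy).symm g⁻¹
      rwa [← e, show g⁻¹ * (g * s * g⁻¹) * g⁻¹⁻¹ = s by group] at this
    have := conj_commute (S₁_centralizer D hs hzy).symm g
    rw [show g * (g⁻¹ * z * g⁻¹⁻¹) * g⁻¹ = z by group] at this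
    exact hz.1 _ (by rw [orderOf_conj', D.ht]) this
  · exact D.centR _ hg (fun h' => hyZ (conj_mem_Z D h')) _ (conj_commute (mem_B.1 hy).symm g)

theorem B_centralizer {y g : G} (hy : y ∈ B z) (hyZ : y ∉ D.Z) (hg : Commute g y) : g ∈ B z :=
  mem_B.2 ((D.centE y (B_E D hz hy hyZ).1 (B_E D hz hy hyZ).2).1 g z hg (mem_B.1 hy).symm)

theorem B_three {y : G} (hy : y ∈ B z) (h : y ^ 9 = 1) : y ∈ D.Z := by
  by_contra hyZ
  obtain ⟨g, hg⟩ := conj_into_R D h
  exact (B_E D hz hy hyZ).2 g hg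

theorem B_ti {g y : G} (hy : y ∈ B z) (hyZ : y ∉ D.Z) (hy' : g * y * g⁻¹ ∈ B z) :
    g ∈ Subgroup.normalizer (B z : Set G) := by
  have hy'Z : g * y * g⁻¹ ∉ D.Z := fun h => hyZ (conj_mem_Z D h)
  refine Subgroup.mem_normalizer_iff.2 fun a => ⟨fun ha => ?_, fun ha => ?_⟩
  · exact B_centralizer D hz hy' hy'Z (conj_commute (B_comm D hz ha hy) g)
  · refine B_centralizer D hz hy hyZ ?_
    have := conj_commute (B_comm D hz ha hy') g⁻¹
    simpa [mul_assoc] using this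

/-- arithmetic data of one class -/
theorem card_B : ∃ b : ℕ, Nat.card (B z) = 3 * b ∧ Odd b ∧ ¬ 3 ∣ b ∧ 5 ≤ b ∧ b.Coprime D.m := by
  classical
  obtain ⟨b, hb⟩ : 3 ∣ Nat.card (B z) := D.cardZ ▸ Subgroup.card_dvd_of_le (Z_le_B D)
  have hodd : ¬ 2 ∣ Nat.card (B z) := fun h => by
    haveI : Fact (Nat.Prime 2) := ⟨Nat.prime_two⟩
    obtain ⟨u, hu⟩ := exists_prime_orderOf_dvd_card' 2 h
    exact hz.1 u (by rw [Subgroup.orderOf_coe, hu]) (mem_B.1 u.2)
  have h9 : ¬ 9 ∣ Nat.card (B z) := fun h => by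
    obtain ⟨x, hx, hx9, hxZ⟩ := exists_nine D h
    exact hxZ (B_three D hz hx hx9)
  have hbodd : Odd b := by
    rw [Nat.odd_iff]
    by_contra h
    exact hodd (hb ▸ Dvd.dvd.mul_left (show 2 ∣ b by omega) 3)
  have hb3 : ¬ 3 ∣ b := fun h => h9 (hb ▸ mul_dvd_mul_left 3 h)
  have hb5 : 5 ≤ b := by
    have h1 : b ≠ 1 := fun h1 => by
      rw [h1, mul_one] at hb
      have e := Subgroup.eq_of_le_of_card_ge (Z_le_B D (z := z)) (by rw [hb, D.cardZ])
      exact E_not_Z D hz (e ▸ mem_B.2 (Commute.refl z))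
    obtain ⟨c, rfl⟩ := hbodd
    omega
  refine ⟨b, hb, hbodd, hb3, hb5, Nat.coprime_of_dvd fun l hl hlb hlm => ?_⟩
  haveI : Fact l.Prime := ⟨hl⟩
  have hl3 : l ≠ 3 := fun h => hb3 (h ▸ hlb)
  obtain ⟨c, hc⟩ := exists_prime_orderOf_dvd_card' (G := D.C) l (by rw [D.cardC]; exact Dvd.dvd.mul_left hlm 6)
  obtain ⟨y', hy'⟩ := exists_prime_orderOf_dvd_card' (G := B z) l (by rw [hb]; exact Dvd.dvd.mul_left hlb 3)
  rw [← Subgroup.orderOf_coe] at hc hy'
  have hnot : ∀ w : G, w ∈ D.Z → orderOf w ≠ l := fun w hw h => by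
    rcases (Nat.dvd_prime (by norm_num : Nat.Prime 3)).1 (h ▸ orderOf_dvd_of_pow_eq_one (Z_cube D hw)) with e | e
    · exact hl.ne_one e
    · exact hl3 e
  have hpg : ∀ w : G, orderOf w = l → IsPGroup l (Subgroup.zpowers w) := fun w hw =>
    IsPGroup.of_card (n := 1) (by rw [Nat.card_zpowers, hw, pow_one])
  obtain ⟨P, hP⟩ := (hpg _ hc).exists_le_sylow
  haveI : Nontrivial (P : Subgroup G) := Subgroup.nontrivial_iff_ne_bot _ |>.2 fun e => by
    have := hP (Subgroup.mem_zpowers (c : G))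
    rw [e, Subgroup.mem_bot] at this
    rw [this, orderOf_one] at hc
    exact hl.ne_one hc.symm
  haveI := P.isPGroup'.center_nontrivial
  obtain ⟨⟨⟨y, hyP⟩, hyc⟩, hy1⟩ := exists_ne (1 : Subgroup.center (P : Subgroup G))
  have hyP' : ∀ w ∈ (P : Subgroup G), Commute y w := fun w hw =>
    (congrArg Subtype.val (Subgroup.mem_center_iff.1 hyc ⟨w, hw⟩)).symm
  have htc : D.t * (c : G) ∉ D.Z := fun h => by
    have h3 := Z_cube D h
    rw [(commute_of_mem D c.2).symm.mul_pow, pow_succ, pow_two, sq_one D.ht, one_mul] at h3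
    have : orderOf (c : G) ∣ 6 := orderOf_dvd_of_pow_eq_one (by
      rw [show 6 = 3 * 2 by rfl, pow_mul, eq_inv_of_mul_eq_one_right h3, inv_eq_of_mul_eq_one_right (sq_one D.ht),
        pow_two, sq_one D.ht])
    rw [hc] at this
    have hl6 := Nat.le_of_dvd (by norm_num) this
    obtain ⟨b', rfl⟩ := hbodd
    interval_cases l <;> first | omega | exact absurd hl (by norm_num)
  have hyC : y ∈ D.C := D.centC c c.2 (fun h => hnot _ h hc) htc y (hyP' c (hP (Subgroup.mem_zpowers _)))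
  obtain ⟨Q, hQ⟩ := (hpg _ hy').exists_le_sylow
  obtain ⟨g, hg⟩ := MulAction.exists_smul_eq G Q P
  have hgy : g * (y' : G) * g⁻¹ ∈ (P : Subgroup G) := by
    rw [← hg, Sylow.coe_subgroup_smul, Subgroup.mem_pointwise_smul_iff_inv_smul_mem]
    have : (MulAut.conj g)⁻¹ • (g * (y' : G) * g⁻¹) = (y' : G) := by simp [MulAut.smul_def, mul_assoc]
    rw [this]
    exact hQ (Subgroup.mem_zpowers _)
  have hcy : Commute (g⁻¹ * y * g⁻¹⁻¹) (y' : G) := by
    have := conj_commute (hyP' _ hgy) g⁻¹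
    rwa [show g⁻¹ * (g * (y' : G) * g⁻¹) * g⁻¹⁻¹ = y' by group] at this
  have hyB := B_centralizer D hz y'.2 (fun h => hnot _ h hy') hcy
  have hy_ne : g⁻¹ * y * g⁻¹⁻¹ ∉ D.Z := fun h => by
    have hyZ := conj_mem_Z D h
    obtain ⟨i, hi⟩ := P.isPGroup' ⟨y, hyP⟩
    have h1 : orderOf y ∣ l ^ i := orderOf_dvd_of_pow_eq_one (congrArg Subtype.val hi)
    have h2 : orderOf y ∣ 3 := orderOf_dvd_of_pow_eq_one (Z_cube D hyZ)
    have := Nat.dvd_gcd h1 h2
    rw [Nat.Coprime.pow_left i ((Nat.coprime_primes hl (by norm_num)).2 hl3), Nat.dvd_one, orderOf_eq_one_iff] at this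
    exact hy1 (Subtype.ext (Subtype.ext this))
  exact (B_E D hz hyB hy_ne).1 (g⁻¹ * D.t * g⁻¹⁻¹) (by rw [orderOf_conj', D.ht])
    (conj_commute (commute_of_mem D hyC).symm g⁻¹)

/-- the cubes -/
theorem cube_sub {b : ℕ} (hb : Nat.card (B z) = 3 * b) (h3 : ¬ 3 ∣ b) :
    ∃ B' : Subgroup G, Nat.card B' = b ∧ B' ≤ B z ∧ (∀ w ∈ B', w ∈ D.Z → w = 1) ∧
      ∀ g ∈ Subgroup.normalizer (B z : Set G), ∀ w ∈ B', g * w * g⁻¹ ∈ B' := by
  let φ : B z →* G :=
    { toFun := fun y => (y : G) ^ 3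
      map_one' := by simp
      map_mul' := fun x y => (B_comm D hz x.2 y.2).mul_pow 3 }
  have hker : φ.ker = D.Z.subgroupOf (B z) := by
    ext y
    show (y : G) ^ 3 = 1 ↔ (y : G) ∈ D.Z
    refine ⟨fun h => B_three D hz y.2 ?_, Z_cube D⟩
    rw [show 9 = 3 * 3 by rfl, pow_mul, h, one_pow]
  have hcard : Nat.card φ.range = b := by
    have h := Subgroup.card_mul_index φ.ker
    rw [Subgroup.index_ker, hb, hker, Nat.card_congr (Subgroup.subgroupOfEquivOfLe (Z_le_B D)).toEquiv, D.cardZ] at h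
    omega
  refine ⟨φ.range, hcard, ?_, fun w hw hwZ => ?_, ?_⟩
  · rintro _ ⟨y, rfl⟩; exact pow_mem y.2 3
  · have h1 : orderOf w ∣ b := hcard ▸ Subgroup.orderOf_dvd_natCard _ hw
    have h2 : orderOf w ∣ 3 := orderOf_dvd_of_pow_eq_one (Z_cube D hwZ)
    have := Nat.dvd_gcd h2 h1
    rwa [(Nat.Prime.coprime_iff_not_dvd (by norm_num)).2 h3, Nat.dvd_one, orderOf_eq_one_iff] at this
  · rintro g hg _ ⟨y, rfl⟩
    exact ⟨⟨g * y * g⁻¹, (Subgroup.mem_normalizer_iff.1 hg y).1 y.2⟩, conj_pow⟩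

/-- the index of a class representative in its normaliser, and the size of the class -/
theorem cls {b : ℕ} (hb : Nat.card (B z) = 3 * b) (h3 : ¬ 3 ∣ b) :
    ∃ f : ℕ, Nat.card (Subgroup.normalizer (B z : Set G)) = f * (3 * b) ∧ f ∣ b - 1 ∧
      Nat.card (sat ((B z : Set G) \ D.Z)) * f * b = Nat.card G * (b - 1) ∧ (f ∣ 6 ∨ b = D.p) := by
  classical
  set N := Subgroup.normalizer (B z : Set G) with hN
  have hle : B z ≤ N := Subgroup.le_normalizer
  have hf : Nat.card N = ((B z).subgroupOf N).index * (3 * b) := by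
    rw [← Subgroup.card_mul_index ((B z).subgroupOf N), Nat.card_congr (Subgroup.subgroupOfEquivOfLe hle).toEquiv, hb,
      mul_comm]
  refine ⟨_, hf, ?_, ?_, ?_⟩
  · obtain ⟨B', hB', hB'le, hB'Z, hB'n⟩ := cube_sub D hz hb h3
    let X := {w : G // w ∈ B' ∧ w ≠ 1}
    letI : MulAction N X :=
      { smul := fun g w => ⟨g * w.1 * (g : G)⁻¹, hB'n _ g.2 _ w.2.1, fun h => w.2.2 (conj_eq_one_iff.1 h)⟩
        one_smul := fun w => Subtype.ext (show ((1 : N) : G) * w.1 * ((1 : N) : G)⁻¹ = w.1 by simp)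
        mul_smul := fun g h w => Subtype.ext (show ((g * h : N) : G) * w.1 * ((g * h : N) : G)⁻¹ =
          g * (h * w.1 * (h : G)⁻¹) * (g : G)⁻¹ by simp [mul_assoc]) }
    have hstab : ∀ w : X, MulAction.stabilizer N w = (B z).subgroupOf N := fun w => by
      ext g
      rw [MulAction.mem_stabilizer_iff, Subgroup.mem_subgroupOf, Subtype.ext_iff]
      show (g : G) * w.1 * (g : G)⁻¹ = w.1 ↔ (g : G) ∈ B z
      rw [mul_inv_eq_iff_eq_mul]
      exact ⟨fun h => B_centralizer D hz (hB'le w.2.1) (fun hZ => w.2.2 (hB'Z _ w.2.1 hZ)) h,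
        fun h => (B_comm D hz h (hB'le w.2.1)).eq⟩
    haveI : Fintype (MulAction.orbitRel.Quotient N X) := Fintype.ofFinite _
    have hX : Nat.card X = Fintype.card (MulAction.orbitRel.Quotient N X) * ((B z).subgroupOf N).index := by
      rw [Nat.card_congr (MulAction.selfEquivSigmaOrbitsQuotientStabilizer N X), Nat.card_sigma]
      simp only [hstab, ← Subgroup.index_eq_card, Finset.sum_const, Finset.card_univ, smul_eq_mul]
    have hX' : Nat.card X + 1 = b := by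
      have h := Set.ncard_sdiff_add_ncard_of_subset (show ({1} : Set G) ⊆ B' by simp)
      simp only [← Nat.card_coe_set_eq, SetLike.coe_sort_coe, hB', Nat.card_unique] at h
      exact h
    exact ⟨_, (show b - 1 = ((B z).subgroupOf N).index * Fintype.card (MulAction.orbitRel.Quotient N X) by
      rw [mul_comm, ← hX]; omega)⟩
  · have h := ti_card ((B z : Set G) \ D.Z) N
      (fun g hg y hy => ⟨(Subgroup.mem_normalizer_iff.1 hg y).1 hy.1, fun h' => hy.2 (conj_mem_Z D h')⟩)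
      (fun g y hy hy' => B_ti D hz hy.1 hy.2 hy'.1)
    have hS : Nat.card ((B z : Set G) \ D.Z : Set G) = 3 * b - 3 := by
      have h' := Set.ncard_sdiff_add_ncard_of_subset (show (D.Z : Set G) ⊆ B z from Z_le_B D)
      simp only [← Nat.card_coe_set_eq, SetLike.coe_sort_coe, D.cardZ, hb] at h'
      omega
    rw [hS, hf] at h
    have h2 : Nat.card G * (3 * b - 3) = 3 * (Nat.card G * (b - 1)) := by
      rw [show 3 * b - 3 = 3 * (b - 1) by omega]; ring
    apply Nat.eq_of_mul_eq_mul_left (show 0 < 3 by norm_num)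
    rw [← h2, ← h]; ring
  · have h := (D.centE z hz.1 hz.2).2
    change Nat.card (B z) = 3 * D.p ∨ Nat.card N ∣ 6 * Nat.card (B z) at h
    rw [hb, hf] at h
    rcases h with h | h
    · exact Or.inr (by omega)
    · exact Or.inl (Nat.dvd_of_mul_dvd_mul_right (by have : 0 < Nat.card (B z) := Nat.card_pos; omega) h)

theorem cls_sub : sat ((B z : Set G) \ D.Z) ⊆ E D := by
  rintro _ ⟨g, y, hy, rfl⟩
  exact E_conj D (B_E D hz hy.1 hy.2) g

theorem cls_disjoint {z' : G} (hz' : z' ∈ E D) (h : z' ∉ sat ((B z : Set G) \ D.Z)) :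
    Disjoint (sat ((B z : Set G) \ D.Z)) (sat ((B z' : Set G) \ D.Z)) := by
  refine Set.disjoint_left.2 ?_
  rintro _ ⟨g, y, hy, rfl⟩ ⟨a, y', hy', e⟩
  refine h ⟨a⁻¹ * g, g⁻¹ * a * z' * (g⁻¹ * a)⁻¹, ⟨?_, fun hZ => E_not_Z D hz' (conj_mem_Z D hZ)⟩, by group⟩
  refine B_centralizer D hz hy.1 hy.2 ?_
  have h1 := conj_commute (mem_B.1 hy'.1).symm (g⁻¹ * a)
  rwa [show g⁻¹ * a * y' * (g⁻¹ * a)⁻¹ = g⁻¹ * (a * y' * a⁻¹) * g by group, e,
    show g⁻¹ * (g * y * g⁻¹) * g = y by group] at h1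

end CountData

end Cfsg.Agent.Forms.Max.SL3.SympType
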