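import Mathlib

/-!
# Counting in a group with a dihedral-type involution centraliser: fusion of involutions
-/

set_option autoImplicit false
set_option linter.unusedSectionVars false

namespace Cfsg.Agent.Forms.Max.SL3.SympType

/-- the data of the counting argument -/
structure CountData (G : Type*) [Group G] where
  Z : Subgroup G
  R : Subgroup G
  C : Subgroup G
  t : G
  q : G
  p : ℕ
  m : ℕ
  hZ : Z ≤ Subgroup.center G
  cardZ : Nat.card Z = 3
  hZR : Z ≤ R
  cardR : Nat.card R = 27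
  not81 : ¬ 81 ∣ Nat.card G
  cardN : Nat.card (Subgroup.normalizer (R : Set G)) = 216
  ti : ∀ g : G, ∀ x ∈ R, x ∉ Z → g * x * g⁻¹ ∈ R → g ∈ Subgroup.normalizer (R : Set G)
  centR : ∀ x ∈ R, x ∉ Z → ∀ g : G, Commute g x → g ∈ R
  ht : orderOf t = 2
  hCL : C ≤ Subgroup.centralizer {t}
  Ccomm : ∀ a ∈ C, ∀ b ∈ C, Commute a b
  cardC : Nat.card C = 6 * m
  cardL : Nat.card (Subgroup.centralizer ({t} : Set G)) = 12 * m
  four : 4 ∣ m
  Cinv : ∀ c ∈ C, orderOf c = 2 → c = t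
  hq : q ∈ C ∧ q * q = t
  anti : ∀ g : G, Commute g t → g ∉ C → g * q * g⁻¹ = q⁻¹
  fix : ∀ g : G, Commute g t → g ∉ C → ∀ c ∈ C, Commute g c → c ∈ Z ∨ t * c ∈ Z
  centC : ∀ c ∈ C, c ∉ Z → t * c ∉ Z → ∀ g : G, Commute g c → g ∈ C
  sq : ∀ g : G, Commute g t → g ∉ C → g * g ∈ Z ∨ t * (g * g) ∈ Z
  cardI : Nat.card {g : G // Commute g t ∧ g ∉ C ∧ g * g ∈ Z} = 3 * m
  hp : p.Prime
  p7 : 7 ≤ p
  pL : ¬ p ∣ 12 * m
  psq : ¬ p ^ 2 ∣ Nat.card G
  scal : ∀ z : G, (∀ u : G, orderOf u = 2 → ¬ Commute u z) → (∀ g : G, g * z * g⁻¹ ∉ R) →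
    ∀ g : G, ∀ w ∈ Z, g * z * g⁻¹ = z * w → w = 1
  centE : ∀ z : G, (∀ u : G, orderOf u = 2 → ¬ Commute u z) → (∀ g : G, g * z * g⁻¹ ∉ R) →
    (∀ a b : G, Commute a z → Commute b z → Commute a b) ∧
    (Nat.card (Subgroup.centralizer ({z} : Set G)) = 3 * p ∨
      Nat.card (Subgroup.normalizer ((Subgroup.centralizer ({z} : Set G)) : Set G)) ∣
        6 * Nat.card (Subgroup.centralizer ({z} : Set G)))

namespace CountData

variable {G : Type*} [Group G] [Finite G] (D : CountData G)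

/-- conjugates of a set -/
def sat (S : Set G) : Set G := {x | ∃ g : G, ∃ y ∈ S, g * y * g⁻¹ = x}

theorem conj_mem_sat {S : Set G} {x : G} (h : x ∈ sat S) (g : G) : g * x * g⁻¹ ∈ sat S := by
  obtain ⟨a, y, hy, rfl⟩ := h
  exact ⟨g * a, y, hy, by group⟩

/-- the size of the conjugates of a trivial intersection set -/
theorem ti_card (S : Set G) (N : Subgroup G) (hinv : ∀ g ∈ N, ∀ y ∈ S, g * y * g⁻¹ ∈ S)
    (hti : ∀ g : G, ∀ y ∈ S, g * y * g⁻¹ ∈ S → g ∈ N) :
    Nat.card (sat S) * Nat.card N = Nat.card G * Nat.card S := by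
  classical
  let f : G × S → sat S := fun a => ⟨a.1 * a.2 * a.1⁻¹, a.1, a.2, a.2.2, rfl⟩
  have hfib : ∀ x : sat S, Nat.card {a // f a = x} = Nat.card N := by
    rintro ⟨x, g, y, hy, rfl⟩
    refine Nat.card_congr
      { toFun := fun a => ⟨g⁻¹ * a.1.1, hti _ _ a.1.2.2 ?_⟩
        invFun := fun n => ⟨⟨g * n, ⟨(n : G)⁻¹ * y * (n : G), by simpa using hinv _ (inv_mem n.2) y hy⟩⟩,
          Subtype.ext (by show g * n * ((n : G)⁻¹ * y * n) * (g * n)⁻¹ = g * y * g⁻¹; group)⟩
        left_inv := fun a => ?_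
        right_inv := fun n => Subtype.ext (by simp) }
    · have e : a.1.1 * a.1.2 * a.1.1⁻¹ = g * y * g⁻¹ := congrArg Subtype.val a.2
      rw [show g⁻¹ * a.1.1 * a.1.2 * (g⁻¹ * a.1.1)⁻¹ = g⁻¹ * (a.1.1 * a.1.2 * a.1.1⁻¹) * g by group, e]
      simpa [mul_assoc] using hy
    · have e : a.1.1 * a.1.2 * a.1.1⁻¹ = g * y * g⁻¹ := congrArg Subtype.val a.2
      refine Subtype.ext (Prod.ext (by simp) (Subtype.ext ?_))
      show (g⁻¹ * a.1.1)⁻¹ * y * (g⁻¹ * a.1.1) = a.1.2
      rw [show (g⁻¹ * a.1.1)⁻¹ * y * (g⁻¹ * a.1.1) = a.1.1⁻¹ * (g * y * g⁻¹) * a.1.1 by group]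
      exact (congrArg (fun v => a.1.1⁻¹ * v * a.1.1) e.symm).trans (by group)
  haveI : Fintype (sat S) := Fintype.ofFinite _
  rw [← Nat.card_prod G S, Nat.card_congr (Equiv.sigmaFiberEquiv f).symm, Nat.card_sigma]
  simp [hfib, Nat.card_eq_fintype_card (α := sat S)]

/-- an involution among the powers -/
def Pw (y u : G) : Prop := orderOf u = 2 ∧ u ∈ Subgroup.zpowers y

theorem Pw.unique {y u v : G} (hu : Pw y u) (hv : Pw y v) : u = v := by
  classical
  haveI : Fintype (Subgroup.zpowers y) := Fintype.ofFinite _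
  have h := IsCyclic.card_pow_eq_one_le (α := Subgroup.zpowers y) (show 0 < 2 by norm_num)
  by_contra hne
  have hsub : ({1, ⟨u, hu.2⟩, ⟨v, hv.2⟩} : Finset (Subgroup.zpowers y)) ⊆
      Finset.univ.filter (fun a => a ^ 2 = 1) := by
    intro a ha
    simp only [Finset.mem_insert, Finset.mem_singleton] at ha
    simp only [Finset.mem_filter, Finset.mem_univ, true_and]
    rcases ha with rfl | rfl | rfl
    · exact one_pow 2
    · exact Subtype.ext (by simpa [hu.1] using pow_orderOf_eq_one u)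
    · exact Subtype.ext (by simpa [hv.1] using pow_orderOf_eq_one v)
  have h1 : u ≠ 1 := fun e => by simpa [e] using hu.1
  have h2 : v ≠ 1 := fun e => by simpa [e] using hv.1
  have := (Finset.card_le_card hsub).trans h
  rw [Finset.card_insert_of_notMem (by simp [Subtype.ext_iff, Ne.symm h1, Ne.symm h2]),
    Finset.card_insert_of_notMem (by simp [Subtype.ext_iff, hne]), Finset.card_singleton] at this
  omega

theorem Pw.commute {y u g : G} (hu : Pw y u) (h : Commute g y) : Commute g u := by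
  obtain ⟨i, rfl⟩ := Subgroup.mem_zpowers_iff.1 hu.2
  exact h.zpow_right i

theorem Pw.conj {y u : G} (hu : Pw y u) (g : G) : Pw (g * y * g⁻¹) (g * u * g⁻¹) := by
  obtain ⟨i, rfl⟩ := Subgroup.mem_zpowers_iff.1 hu.2
  refine ⟨?_, Subgroup.mem_zpowers_iff.2 ⟨i, conj_zpow⟩⟩
  rw [← hu.1]
  exact (orderOf_injective (MulAut.conj g).toMonoidHom (MulAut.conj g).injective _)

theorem sq_one {u : G} (hu : orderOf u = 2) : u * u = 1 := by
  rw [← pow_two, ← hu]; exact pow_orderOf_eq_one u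

theorem ne_one {u : G} (hu : orderOf u = 2) : u ≠ 1 := fun e => by simp [e] at hu

theorem commute_of_mem (D : CountData G) {c : G} (hc : c ∈ D.C) : Commute c D.t :=
  Subgroup.mem_centralizer_singleton_iff.1 (D.hCL hc)

theorem t_mem_C : D.t ∈ D.C := D.hq.2 ▸ mul_mem D.hq.1 D.hq.1

theorem Z_comm {z : G} (hz : z ∈ D.Z) (g : G) : Commute z g :=
  (Subgroup.mem_center_iff.1 (D.hZ hz) g).symm

theorem Z_le_C {z : G} (hz : z ∈ D.Z) : z ∈ D.C := by
  by_contra h
  have e := D.anti z (Z_comm D hz _) h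
  rw [(Z_comm D hz D.q).eq, mul_inv_cancel_right, eq_inv_iff_mul_eq_one, D.hq.2] at e
  exact ne_one D.ht e

theorem Z_cube {z : G} (hz : z ∈ D.Z) : z ^ 3 = 1 := by
  rw [← D.cardZ]
  exact congrArg Subtype.val (pow_card_eq_one' (x := (⟨z, hz⟩ : D.Z)))

theorem eq_one_of_mem_Z {z : G} (hz : z ∈ D.Z) (h : z * z = 1) : z = 1 := by
  have := Z_cube D hz
  rwa [pow_succ, pow_two, h, one_mul] at this

theorem R_odd {x : G} (hx : x ∈ D.R) (h : orderOf x = 2) : False := by
  have := orderOf_dvd_natCard (⟨x, hx⟩ : D.R)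
  rw [Subgroup.orderOf_mk, h, D.cardR] at this
  omega

theorem not_mem_C_mul {a b : G} (ha : Commute a D.t) (ha' : a ∉ D.C) (hb : Commute b D.t) (hb' : b ∉ D.C) :
    a * b ∈ D.C := by
  have hle : D.C ≤ Subgroup.centralizer {D.t} := D.hCL
  have hidx : (D.C.subgroupOf (Subgroup.centralizer {D.t})).index = 2 := by
    have h1 := Subgroup.card_mul_index (D.C.subgroupOf (Subgroup.centralizer {D.t}))
    rw [Nat.card_congr (Subgroup.subgroupOfEquivOfLe hle).toEquiv, D.cardC, D.cardL] at h1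
    have hm : 0 < 6 * D.m := D.cardC ▸ Nat.card_pos
    apply Nat.eq_of_mul_eq_mul_left hm
    rw [h1]; ring
  have := (Subgroup.mul_mem_iff_of_index_two hidx
    (a := ⟨a, Subgroup.mem_centralizer_singleton_iff.2 ha⟩) (b := ⟨b, Subgroup.mem_centralizer_singleton_iff.2 hb⟩)).2
  exact Subgroup.mem_subgroupOf.1 (this (by simp [Subgroup.mem_subgroupOf, ha', hb']))

theorem conj_mem_C {g c : G} (hg : Commute g D.t) (hc : c ∈ D.C) : g * c * g⁻¹ ∈ D.C := by
  by_cases hgC : g ∈ D.C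
  · exact mul_mem (mul_mem hgC hc) (inv_mem hgC)
  · refine not_mem_C_mul D ((hg.mul_left (commute_of_mem D hc))) (fun h => hgC ?_) hg.inv_left (fun h => hgC ?_)
    · simpa using mul_mem h (inv_mem hc)
    · simpa using inv_mem h

/-- the set of elements with centraliser inside the centraliser of `t` -/
def S₁ : Set G := {y | Commute y D.t ∧ (y ∈ D.C → y ∉ D.Z) ∧ (y ∉ D.C → y * y ∉ D.Z)}

theorem S₁_not_Z {y : G} (hy : y ∈ S₁ D) : y ∉ D.Z := fun h => hy.2.1 (Z_le_C D h) h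

theorem pw_of_tZ {y : G} (h : D.t * y ∈ D.Z) : Pw y D.t := by
  refine ⟨D.ht, Subgroup.mem_zpowers_iff.2 ⟨3, ?_⟩⟩
  have hc : Commute D.t (D.t * y) := (Z_comm D h _).symm
  have e : y = D.t * (D.t * y) := by rw [← mul_assoc, sq_one D.ht, one_mul]
  rw [show (3 : ℤ) = ((3 : ℕ) : ℤ) from rfl, zpow_natCast, e, hc.mul_pow, Z_cube D h, mul_one, pow_succ, pow_two,
    sq_one D.ht, one_mul]

theorem pw_of_sq {y : G} (h : D.t * (y * y) ∈ D.Z) : Pw y D.t := by
  obtain ⟨-, hz⟩ := pw_of_tZ D h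
  refine ⟨D.ht, ?_⟩
  exact Subgroup.zpowers_le.2 (mul_mem (Subgroup.mem_zpowers y) (Subgroup.mem_zpowers y)) hz

theorem sq_case {y : G} (hy : y ∈ S₁ D) (hC : y ∉ D.C) : D.t * (y * y) ∈ D.Z :=
  (D.sq y hy.1 hC).resolve_left (hy.2.2 hC)

/-- everything commuting with an element of `S₁` commutes with `t` -/
theorem S₁_centralizer {y g : G} (hy : y ∈ S₁ D) (hg : Commute g y) : Commute g D.t := by
  by_cases hC : y ∈ D.C
  · by_cases h : D.t * y ∈ D.Z
    · exact (pw_of_tZ D h).commute hg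
    · exact commute_of_mem D (D.centC y hC (hy.2.1 hC) h g hg)
  · exact (pw_of_sq D (sq_case D hy hC)).commute hg

theorem S₁_invol {y u : G} (hy : y ∈ S₁ D) (hu : orderOf u = 2) (h : Commute u y) :
    u = D.t ∨ D.t * y ∈ D.Z := by
  by_cases hC : y ∈ D.C
  · by_cases htz : D.t * y ∈ D.Z
    · exact Or.inr htz
    · exact Or.inl (D.Cinv u (D.centC y hC (hy.2.1 hC) htz u h) hu)
  · left
    have hut := S₁_centralizer D hy h
    by_cases huC : u ∈ D.C
    · exact D.Cinv u huC hu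
    exfalso
    have hyu : y * u ∈ D.C := not_mem_C_mul D hy.1 hC hut huC
    have hcom : Commute y (y * u) := (Commute.refl y).mul_right h.symm
    have e : (y * u) * (y * u) = y * y := by
      rw [h.mul_mul_mul_comm, sq_one hu, mul_one]
    rcases D.fix y hy.1 hC _ hyu hcom with hz | hz
    · exact hy.2.2 hC (e ▸ mul_mem hz hz)
    · refine hy.2.2 hC ?_
      have := mul_mem hz hz
      rwa [((commute_of_mem D hyu)).mul_mul_mul_comm, sq_one D.ht, one_mul, e] at this

theorem S₁_ti {g y : G} (hy : y ∈ S₁ D) (hy' : g * y * g⁻¹ ∈ S₁ D) : Commute g D.t := by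
  suffices h : g * D.t * g⁻¹ = D.t from mul_inv_eq_iff_eq_mul.1 h
  have hc : Commute (g * D.t * g⁻¹) (g * y * g⁻¹) :=
    (Commute.map hy.1.symm (MulAut.conj g).toMonoidHom)
  have ho : orderOf (g * D.t * g⁻¹) = 2 := by
    rw [← D.ht]; exact orderOf_injective (MulAut.conj g).toMonoidHom (MulAut.conj g).injective _
  rcases S₁_invol D hy' ho hc with h | h
  · exact h
  have hpw' := pw_of_tZ D h
  have hc2 : Commute (g⁻¹ * D.t * g) y := by
    have := Commute.map ((hy'.1).symm) (MulAut.conj g⁻¹).toMonoidHom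
    simpa [mul_assoc] using this
  have ho2 : orderOf (g⁻¹ * D.t * g) = 2 := by
    have := orderOf_injective (MulAut.conj g⁻¹).toMonoidHom (MulAut.conj g⁻¹).injective D.t
    rw [D.ht] at this
    simpa using this
  rcases S₁_invol D hy ho2 hc2 with h2 | h2
  · conv_lhs => rw [← h2]
    group
  · exact ((pw_of_tZ D h2).conj g).unique hpw'

theorem card_C_diff : Nat.card {y : G // y ∈ D.C ∧ y ∉ D.Z} + 3 = 6 * D.m := by
  classical
  haveI := Fintype.ofFinite G
  have hle : D.Z ≤ D.C := fun z hz => Z_le_C D hz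
  rw [← D.cardC, ← D.cardZ]
  simp only [← SetLike.coe_sort_coe, Nat.card_coe_set_eq]
  rw [← Set.ncard_sdiff_add_ncard_of_subset (show (D.Z : Set G) ⊆ D.C from hle)]
  rfl

theorem card_S₁ : Nat.card (S₁ D) + 3 = 9 * D.m := by
  classical
  haveI := Fintype.ofFinite G
  have hI := D.cardI
  have hC := card_C_diff D
  have hLC : Nat.card {y : G // Commute y D.t ∧ y ∉ D.C} + 6 * D.m = 12 * D.m := by
    rw [← D.cardC, ← D.cardL]
    simp only [← SetLike.coe_sort_coe, Nat.card_coe_set_eq]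
    rw [← Set.ncard_sdiff_add_ncard_of_subset (show (D.C : Set G) ⊆ Subgroup.centralizer {D.t} from D.hCL)]
    congr 1
    rw [← Nat.card_coe_set_eq]
    exact Nat.card_congr (Equiv.subtypeEquivRight fun y => by simp [Subgroup.mem_centralizer_singleton_iff, Commute, SemiconjBy])
  simp only [Nat.card_eq_fintype_card, Fintype.card_subtype] at hI hC hLC ⊢
  have h1 := Finset.card_filter_add_card_filter_not (s := Finset.univ.filter (· ∈ S₁ D)) (fun y => y ∈ D.C)
  have h2 := Finset.card_filter_add_card_filter_not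
    (s := Finset.univ.filter (fun y => Commute y D.t ∧ y ∉ D.C)) (fun y => y * y ∈ D.Z)
  have e1 : (Finset.univ.filter (· ∈ S₁ D)).filter (fun y => y ∈ D.C) =
      Finset.univ.filter (fun y => y ∈ D.C ∧ y ∉ D.Z) := by
    ext y
    simp only [Finset.mem_filter, Finset.mem_univ, true_and, S₁, Set.mem_setOf_eq]
    exact ⟨fun ⟨⟨_, a, _⟩, b⟩ => ⟨b, a b⟩, fun ⟨b, a⟩ => ⟨⟨commute_of_mem D b, fun _ => a, fun c => absurd b c⟩, b⟩⟩
  have e2 : (Finset.univ.filter (· ∈ S₁ D)).filter (fun y => y ∉ D.C) =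
      (Finset.univ.filter (fun y => Commute y D.t ∧ y ∉ D.C)).filter (fun y => ¬ y * y ∈ D.Z) := by
    ext y
    simp only [Finset.mem_filter, Finset.mem_univ, true_and, S₁, Set.mem_setOf_eq]
    exact ⟨fun ⟨⟨a, _, c⟩, b⟩ => ⟨⟨a, b⟩, c b⟩, fun ⟨⟨a, b⟩, c⟩ => ⟨⟨a, fun h => absurd h b, fun _ => c⟩, b⟩⟩
  have e3 : (Finset.univ.filter (fun y => Commute y D.t ∧ y ∉ D.C)).filter (fun y => y * y ∈ D.Z) =
      Finset.univ.filter (fun g => Commute g D.t ∧ g ∉ D.C ∧ g * g ∈ D.Z) := by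
    ext y; simp [and_assoc]
  rw [e1, e2] at h1
  rw [e3] at h2
  omega

theorem card_sat₁ : Nat.card (sat (S₁ D)) * (12 * D.m) + 3 * Nat.card G = Nat.card G * (9 * D.m) := by
  have h := ti_card (S₁ D) (Subgroup.centralizer {D.t}) ?_ ?_
  · rw [D.cardL] at h
    rw [h, ← card_S₁ D]; ring
  · intro g hg y hy
    have hgt : Commute g D.t := Subgroup.mem_centralizer_singleton_iff.1 hg
    have back : g * y * g⁻¹ ∈ D.C → y ∈ D.C := fun hh => by
      have := conj_mem_C D hgt.inv_left hh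
      simpa [mul_assoc] using this
    have hz : ∀ w, g * w * g⁻¹ ∈ D.Z → w ∈ D.Z := fun w hw => by
      have e : g * w * g⁻¹ = w := by
        have h1 := (Z_comm D hw g).eq
        rw [inv_mul_cancel_right] at h1
        exact mul_left_cancel h1.symm
      rwa [e] at hw
    refine ⟨(hgt.mul_left hy.1).mul_left hgt.inv_left, fun hc hzz => hy.2.1 (back hc) (hz y hzz), fun hc hzz => ?_⟩
    refine hy.2.2 (fun hh => hc (conj_mem_C D hgt hh)) (hz _ ?_)
    rwa [show g * y * g⁻¹ * (g * y * g⁻¹) = g * (y * y) * g⁻¹ by group] at hzz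
  · exact fun g y hy hy' => Subgroup.mem_centralizer_singleton_iff.2 (S₁_ti D hy hy')

/-- the non-central elements of `R` -/
def S₂ : Set G := {y | y ∈ D.R ∧ y ∉ D.Z}

theorem card_sat₂ : Nat.card (sat (S₂ D)) * 216 = Nat.card G * 24 := by
  have hS : Nat.card (S₂ D) = 24 := by
    have h := Set.ncard_sdiff_add_ncard_of_subset (show (D.Z : Set G) ⊆ D.R from D.hZR)
    simp only [← Nat.card_coe_set_eq, SetLike.coe_sort_coe, D.cardR, D.cardZ] at h
    have e : (S₂ D) = (D.R : Set G) \ D.Z := rfl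
    rw [e]; omega
  have h := ti_card (S₂ D) (Subgroup.normalizer (D.R : Set G)) ?_ ?_
  · rwa [D.cardN, hS] at h
  · intro g hg y hy
    refine ⟨(Subgroup.mem_normalizer_iff.1 hg y).1 hy.1, fun hz => hy.2 ?_⟩
    have e : g * y * g⁻¹ = y := by
      have h1 := (Z_comm D hz g).eq
      rw [inv_mul_cancel_right] at h1
      exact mul_left_cancel h1.symm
    rwa [e] at hz
  · exact fun g y hy hy' => D.ti g y hy.1 hy.2 hy'.1

/-- elements with a commuting involution avoid the conjugates of `R` outside the centre -/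
theorem not_sat₂ {y u : G} (hu : orderOf u = 2) (h : Commute u y) : y ∉ sat (S₂ D) := by
  rintro ⟨g, x, hx, rfl⟩
  refine R_odd D (x := g⁻¹ * u * g) (D.centR x hx.1 hx.2 _ ?_) ?_
  · have := Commute.map h (MulAut.conj g⁻¹).toMonoidHom
    simpa [mul_assoc] using this
  · have := orderOf_injective (MulAut.conj g⁻¹).toMonoidHom (MulAut.conj g⁻¹).injective u
    rw [hu] at this
    simpa using this

theorem sat_not_Z {S : Set G} (hS : ∀ y ∈ S, y ∉ D.Z) {x : G} (hx : x ∈ sat S) : x ∉ D.Z := by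
  rintro hz
  obtain ⟨g, y, hy, rfl⟩ := hx
  have e : g * y * g⁻¹ = y := by
    have h1 := (Z_comm D hz g).eq
    rw [inv_mul_cancel_right] at h1
    exact mul_left_cancel h1.symm
  rw [e] at hz
  exact hS y hy hz

theorem sat₁_not_sat₂ {x : G} (hx : x ∈ sat (S₁ D)) : x ∉ sat (S₂ D) := by
  obtain ⟨g, y, hy, rfl⟩ := hx
  refine not_sat₂ D (u := g * D.t * g⁻¹) ?_ (Commute.map hy.1.symm (MulAut.conj g).toMonoidHom)
  rw [← D.ht]; exact orderOf_injective (MulAut.conj g).toMonoidHom (MulAut.conj g).injective _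

theorem main_bound (Y : Set G) (hZ : ∀ y ∈ Y, y ∉ D.Z) (h1 : ∀ y ∈ Y, y ∉ sat (S₁ D))
    (h2 : ∀ y ∈ Y, y ∉ sat (S₂ D)) :
    3 + Nat.card (sat (S₁ D)) + Nat.card (sat (S₂ D)) + Nat.card Y ≤ Nat.card G ∧
    ((∀ x : G, x ∈ D.Z ∨ x ∈ sat (S₁ D) ∨ x ∈ sat (S₂ D) ∨ x ∈ Y) →
      Nat.card G = 3 + Nat.card (sat (S₁ D)) + Nat.card (sat (S₂ D)) + Nat.card Y) := by
  have hd1 : Disjoint (D.Z : Set G) (sat (S₁ D)) :=
    Set.disjoint_left.2 fun x hx hx' => sat_not_Z D (fun y hy => S₁_not_Z D hy) hx' hx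
  have hd2 : Disjoint ((D.Z : Set G) ∪ sat (S₁ D)) (sat (S₂ D)) := Set.disjoint_left.2 fun x hx hx' =>
    hx.elim (fun h => sat_not_Z D (fun y hy => hy.2) hx' h) fun h => sat₁_not_sat₂ D h hx'
  have hd3 : Disjoint ((D.Z : Set G) ∪ sat (S₁ D) ∪ sat (S₂ D)) Y := Set.disjoint_left.2 fun x hx hx' =>
    hx.elim (fun h => h.elim (hZ x hx') (h1 x hx')) (h2 x hx')
  have e : ((D.Z : Set G) ∪ sat (S₁ D) ∪ sat (S₂ D) ∪ Y).ncard =
      3 + Nat.card (sat (S₁ D)) + Nat.card (sat (S₂ D)) + Nat.card Y := by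
    rw [Set.ncard_union_eq hd3, Set.ncard_union_eq hd2, Set.ncard_union_eq hd1]
    simp only [Nat.card_coe_set_eq]
    rw [← Nat.card_coe_set_eq (D.Z : Set G), SetLike.coe_sort_coe, D.cardZ]
  refine ⟨?_, fun hall => ?_⟩
  · rw [← e, ← Set.ncard_univ G]; exact Set.ncard_le_ncard (Set.subset_univ _)
  · rw [← e, ← Set.ncard_univ G]
    congr 1
    exact (Set.eq_univ_of_forall fun x => by
      rcases hall x with h | h | h | h
      exacts [Or.inl (Or.inl (Or.inl h)), Or.inl (Or.inl (Or.inr h)), Or.inl (Or.inr h), Or.inr h]).symm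

/-- every involution of the centraliser of `t` outside `C` is conjugate to `t` -/
theorem fusion {s : G} (hs : orderOf s = 2) (hst : Commute s D.t) (hsC : s ∉ D.C) : IsConj s D.t := by
  classical
  haveI := Fintype.ofFinite G
  by_contra hno
  have hnot : ∀ x : G, x * D.t * x⁻¹ ≠ s := fun x h => hno (isConj_iff.2 ⟨x, h⟩).symm
  have hss := sq_one hs
  have htt := sq_one D.ht
  have hts : orderOf (D.t * s) = 2 := by
    refine orderOf_eq_prime ?_ fun e => ?_
    · rw [pow_two, hst.mul_mul_mul_comm, htt, hss, one_mul]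
    · exact hsC (inv_eq_of_mul_eq_one_right e ▸ inv_mem (t_mem_C D))
  have hnot' : ∀ x : G, x * D.t * x⁻¹ ≠ D.t * s := by
    intro x h
    have e := D.anti s hst hsC
    have h2 : D.q * s = s * D.q⁻¹ := by
      rw [← e, show s * (s * D.q * s⁻¹) = (s * s) * (D.q * s⁻¹) by group, hss, one_mul, inv_eq_of_mul_eq_one_right hss]
    have h3 : D.q * s * D.q⁻¹ = D.t * s := by
      rw [h2, mul_assoc, ← _root_.mul_inv_rev, D.hq.2, inv_eq_of_mul_eq_one_right htt, hst.eq]
    exact hnot (D.q⁻¹ * x) (by rw [show D.q⁻¹ * x * D.t * (D.q⁻¹ * x)⁻¹ = D.q⁻¹ * (x * D.t * x⁻¹) * D.q by group, h, ← h3]; group)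
  -- the centraliser of `s` in that of `t`
  have hCLs : ∀ g : G, Commute g D.t → Commute g s →
      g ∈ D.Z ∨ D.t * g ∈ D.Z ∨ g * s ∈ D.Z ∨ D.t * (g * s) ∈ D.Z := fun g h1 h2 => by
    by_cases hg : g ∈ D.C
    · rcases D.fix s hst hsC g hg h2.symm with h | h
      · exact Or.inl h
      · exact Or.inr (Or.inl h)
    · rcases D.fix s hst hsC _ (not_mem_C_mul D h1 hg hst hsC) (h2.symm.mul_right (Commute.refl s)) with h | h
      · exact Or.inr (Or.inr (Or.inl h))
      · exact Or.inr (Or.inr (Or.inr h))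
  let k : G → G := fun x => x * D.t * x⁻¹ * D.t
  let Φ : G × D.Z → G := fun a => (if Even (orderOf (k a.1)) then k a.1 else k a.1 * s) * a.2
  have hk : ∀ x, Commute x s → Commute (k x) s := fun x hx =>
    (((hx.mul_left hst.symm).mul_left hx.inv_left).mul_left hst.symm)
  have hΦ : ∀ a : G × D.Z, Commute a.1 s → Pw (Φ a) s := by
    rintro ⟨x, w⟩ hx
    have hkx := hk x hx
    have hw : (w : G) ^ 3 = 1 := Z_cube D w.2
    show Pw ((if Even (orderOf (k x)) then k x else k x * s) * w) s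
    split_ifs with he
    · obtain ⟨j, hj⟩ := he
      have hj0 : 0 < j := by have := orderOf_pos (k x); omega
      set z := k x ^ j with hz
      have hz2 : z * z = 1 := by rw [hz, ← pow_add, ← hj, pow_orderOf_eq_one]
      have hz1 : z ≠ 1 := pow_ne_one_of_lt_orderOf (by omega) (by omega)
      have hzo : orderOf z = 2 := orderOf_eq_prime (by rw [pow_two, hz2]) hz1
      have hinv : D.t * k x * D.t⁻¹ = (k x)⁻¹ := by
        simp only [k, _root_.mul_inv_rev, inv_inv, inv_eq_of_mul_eq_one_right htt, mul_assoc, htt, mul_one]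
      have hzt : Commute z D.t := by
        have : D.t * z * D.t⁻¹ = z⁻¹ := by rw [hz, ← conj_pow, hinv, inv_pow]
        rw [inv_eq_of_mul_eq_one_right hz2] at this
        exact (mul_inv_eq_iff_eq_mul.1 this).symm
      have hzs : Commute z s := hkx.pow_left j
      have hzsZ : z = D.t ∨ z = s ∨ z = D.t * s := by
        rcases hCLs z hzt hzs with h | h | h | h
        · exact absurd (eq_one_of_mem_Z D h hz2) hz1
        · left
          have h0 := eq_one_of_mem_Z D h (by rw [hzt.mul_mul_mul_comm, htt, hz2, one_mul])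
          rw [eq_inv_of_mul_eq_one_right h0, inv_eq_of_mul_eq_one_right htt]
        · right; left
          have h0 := eq_one_of_mem_Z D h (by rw [hzs.symm.mul_mul_mul_comm, hz2, hss, one_mul])
          rw [eq_inv_of_mul_eq_one_left h0, inv_eq_of_mul_eq_one_right hss]
        · right; right
          have hc : Commute D.t (z * s) := hzt.symm.mul_right hst.symm
          have h0 := eq_one_of_mem_Z D h (by rw [hc.symm.mul_mul_mul_comm, htt, hzs.symm.mul_mul_mul_comm, hz2, hss, one_mul, one_mul])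
          rw [← mul_assoc] at h0
          have e : D.t * z = s := by rw [eq_inv_of_mul_eq_one_left h0, inv_eq_of_mul_eq_one_right hss]
          rw [← e, ← mul_assoc, htt, one_mul]
      have hzeq : z = s := by
        by_contra hne
        have hkt : Commute (k x) D.t := by
          rcases hzsZ with h | h | h
          · rw [← h]; exact (Commute.self_pow (k x) j)
          · exact absurd h hne
          · have : Commute (k x) (z * s) := (Commute.self_pow (k x) j).mul_right hkx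
            rwa [h, mul_assoc, hss, mul_one] at this
        have hk2 : k x * k x = 1 := by
          rw [hkt.symm.eq, mul_assoc, mul_inv_cancel, mul_one] at hinv
          exact mul_eq_one_iff_eq_inv.2 hinv
        have hk2' : k x ^ 2 = 1 := by rw [pow_two, hk2]
        have hj1 : j = 1 := by
          have := Nat.le_of_dvd (by norm_num) (orderOf_dvd_of_pow_eq_one hk2'); omega
        rw [hz, hj1, pow_one] at hzsZ
        have e0 : x * D.t * x⁻¹ = k x * D.t := by simp only [k, mul_assoc, htt, mul_one]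
        rcases hzsZ with h | h | h
        · rw [h, htt] at e0; exact ne_one D.ht (conj_eq_one_iff.1 e0)
        · rw [hz, hj1, pow_one] at hne; exact hne h
        · rw [h, hst.symm.eq, mul_assoc s, htt, mul_one] at e0; exact hnot x e0
      have hc : Commute (k x) (w : G) := (Z_comm D w.2 _).symm
      refine ⟨hs, Subgroup.mem_zpowers_iff.2 ⟨((3 * j : ℕ) : ℤ), ?_⟩⟩
      rw [zpow_natCast, hc.mul_pow, mul_comm 3 j, pow_mul, ← hz, hzeq, pow_succ, pow_two, hss, one_mul, mul_comm j 3,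
        pow_mul, hw, one_pow, mul_one]
    · have ho : Odd (orderOf (k x)) := Nat.not_even_iff_odd.1 he
      obtain ⟨j, hj⟩ := ho
      have hc : Commute (k x * s) (w : G) := (Z_comm D w.2 _).symm
      refine ⟨hs, Subgroup.mem_zpowers_iff.2 ⟨((3 * (2 * j + 1) : ℕ) : ℤ), ?_⟩⟩
      have h2 : s ^ (3 * (2 * j + 1)) = s := by
        rw [show 3 * (2 * j + 1) = 2 * (3 * j + 1) + 1 by ring, pow_succ, pow_mul, pow_two, hss, one_pow, one_mul]
      rw [zpow_natCast, hc.mul_pow, hkx.mul_pow, h2, pow_mul (w : G) 3, hw, one_pow, mul_one,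
        mul_comm 3, pow_mul, ← hj, pow_orderOf_eq_one, one_pow, one_mul]
  let Y₀ : Finset G := ((Finset.univ.filter fun x => Commute x s) ×ˢ (Finset.univ : Finset D.Z)).image Φ
  have hsame : ∀ a b : G, ∀ v w : G, v ∈ D.Z → w ∈ D.Z → a * a = 1 → b * b = 1 → a * v = b * w → a = b ∧ v = w := by
    intro a b v w hv hw ha hb e
    have h1 := congrArg (fun y => y * y) e
    simp only [(Z_comm D hv a).mul_mul_mul_comm, (Z_comm D hw b).mul_mul_mul_comm, ha, hb, one_mul] at h1
    have hvw : v = w := by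
      have h3v := Z_cube D hv
      have h3w := Z_cube D hw
      rw [pow_succ, pow_two] at h3v h3w
      rw [h1, ← h3w] at h3v
      exact mul_left_cancel h3v
    subst hvw
    exact ⟨mul_right_cancel e, rfl⟩
  have hcjsq : ∀ x : G, x * D.t * x⁻¹ * (x * D.t * x⁻¹) = 1 := fun x => by
    rw [show x * D.t * x⁻¹ * (x * D.t * x⁻¹) = x * (D.t * D.t) * x⁻¹ by group, htt, mul_one, mul_inv_cancel]
  have htc : ∀ w : G, w ∈ D.Z → Commute w D.t := fun w hw => Z_comm D hw _
  have hfib : ∀ y ∈ Y₀, (((Finset.univ.filter fun x => Commute x s) ×ˢ (Finset.univ : Finset D.Z)).filter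
      fun a => Φ a = y).card ≤ 12 := by
    intro y hy
    obtain ⟨⟨x₀, w₀⟩, h₀, rfl⟩ := Finset.mem_image.1 hy
    simp only [Finset.mem_product, Finset.mem_filter, Finset.mem_univ, true_and, and_true] at h₀
    let T : Finset G := ((Finset.univ : Finset D.Z).image fun z : D.Z => (z : G)) ∪
      ((Finset.univ : Finset D.Z).image fun z : D.Z => D.t⁻¹ * (z : G)) ∪
      ((Finset.univ : Finset D.Z).image fun z : D.Z => (z : G) * s⁻¹) ∪
      ((Finset.univ : Finset D.Z).image fun z : D.Z => D.t⁻¹ * (z : G) * s⁻¹)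
    have hZ3 : (Finset.univ : Finset D.Z).card = 3 := by rw [Finset.card_univ, ← Nat.card_eq_fintype_card, D.cardZ]
    have hT : T.card ≤ 12 := by
      refine le_trans (Finset.card_union_le _ _) (le_trans (Nat.add_le_add (le_trans (Finset.card_union_le _ _)
        (Nat.add_le_add (le_trans (Finset.card_union_le _ _) (Nat.add_le_add ?_ ?_)) ?_)) ?_) (le_refl (3 + 3 + 3 + 3)))
      all_goals exact Finset.card_image_le.trans hZ3.le
    have key : ∀ a : G × D.Z, Commute a.1 s → Φ a = Φ (x₀, w₀) →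
        a.2 = w₀ ∧ a.1 * D.t * a.1⁻¹ = x₀ * D.t * x₀⁻¹ := by
      rintro ⟨x, w⟩ (hx : Commute x s) e
      simp only [Φ] at e
      have pull : ∀ x : G, ∀ v : G, v ∈ D.Z → k x * v = (x * D.t * x⁻¹ * v) * D.t := fun x v hv => by
        simp only [k, mul_assoc, (htc v hv).eq]
      have pull' : ∀ x : G, ∀ v : G, v ∈ D.Z → k x * s * v = (x * D.t * x⁻¹ * s * v) * D.t := fun x v hv => by
        simp only [k, mul_assoc]
        rw [← mul_assoc D.t s, hst.symm.eq, mul_assoc, (htc v hv).eq]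
      have hsq : ∀ x : G, Commute x s → (x * D.t * x⁻¹ * s) * (x * D.t * x⁻¹ * s) = 1 := fun x hx => by
        rw [((hx.mul_left hst.symm).mul_left hx.inv_left).symm.mul_mul_mul_comm, hcjsq, hss, one_mul]
      split_ifs at e with he he' he'
      · rw [pull _ _ w.2, pull _ _ w₀.2] at e
        obtain ⟨h1, h2⟩ := hsame _ _ _ _ w.2 w₀.2 (hcjsq _) (hcjsq _) (mul_right_cancel e)
        exact ⟨Subtype.ext h2, h1⟩
      · exfalso
        rw [pull _ _ w.2, pull' _ _ w₀.2] at e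
        obtain ⟨h1, -⟩ := hsame _ _ _ _ w.2 w₀.2 (hcjsq _) (hsq _ h₀) (mul_right_cancel e)
        refine hnot' (x₀⁻¹ * x) ?_
        rw [show x₀⁻¹ * x * D.t * (x₀⁻¹ * x)⁻¹ = x₀⁻¹ * (x * D.t * x⁻¹) * x₀ by group, h1,
          show x₀⁻¹ * (x₀ * D.t * x₀⁻¹ * s) * x₀ = D.t * (x₀⁻¹ * (s * x₀)) by group, h₀.symm.eq, inv_mul_cancel_left]
      · exfalso
        rw [pull' _ _ w.2, pull _ _ w₀.2] at e
        obtain ⟨h1, -⟩ := hsame _ _ _ _ w.2 w₀.2 (hsq _ hx) (hcjsq _) (mul_right_cancel e)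
        refine hnot' (x⁻¹ * x₀) ?_
        rw [show x⁻¹ * x₀ * D.t * (x⁻¹ * x₀)⁻¹ = x⁻¹ * (x₀ * D.t * x₀⁻¹) * x by group, ← h1,
          show x⁻¹ * (x * D.t * x⁻¹ * s) * x = D.t * (x⁻¹ * (s * x)) by group, hx.symm.eq, inv_mul_cancel_left]
      · rw [pull' _ _ w.2, pull' _ _ w₀.2, mul_assoc (x * D.t * x⁻¹) s, mul_assoc (x₀ * D.t * x₀⁻¹) s,
          ← (Z_comm D w.2 s).eq, ← (Z_comm D w₀.2 s).eq, ← mul_assoc (x * D.t * x⁻¹), ← mul_assoc (x₀ * D.t * x₀⁻¹)] at e
        obtain ⟨h1, h2⟩ := hsame _ _ _ _ w.2 w₀.2 (hcjsq _) (hcjsq _) (mul_right_cancel (mul_right_cancel e))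
        exact ⟨Subtype.ext h2, h1⟩
    refine le_trans (Finset.card_le_card_of_injOn (fun a => x₀⁻¹ * a.1) ?_ ?_) hT
    · intro a ha
      simp only [Finset.coe_filter, Set.mem_setOf_eq, Finset.mem_product, Finset.mem_filter, Finset.mem_univ, true_and, and_true] at ha
      obtain ⟨-, he⟩ := key a ha.1 ha.2
      have h1 : Commute (x₀⁻¹ * a.1) D.t := by
        refine mul_inv_eq_iff_eq_mul.1 ?_
        rw [show x₀⁻¹ * a.1 * D.t * (x₀⁻¹ * a.1)⁻¹ = x₀⁻¹ * (a.1 * D.t * a.1⁻¹) * x₀ by group, he]; group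
      simp only [T, Finset.coe_union, Finset.coe_image, Finset.coe_univ, Set.image_univ, Set.mem_union, Set.mem_range]
      rcases hCLs _ h1 (h₀.inv_left.mul_left ha.1) with h | h | h | h
      · exact Or.inl (Or.inl (Or.inl ⟨⟨_, h⟩, rfl⟩))
      · exact Or.inl (Or.inl (Or.inr ⟨⟨_, h⟩, by simp⟩))
      · exact Or.inl (Or.inr ⟨⟨_, h⟩, by simp⟩)
      · exact Or.inr ⟨⟨_, h⟩, by simp [mul_assoc]⟩
    · intro a ha b hb e
      simp only [Finset.coe_filter, Set.mem_setOf_eq] at ha hb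
      exact Prod.ext (mul_left_cancel e) ((key a (by simpa using ha.1) ha.2).1.trans (key b (by simpa using hb.1) hb.2).1.symm)
  set c := (Finset.univ.filter fun x : G => Commute x s).card with hc
  have hY₀ : 3 * c ≤ 12 * Y₀.card := by
    have := Finset.card_le_mul_card_image
      ((Finset.univ.filter fun x => Commute x s) ×ˢ (Finset.univ : Finset D.Z)) 12 hfib
    rwa [Finset.card_product, Finset.card_univ, ← Nat.card_eq_fintype_card, D.cardZ, ← hc, mul_comm c 3] at this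
  let Y : Finset G := ((Finset.univ : Finset G) ×ˢ Y₀).image fun a => a.1 * a.2 * a.1⁻¹
  have hY₀pw : ∀ y ∈ Y₀, Pw y s := fun y hy => by
    obtain ⟨a, ha, rfl⟩ := Finset.mem_image.1 hy
    simp only [Finset.mem_product, Finset.mem_filter, Finset.mem_univ, true_and, and_true] at ha
    exact hΦ a ha
  have hY : Fintype.card G * Y₀.card ≤ c * Y.card := by
    have := Finset.card_le_mul_card_image (f := fun a : G × G => a.1 * a.2 * a.1⁻¹)
      ((Finset.univ : Finset G) ×ˢ Y₀) c ?_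
    · rwa [Finset.card_product, Finset.card_univ] at this
    intro y hy
    obtain ⟨⟨g₀, y₀⟩, h₀, rfl⟩ := Finset.mem_image.1 hy
    simp only [Finset.mem_product, Finset.mem_univ, true_and] at h₀
    rw [hc]
    refine Finset.card_le_card_of_injOn (fun a => g₀⁻¹ * a.1) ?_ ?_
    · intro a ha
      simp only [Finset.coe_filter, Set.mem_setOf_eq, Finset.mem_product, Finset.mem_univ, true_and] at ha ⊢
      refine mul_inv_eq_iff_eq_mul.1 (((hY₀pw _ ha.1).conj (g₀⁻¹ * a.1)).unique ?_)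
      rw [show g₀⁻¹ * a.1 * a.2 * (g₀⁻¹ * a.1)⁻¹ = g₀⁻¹ * (a.1 * a.2 * a.1⁻¹) * g₀ by group, ha.2]
      simpa [mul_assoc] using hY₀pw _ h₀
    · intro a ha b hb e
      simp only [Finset.coe_filter, Set.mem_setOf_eq] at ha hb
      have e1 : a.1 = b.1 := mul_left_cancel e
      refine Prod.ext e1 ?_
      have := ha.2.trans hb.2.symm
      rw [e1] at this
      exact mul_left_cancel (mul_right_cancel this)
  have hYp : ∀ y ∈ (Y : Set G), ∃ g, Pw y (g * s * g⁻¹) := fun y hy => by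
    obtain ⟨⟨g, x⟩, hx, rfl⟩ := Finset.mem_image.1 hy
    exact ⟨g, (hY₀pw x (Finset.mem_product.1 hx).2).conj g⟩
  have hYZ : ∀ y ∈ (Y : Set G), y ∉ D.Z := by
    intro y hy hz
    obtain ⟨g, hg⟩ := hYp y hy
    obtain ⟨i, hi⟩ := Subgroup.mem_zpowers_iff.1 hg.2
    have hzz : g * s * g⁻¹ ∈ D.Z := hi ▸ zpow_mem hz i
    exact ne_one hg.1 (eq_one_of_mem_Z D hzz (sq_one hg.1))
  have hY1 : ∀ y ∈ (Y : Set G), y ∉ sat (S₁ D) := by
    intro y hy hsat
    obtain ⟨g, hg⟩ := hYp y hy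
    obtain ⟨h, x, hx, rfl⟩ := hsat
    have hp' := hg.conj h⁻¹
    rw [show h⁻¹ * (h * x * h⁻¹) * h⁻¹⁻¹ = x by group,
      show h⁻¹ * (g * s * g⁻¹) * h⁻¹⁻¹ = h⁻¹ * g * s * (h⁻¹ * g)⁻¹ by group] at hp'
    have et : h⁻¹ * g * s * (h⁻¹ * g)⁻¹ = D.t := by
      rcases S₁_invol D hx hp'.1 (hp'.commute (Commute.refl x)).symm with e | e
      · exact e
      · exact hp'.unique (pw_of_tZ D e)
    exact hno (isConj_iff.2 ⟨_, et⟩)
  have hY2 : ∀ y ∈ (Y : Set G), y ∉ sat (S₂ D) := by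
    intro y hy
    obtain ⟨g, hg⟩ := hYp y hy
    exact not_sat₂ D hg.1 (hg.commute (Commute.refl y)).symm
  obtain ⟨hle, -⟩ := main_bound D (Y : Set G) hYZ hY1 hY2
  rw [Nat.card_coe_set_eq (Y : Set G), Set.ncard_coe_finset, Nat.card_eq_fintype_card (α := G)] at hle
  have e1 := card_sat₁ D
  have e2 := card_sat₂ D
  rw [Nat.card_eq_fintype_card (α := G)] at e1 e2
  have hcpos : 0 < c := hc ▸ Finset.card_pos.2 ⟨1, by simp⟩
  have h4Y : Fintype.card G ≤ 4 * Y.card := by
    apply Nat.le_of_mul_le_mul_left (c := 3 * c) (hc := by omega)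
    calc 3 * c * Fintype.card G ≤ 12 * Y₀.card * Fintype.card G := Nat.mul_le_mul_right _ hY₀
      _ = 12 * (Fintype.card G * Y₀.card) := by ring
      _ ≤ 12 * (c * Y.card) := Nat.mul_le_mul_left _ hY
      _ = 3 * c * (4 * Y.card) := by ring
  obtain ⟨j, hj⟩ := D.four
  have hj0 : 0 < j := by
    rcases Nat.eq_zero_or_pos j with rfl | h
    · have h0 : 0 < 6 * D.m := D.cardC ▸ Nat.card_pos
      omega
    · exact h
  have hG : 0 < Fintype.card G := Fintype.card_pos
  nlinarith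

end CountData

end Cfsg.Agent.Forms.Max.SL3.SympType
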