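import Cfsg.Agent.Lib.Forms.Max.SL3.SympType.Norm
import Cfsg.Agent.Lib.Forms.Max.SympNine.ThreeBase

/-!
# A group containing the normaliser and no transvection is the normaliser, `p` one modulo 9
-/

set_option autoImplicit false
set_option linter.unusedSectionVars false
set_option linter.style.haveILetI false

namespace Cfsg.Agent.Forms.Max.SL3.SympType

open Matrix
open Cfsg.Agent.Forms.Max.SympNine (Rich Nrm Sym Acts wm tm tv)
open Cfsg.Agent.Forms.Max.SympNine.Three (m3 ext3 eta m3_mul m3_smul one_eq forall_zmod sum_zmod)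

variable {F : Type*} [Field F] [Fintype F] {H : Subgroup (GL (Fin 3) F)} {p : ℕ} {ω : F}

local notation "M3" => Matrix (Fin 3) (Fin 3) F
local notation "Z3" => Matrix (ZMod 3) (ZMod 3) F
local notation "GL3" => GL (Fin 3) F
local notation "L3" => ZMod 3 × ZMod 3

/-- the same matrix, indexed by the integers modulo three -/
def tz (M : Matrix (Fin 3) (Fin 3) F) : Matrix (ZMod 3) (ZMod 3) F :=
  m3 (M 0 0) (M 0 1) (M 0 2) (M 1 0) (M 1 1) (M 1 2) (M 2 0) (M 2 1) (M 2 2)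

theorem tz_mul (M N : M3) : tz (M * N) = tz M * tz N := by
  rw [tz, tz, tz, m3_mul]
  simp only [Matrix.mul_apply, Fin.sum_univ_three]

theorem tz_one : tz (1 : M3) = 1 := by
  rw [one_eq, tz]; simp

theorem tz_smul (c : F) (M : M3) : tz (c • M) = c • tz M := by
  rw [tz, tz, m3_smul]; rfl

theorem tz_inj {M N : M3} (e : tz M = tz N) : M = N := by
  have f := fun i j : ZMod 3 => congrFun (congrFun e i) j
  ext i j
  fin_cases i <;> fin_cases j
  · simpa [tz] using f 0 0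
  · simpa [tz] using f 0 1
  · simpa [tz] using f 0 2
  · simpa [tz] using f 1 0
  · simpa [tz] using f 1 1
  · simpa [tz] using f 1 2
  · simpa [tz] using f 2 0
  · simpa [tz] using f 2 1
  · simpa [tz] using f 2 2

/-- the group times all scalars -/
def scal (H : Subgroup (GL (Fin 3) F)) : Subgroup (GL (ZMod 3) F) where
  carrier := {g | ∃ c : F, c ≠ 0 ∧ ∃ h ∈ H, (g : Matrix (ZMod 3) (ZMod 3) F) = c • tz (h : Matrix (Fin 3) (Fin 3) F)}
  one_mem' := ⟨1, one_ne_zero, 1, one_mem H, by simp [tz_one]⟩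
  mul_mem' := by
    rintro g g' ⟨c, hc, h, hh, e⟩ ⟨c', hc', h', hh', e'⟩
    refine ⟨c * c', mul_ne_zero hc hc', h * h', mul_mem hh hh', ?_⟩
    rw [Units.val_mul, Units.val_mul, tz_mul, e, e', Matrix.smul_mul, Matrix.mul_smul, smul_smul]
  inv_mem' := by
    rintro g ⟨c, hc, h, hh, e⟩
    refine ⟨c⁻¹, inv_ne_zero hc, h⁻¹, inv_mem hh, ?_⟩
    refine Units.inv_eq_of_mul_eq_one_right ?_
    rw [e, Matrix.smul_mul, Matrix.mul_smul, smul_smul, mul_inv_cancel₀ hc, one_smul, ← tz_mul, ← Units.val_mul,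
      mul_inv_cancel, Units.val_one, tz_one]

theorem mem_scal {g : GL (ZMod 3) F} :
    g ∈ scal H ↔ ∃ c : F, c ≠ 0 ∧ ∃ h ∈ H, (g : Z3) = c • tz (h : M3) := Iff.rfl

theorem tm_conj {g : Z3} {σ : L3 → L3} (hg : Acts ω g σ) (hσ : Sym σ) (v : L3) :
    g * tm ω ω v = tm ω ω (σ v) * g := by
  have h0 : σ 0 = 0 := by
    have := hσ.add 0 0
    rw [add_zero] at this
    exact left_eq_add.1 this
  have hneg : σ (-v) = -σ v := eq_neg_of_add_eq_zero_left (by rw [← hσ.add, neg_add_cancel, h0])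
  simp only [tm, Matrix.mul_add, Matrix.add_mul, Matrix.mul_smul, Matrix.smul_mul, Matrix.mul_one, Matrix.one_mul,
    hg v, hg (-v), hneg]

theorem tm_neg (v : L3) : tm ω ω (-v) = (tm ω ω v : Z3) := by
  simp only [tm, neg_neg]
  congr 2
  abel

/-- the linear ambient data -/
def amb (h : Amb H p ω) : SympNine.Amb F :=
  { p := p, prime := h.prime, ω := ω, unit := False, cube := ⟨h.root, h.three⟩
    card := Or.inl ⟨not_false, h.card, h.mod3⟩ }

theorem mk_scal {M : M3} (c : F) (hM : Mem H M) (hc : c ≠ 0) : ∃ g ∈ scal H, (g : Z3) = c • tz M := by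
  obtain ⟨m, hm, rfl⟩ := hM
  let n : GL (ZMod 3) F := ⟨c • tz (m : M3), c⁻¹ • tz ((m⁻¹ : GL3) : M3),
    by rw [Matrix.smul_mul, Matrix.mul_smul, smul_smul, mul_inv_cancel₀ hc, one_smul, ← tz_mul, ← Units.val_mul,
      mul_inv_cancel, Units.val_one, tz_one],
    by rw [Matrix.smul_mul, Matrix.mul_smul, smul_smul, inv_mul_cancel₀ hc, one_smul, ← tz_mul, ← Units.val_mul,
      inv_mul_cancel, Units.val_one, tz_one]⟩
  exact ⟨n, ⟨c, hc, m, hm, rfl⟩, rfl⟩

theorem tz_xM : tz (xM ω) = wm ω ((0, 1) : L3) := by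
  rw [SympNine.Three.wm01, SympNine.Three.blk]
  apply ext3 <;> simp [tz, xM, dg]

theorem tz_yM : tz (yM : M3) = wm ω ((1, 0) : L3) := by
  rw [SympNine.Three.wm_three]
  apply ext3 <;> simp [tz, yM, show (2 : ZMod 3) + 1 = 0 by decide, show (1 : ZMod 3) + 1 = 2 by decide,
    show (0 : ZMod 3) ≠ 1 by decide, show (0 : ZMod 3) ≠ 2 by decide, show (1 : ZMod 3) ≠ 2 by decide,
    show (2 : ZMod 3) ≠ 0 by decide, show (2 : ZMod 3) ≠ 1 by decide]

theorem wm_eq_tz (h : Amb H p ω) :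
    ∀ v : L3, ∃ c : F, c ≠ 0 ∧
    wm ω v = c • tz (xM ω ^ v.2.val * (yM : M3) ^ v.1.val) := by
  have h3 := h.cube
  have hω0 := h.root_ne_zero
  intro v
  have hpow : ∀ (u : L3) (M : M3) (n : ℕ), tz M = wm ω u → tz (M ^ n) = wm ω (n • u) := by
    intro u M n e
    induction n with
    | zero => simp [tz_one]
    | succ n ih =>
      rw [pow_succ, tz_mul, ih, e, SympNine.wm_mul h3, succ_nsmul]
      simp [SympNine.sf, SympNine.Dot.dot, Prod.smul_fst, Prod.smul_snd, nsmul_eq_mul, mul_comm, mul_left_comm]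
  have e : wm ω v = (ω ^ (SympNine.sf (v.2.val • ((0, 1) : L3)) (v.1.val • ((1, 0) : L3))).val)⁻¹ •
      tz (xM ω ^ v.2.val * (yM : M3) ^ v.1.val) := by
    rw [tz_mul, hpow _ _ _ tz_xM, hpow _ _ _ tz_yM, SympNine.wm_mul h3, smul_smul,
      inv_mul_cancel₀ (pow_ne_zero _ hω0), one_smul]
    congr 1
    ext <;> simp [nsmul_eq_mul, ZMod.natCast_zmod_val]
  exact ⟨_, inv_ne_zero (pow_ne_zero _ hω0), e⟩

/-- the standard elements and the scalars form a rich group -/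
theorem rich (h : Amb H p ω) (hD : ∃ c : F, c ^ 3 * ω = 1 ∧ Mem H (c • dg ω 1 1)) :
    Rich (amb h) (scal H) := by
  have hr := h.root
  have h3 := h.cube
  have hω0 := h.root_ne_zero
  have hc3 : SympNine.Cube F ω := ⟨h.root, h.three⟩
  have wu : ∀ v : L3, ∃ c : F, ∃ g ∈ scal H, (g : Z3) = c • wm ω v := by
    intro v
    obtain ⟨c, hc, e⟩ := wm_eq_tz h v
    obtain ⟨g, hg, eg⟩ := mk_scal c ((h.memX.pow v.2.val).mul (h.memY.pow v.1.val)) hc
    exact ⟨1, g, hg, by rw [one_smul, e, eg]⟩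
  -- the transvection elements
  obtain ⟨c, hc, hcD⟩ := hD
  have hc0 : c ≠ 0 := fun e => by simp [e] at hc
  obtain ⟨d, hd, ed⟩ : ∃ g ∈ scal H, (g : Z3) = tm ω ω ((0, 1) : L3) := by
    obtain ⟨g, hg, eg⟩ := mk_scal (ω * (c * c)⁻¹) (hcD.mul hcD) (mul_ne_zero hω0 (inv_ne_zero (mul_ne_zero hc0 hc0)))
    refine ⟨g, hg, ?_⟩
    rw [eg, Matrix.smul_mul, Matrix.mul_smul, smul_smul, tz_smul, smul_smul, mul_assoc,
      inv_mul_cancel₀ (mul_ne_zero hc0 hc0), mul_one, dg_mul,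
      SympNine.Three.tm01 hc3]
    apply ext3 <;> simp [tz, dg]
    linear_combination h3
  obtain ⟨f, hf, ef⟩ : ∃ g ∈ scal H, (g : Z3) = SympNine.Three.dft ω := by
    obtain ⟨g, hg, eg⟩ := mk_scal 1 h.memF one_ne_zero
    refine ⟨g, hg, ?_⟩
    rw [eg, one_smul, SympNine.Three.dft, m3_smul]
    have hs : sr ω = (2 * ω + 1)⁻¹ := by
      rw [sr]; congr 1; linear_combination -hr
    apply ext3 <;> simp [tz, fM, hs]
  have conj : ∀ {g : GL (ZMod 3) F} {σ : L3 → L3}, g ∈ scal H → Acts ω (g : Z3) σ → Sym σ → ∀ v : L3,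
      (∃ k ∈ scal H, (k : Z3) = tm ω ω v) → ∃ k ∈ scal H, (k : Z3) = tm ω ω (σ v) := by
    rintro g σ hg hact hσ v ⟨k, hk, ek⟩
    refine ⟨g * k * g⁻¹, mul_mem (mul_mem hg hk) (inv_mem hg), ?_⟩
    rw [Units.val_mul, Units.val_mul, ek, tm_conj hact hσ, Matrix.mul_assoc, Units.mul_inv, Matrix.mul_one]
  have sd : Sym (tv ((0, 1) : L3)) := SympNine.tvc_one (X := ZMod 3) (0, 1) ▸ SympNine.sym_tvc 1 _
  have ad : Acts ω (d : Z3) (tv ((0, 1) : L3)) := ed ▸ SympNine.tm_wm hc3 _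
  have af : Acts ω (f : Z3) (fun v : L3 => (-v.2, v.1)) := ef ▸ SympNine.Three.dft_acts hc3
  have t01 : ∃ k ∈ scal H, (k : Z3) = tm ω ω ((0, 1) : L3) := ⟨d, hd, ed⟩
  have hrot : Sym (fun v : L3 => (-v.2, v.1)) := SympNine.Three.sym_rot
  have t10 : ∃ k ∈ scal H, (k : Z3) = tm ω ω ((1, 0) : L3) := by
    obtain ⟨k, hk, ek⟩ := conj (σ := fun v : L3 => (-v.2, v.1)) hf af hrot ((0, 1) : L3) t01
    have e : ((1, 0) : L3) = -(-((0, 1) : L3).2, ((0, 1) : L3).1) := by decide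
    exact ⟨k, hk, by rw [ek, e, tm_neg]⟩
  have ta : ∃ k ∈ scal H, (k : Z3) = tm ω ω (tv ((0, 1) : L3) ((1, 0) : L3)) := conj hd ad sd _ t10
  have tb := conj (σ := fun v : L3 => (-v.2, v.1)) hf af hrot _ ta
  have hall : ∀ v : L3, v = 0 ∨ v = (0, 1) ∨ v = -(0, 1) ∨ v = (1, 0) ∨ v = -(1, 0) ∨
      v = tv ((0, 1) : L3) (1, 0) ∨ v = -tv ((0, 1) : L3) (1, 0) ∨
      v = (-(tv ((0, 1) : L3) (1, 0)).2, (tv ((0, 1) : L3) (1, 0)).1) ∨
      v = -(-(tv ((0, 1) : L3) (1, 0)).2, (tv ((0, 1) : L3) (1, 0)).1) := by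
    unfold tv SympNine.sc SympNine.sf SympNine.Dot.dot
    decide +kernel
  have tall : ∀ v : L3, ∃ k ∈ scal H, (k : Z3) = tm ω ω v := by
    intro v
    have neg : ∀ w : L3, (∃ k ∈ scal H, (k : Z3) = tm ω ω w) → ∃ k ∈ scal H, (k : Z3) = tm ω ω (-w) :=
      fun w ⟨k, hk, ek⟩ => ⟨k, hk, by rw [ek, tm_neg]⟩
    rcases hall v with e | e | e | e | e | e | e | e | e <;> subst e
    · refine ⟨1, one_mem _, ?_⟩
      rw [Units.val_one, tm, neg_zero, SympNine.wm_zero, show (1 + 1 + 1 : Z3) = (3 : F) • 1 by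
        rw [show (3 : F) = 1 + 1 + 1 by norm_num, add_smul, add_smul, one_smul], smul_smul,
        div_mul_cancel₀ _ h.three, ← add_smul, add_sub_cancel, one_smul]
    · exact t01
    · exact neg _ t01
    · exact t10
    · exact neg _ t10
    · exact ta
    · exact neg _ ta
    · exact tb
    · exact neg _ tb
  exact
    { le := fun g _ hu => hu.elim
      wu := wu
      tu := fun v => by
        obtain ⟨k, hk, ek⟩ := tall v
        exact ⟨1, k, hk, by rw [one_smul]; exact ek⟩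
      sg := fun e he => ⟨e, he.1, 1, one_mem H, by simp [tz_one]⟩ }

/-- **`p ≡ 1 mod 9`: no transvections, so the group normalises the extraspecial group.** -/
theorem normalises_nine (h : Amb H p ω) (hD : ∃ c : F, c ^ 3 * ω = 1 ∧ Mem H (c • dg ω 1 1)) :
    ∀ g ∈ H, Nrm0 ω g := by
  classical
  rcases SympNine.Three.base (A := amb h) (show (amb h).p ≠ 2 from h.two_ne) (rich h hD) with hN | hP
  · intro g hg
    obtain ⟨n, hn, en⟩ := mk_scal 1 ⟨g, hg, rfl⟩ one_ne_zero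
    rw [one_smul] at en
    have key : ∀ (M : M3) (v : L3), M.det = 1 → tz M = wm ω v →
        ∃ N, IsR0 ω N ∧ (g : M3) * M = N * (g : M3) := by
      intro M v hM hv
      obtain ⟨w, e, he⟩ := hN n hn v
      obtain ⟨a, -, ha⟩ := wm_eq_tz h w
      have he' : tz ((g : M3) * M) = tz ((e * a) • ((xM ω ^ w.2.val * yM ^ w.1.val) * (g : M3))) := by
        rw [tz_mul, tz_smul, tz_mul, hv, ← en]
        change (n : Z3) * wm ω v = _
        have he2 : (n : Z3) * wm ω v = e • (wm ω w * (n : Z3)) := he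
        rw [he2, ha, Matrix.smul_mul, smul_smul]
      have e1 := tz_inj he'
      have hdet := congrArg Matrix.det e1
      have hg1 : (g : M3).det = 1 := h.det_eq ⟨g, hg, rfl⟩
      rw [Matrix.det_smul, Matrix.det_mul, Matrix.det_mul, Matrix.det_mul, Matrix.det_pow, Matrix.det_pow, hM, hg1,
        h.det_eq h.memX, h.det_eq h.memY, one_pow, one_pow, mul_one, mul_one, mul_one, Fintype.card_fin] at hdet
      obtain ⟨i, -, hi⟩ := h.eq_pow_of_cube hdet.symm
      exact ⟨_, h.isR0_of i w.2.val w.1.val, by rw [e1, hi, Matrix.smul_mul]⟩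
    exact ⟨key _ _ (h.det_eq h.memX) tz_xM, key _ _ (h.det_eq h.memY) tz_yM⟩
  · exfalso
    let Y : SympNine.Three.PL (amb h) :=
      ⟨⟨!![1, 1; 0, 1], by simp [Matrix.det_fin_two]⟩, fun hu => hu.elim⟩
    obtain ⟨n, ⟨a, ha, m, hm, em⟩, en⟩ := hP Y
    have hT : tz (1 + vecMulVec ![0, 1, 0] ![0, 0, 1] : M3) =
        SympNine.Three.blk 1 !![(1 : F), 1; 0, 1] := by
      rw [SympNine.Three.blk]
      apply ext3 <;> simp [tz, Matrix.vecMulVec_apply]
    have e1 : (1 + vecMulVec ![0, 1, 0] ![0, 0, 1] : M3) = a • (m : M3) := by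
      apply tz_inj
      rw [tz_smul, ← em, en, hT]
    have hd := congrArg Matrix.det e1
    rw [Matrix.det_smul, Fintype.card_fin, h.det_eq ⟨m, hm, rfl⟩, mul_one,
      show (1 + vecMulVec ![0, 1, 0] ![0, 0, 1] : M3).det = 1 by
        rw [Matrix.det_fin_three]; simp [Matrix.vecMulVec_apply]] at hd
    obtain ⟨i, -, hi⟩ := h.eq_pow_of_cube hd.symm
    have hmem : Mem H (1 + vecMulVec ![0, 1, 0] ![0, 0, 1] : M3) := by
      have := (h.mem_omega.pow i).mul (show Mem H (m : M3) from ⟨m, hm, rfl⟩)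
      rwa [smul_pow, one_pow, Matrix.smul_mul, one_mul, ← hi, ← e1] at this
    rcases h.noTr.eq_zero hmem (by simp [dotProduct, Fin.sum_univ_three]) with e | e
    · simpa using congrFun e 1
    · simpa using congrFun e 2

end Cfsg.Agent.Forms.Max.SL3.SympType
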