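import Cfsg.Agent.Lib.Forms.Max.SL3.SympType.Norm
import Cfsg.Agent.Lib.Forms.Max.SL3.Elation

/-!
# Reduction of the symplectic-type conjunct to the standard extraspecial group
-/

set_option autoImplicit false
set_option linter.unusedSectionVars false
set_option linter.style.haveILetI false

namespace Cfsg.Agent.Forms.Max.SL3.SympType

open Matrix
open Cfsg.Agent.Forms.Max.SL3.Singer

variable {F : Type*} [Field F] [Fintype F]

local notation "M3" => Matrix (Fin 3) (Fin 3) F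
local notation "GL3" => GL (Fin 3) F
local notation "Vec" => (Fin 3 → F)

theorem mem_sl {g : GL3} : g ∈ Cfsg.Geo.specialLinear (Fin 3) F ↔ (g : M3).det = 1 :=
  Cfsg.Agent.Aschbacher.mem_specialLinear

theorem root_pow_inj {ω : F} (hω : ω ^ 2 + ω + 1 = 0) (h1 : ω ≠ 1) {i j : Fin 3}
    (e : ω ^ (i : ℕ) = ω ^ (j : ℕ)) : i = j := by
  have h3 : ω ^ 3 = 1 := by linear_combination (ω - 1) * hω
  have h0 : ω ≠ 0 := fun e => by simp [e] at h3
  have h2 : ω ^ 2 ≠ 1 := fun e => h1 (by linear_combination h3 - ω * e)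
  fin_cases i <;> fin_cases j <;> simp at e ⊢
  all_goals grind

/-- the entries of the members of the extraspecial group -/
theorem r0_entry (ω : F) (i j k r c : Fin 3) :
    (ω ^ (i : ℕ) • (xM ω ^ (j : ℕ) * yM ^ (k : ℕ)) : M3) r c =
      if r = c + k then ω ^ (i : ℕ) * (ω ^ (r : ℕ)) ^ (j : ℕ) else 0 := by
  rw [xM_pow]
  fin_cases k <;> fin_cases r <;> fin_cases c <;>
    simp [dg, yM, pow_succ, Matrix.mul_apply, Fin.sum_univ_three]

theorem r0_inj {ω : F} (hω : ω ^ 2 + ω + 1 = 0) (h1 : ω ≠ 1) {i j k i' j' k' : Fin 3}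
    (e : (ω ^ (i : ℕ) • (xM ω ^ (j : ℕ) * yM ^ (k : ℕ)) : M3) = ω ^ (i' : ℕ) • (xM ω ^ (j' : ℕ) * yM ^ (k' : ℕ))) :
    i = i' ∧ j = j' ∧ k = k' := by
  have h0 : ω ≠ 0 := fun e => by simp [e] at hω
  have ek : k = k' := by
    have := congrFun (congrFun e k) 0
    rw [r0_entry, r0_entry, zero_add, zero_add, if_pos rfl] at this
    by_contra hne
    rw [if_neg hne] at this
    exact mul_ne_zero (pow_ne_zero _ h0) (pow_ne_zero _ (pow_ne_zero _ h0)) this
  subst ek
  have e0 := congrFun (congrFun e 0) (0 - k)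
  rw [r0_entry, r0_entry, sub_add_cancel, if_pos rfl, if_pos rfl] at e0
  simp only [Fin.val_zero, pow_zero, one_pow, mul_one] at e0
  have ei := root_pow_inj hω h1 e0
  subst ei
  have e1 := congrFun (congrFun e 1) (1 - k)
  rw [r0_entry, r0_entry, sub_add_cancel, if_pos rfl, if_pos rfl] at e1
  simp only [Fin.val_one, pow_one] at e1
  exact ⟨rfl, root_pow_inj hω h1 (mul_left_cancel₀ (pow_ne_zero _ h0) e1), rfl⟩

set_option maxHeartbeats 2000000 in
/-- the standard form of the symplectic-type group -/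
theorem exists_std {p : ℕ} {R : Subgroup GL3} (hp : p.Prime) (hc : Fintype.card F = p) (h3 : p % 3 = 1)
    (hR : Cfsg.Geo.IsLinearSymplecticTypeData 3 R) :
    ∃ (P : GL3) (ω : F), ω ^ 2 + ω + 1 = 0 ∧ ω ≠ 1 ∧
      ∀ x : GL3, x ∈ R ↔ IsR0 ω ((P⁻¹ * x * P : GL3) : M3) := by
  classical
  haveI : Fact p.Prime := ⟨hp⟩
  haveI := Fintype.ofFinite GL3
  haveI : Fact (Nat.Prime 3) := ⟨Nat.prime_three⟩
  haveI : CharP F p := charP_of_card_eq_prime (by rw [hc])
  have three : (3 : F) ≠ 0 := fun e => by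
    have := (CharP.cast_eq_zero_iff F p 3).1 (by exact_mod_cast e)
    rw [(Nat.prime_dvd_prime_iff_eq hp Nat.prime_three).1 this] at h3
    omega
  obtain ⟨hS, habs, p', e', -, -, hor⟩ := hR
  obtain ⟨-, -, hZ, m, hm, hcard⟩ : Odd 3 ∧ Odd e' ∧ Nat.card (Subgroup.center R) = 3 ∧
      ∃ m : ℕ, 1 ≤ m ∧ Nat.card R = 3 ^ (1 + 2 * m) := by
    rcases hor with h | ⟨h, -⟩ | ⟨h, -⟩
    · exact h
    · omega
    · omega
  have hexp : ∀ x ∈ R, x ^ 3 = 1 := fun x hx => by
    have h1 := Monoid.pow_exponent_eq_one (⟨x, hx⟩ : R)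
    rw [hS.exponent_eq, show (3 : ℕ) * Nat.gcd 2 3 = 3 from rfl] at h1
    exact congrArg Subtype.val h1
  have hscal : ∀ u : R, u ∈ Subgroup.center R → ∃ ν : F, ν ^ 3 = 1 ∧ ((u : GL3) : M3) = ν • 1 := fun u hu => by
    obtain ⟨ν, hν⟩ := habs.2 ((u : GL3) : M3) (by
      rintro _ ⟨s, hs, rfl⟩
      exact congrArg Units.val (congrArg (fun z : R => (z : GL3)) (Subgroup.mem_center_iff.1 hu ⟨s, hs⟩)).symm)
    refine ⟨ν, ?_, hν⟩
    have h1 := congrArg (fun z : GL3 => (z : M3)) (hexp _ u.2)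
    simp only [Units.val_pow_eq_pow_val, Units.val_one, hν, smul_pow, one_pow] at h1
    simpa using congrFun (congrFun h1 0) 0
  -- an element central modulo the centre
  have hq : 1 < Nat.card (R ⧸ Subgroup.center R) := by
    have h := Subgroup.card_eq_card_quotient_mul_card_subgroup (Subgroup.center R)
    rw [hcard, hZ] at h
    by_contra hle
    push Not at hle
    have : 3 ^ (1 + 2 * 1) ≤ 3 ^ (1 + 2 * m) := Nat.pow_le_pow_right (by norm_num) (by omega)
    have hl := Nat.mul_le_mul_right 3 hle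
    omega
  haveI : Nontrivial (R ⧸ Subgroup.center R) := Finite.one_lt_card_iff_nontrivial.1 hq
  haveI := (hS.pGroup.to_quotient (Subgroup.center R)).center_nontrivial
  obtain ⟨⟨a', ha'⟩, hne⟩ := exists_ne (1 : Subgroup.center (R ⧸ Subgroup.center R))
  obtain ⟨a, rfl⟩ := QuotientGroup.mk'_surjective (Subgroup.center R) a'
  have ha : a ∉ Subgroup.center R := fun h => hne (Subtype.ext ((QuotientGroup.eq_one_iff a).2 h))
  have hcomm : ∀ x : R, ∃ ν : F, ν ^ 3 = 1 ∧
      ((a : GL3) : M3) * ((x : GL3) : M3) = ν • (((x : GL3) : M3) * ((a : GL3) : M3)) := fun x => by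
    have hu : (a * x) * (x * a)⁻¹ ∈ Subgroup.center R := by
      rw [← QuotientGroup.eq_one_iff]
      show QuotientGroup.mk' (Subgroup.center R) ((a * x) * (x * a)⁻¹) = 1
      rw [map_mul, map_inv, map_mul, map_mul, Subgroup.mem_center_iff.1 ha' (QuotientGroup.mk' _ x), mul_inv_cancel]
    obtain ⟨ν, hν3, hν⟩ := hscal _ hu
    refine ⟨ν, hν3, ?_⟩
    have h1 : (a : GL3) * x = (((a * x) * (x * a)⁻¹ : R) : GL3) * (x * a) := by
      simp only [Subgroup.coe_mul, Subgroup.coe_inv]; group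
    rw [← Units.val_mul, h1, Units.val_mul, hν, Units.val_mul, Matrix.smul_mul, one_mul]
  obtain ⟨b, hab⟩ : ∃ b : R, a * b ≠ b * a := by
    by_contra hc'
    push Not at hc'
    exact ha (Subgroup.mem_center_iff.2 fun y => (hc' y).symm)
  obtain ⟨ν, hν3, hν⟩ := hcomm b
  have hν1 : ν ≠ 1 := fun e => hab (Subtype.ext (Units.ext (by
    rw [e, one_smul] at hν
    rw [Subgroup.coe_mul, Subgroup.coe_mul, Units.val_mul, Units.val_mul]; exact hν)))
  have hω : ν ^ 2 + ν + 1 = 0 :=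
    (mul_eq_zero.1 (show (ν - 1) * (ν ^ 2 + ν + 1) = 0 by linear_combination hν3)).resolve_left
      (sub_ne_zero.2 hν1)
  set am := ((a : GL3) : M3) with ham
  set bm := ((b : GL3) : M3) with hbm
  have ha3 : ∀ v, am *ᵥ (am *ᵥ (am *ᵥ v)) = v := fun v => by
    rw [Matrix.mulVec_mulVec, Matrix.mulVec_mulVec, ham, ← Units.val_mul, ← Units.val_mul,
      ← pow_three', hexp _ a.2, Units.val_one, Matrix.one_mulVec]
  have hb3 : ∀ v, bm *ᵥ (bm *ᵥ (bm *ᵥ v)) = v := fun v => by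
    rw [Matrix.mulVec_mulVec, Matrix.mulVec_mulVec, hbm, ← Units.val_mul, ← Units.val_mul,
      ← pow_three', hexp _ b.2, Units.val_one, Matrix.one_mulVec]
  obtain ⟨lam, v, hl3, hv0, hav⟩ : ∃ (lam : F) (v : Vec), lam ^ 3 = 1 ∧ v ≠ 0 ∧ am *ᵥ v = lam • v := by
    set e : Vec := Pi.single 0 1 with he
    by_contra hc'
    push Not at hc'
    have h0 : ∀ μ : F, μ ^ 3 = 1 → μ ^ 2 • e + μ • (am *ᵥ e) + am *ᵥ (am *ᵥ e) = 0 := fun μ hμ => by
      by_contra hne
      refine hc' μ _ hμ hne ?_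
      rw [Matrix.mulVec_add, Matrix.mulVec_add, Matrix.mulVec_smul, Matrix.mulVec_smul, ha3]
      funext i
      simp only [Pi.add_apply, Pi.smul_apply, smul_eq_mul]
      linear_combination (-(e i)) * hμ
    have hz : (3 : F) • (am *ᵥ (am *ᵥ e)) = 0 := by
      have e1 := h0 1 (one_pow 3)
      have e2 := h0 ν hν3
      have e3 := h0 (ν ^ 2) (by linear_combination (ν ^ 3 + 1) * hν3)
      funext i
      have f1 := congrFun e1 i
      have f2 := congrFun e2 i
      have f3 := congrFun e3 i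
      simp only [Pi.add_apply, Pi.smul_apply, smul_eq_mul, Pi.zero_apply] at f1 f2 f3 ⊢
      linear_combination f1 + f2 + f3 - (e i * ((ν ^ 2 - ν + 1))) * hω - (am *ᵥ e) i * hω
    have := congrFun (ha3 e) 0
    rw [(smul_eq_zero.1 hz).resolve_left three, Matrix.mulVec_zero, he, Pi.single_eq_same, Pi.zero_apply] at this
    exact zero_ne_one this
  let w : Fin 3 → Vec := ![v, bm *ᵥ v, bm *ᵥ (bm *ᵥ v)]
  let Λ : Fin 3 → F := ![lam, lam * ν, lam * ν ^ 2]
  have hab' : ∀ x, am *ᵥ (bm *ᵥ x) = ν • (bm *ᵥ (am *ᵥ x)) := fun x => by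
    rw [Matrix.mulVec_mulVec, hν, Matrix.smul_mulVec, Matrix.mulVec_mulVec]
  have hwa : ∀ i, am *ᵥ w i = Λ i • w i := by
    intro i
    fin_cases i
    · exact hav
    · show am *ᵥ (bm *ᵥ v) = (lam * ν) • (bm *ᵥ v)
      rw [hab', hav, Matrix.mulVec_smul, smul_smul, mul_comm]
    · show am *ᵥ (bm *ᵥ (bm *ᵥ v)) = (lam * ν ^ 2) • (bm *ᵥ (bm *ᵥ v))
      rw [hab', hab', hav]
      simp only [Matrix.mulVec_smul, smul_smul]
      congr 1; ring
  have hl0 : lam ≠ 0 := fun e => by simp [e] at hl3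
  have hν0 : ν ≠ 0 := fun e => by simp [e] at hν3
  have hΛ : Function.Injective Λ := by
    have h2 : ν * ν ≠ 1 := fun e => hν1 (by linear_combination hν3 - ν * e)
    intro i j hij
    fin_cases i <;> fin_cases j <;> simp [Λ, hl0, hν1, h2, hν0, sq] at hij ⊢
  have hw0 : ∀ i, w i ≠ 0 := by
    intro i
    fin_cases i
    · exact hv0
    · exact fun e => hv0 (by rw [← hb3 v, show bm *ᵥ v = 0 from e, Matrix.mulVec_zero, Matrix.mulVec_zero])
    · exact fun e => hv0 (by rw [← hb3 v, show bm *ᵥ (bm *ᵥ v) = 0 from e, Matrix.mulVec_zero])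
  have hli : LinearIndependent F w :=
    Module.End.eigenvectors_linearIndependent' (Matrix.toLin' am) Λ hΛ w fun i =>
      Module.End.hasEigenvector_iff.2 ⟨Module.End.mem_eigenspace_iff.2 (by rw [Matrix.toLin'_apply]; exact hwa i),
        hw0 i⟩
  let B : M3 := (Matrix.of w)ᵀ
  have hBu : IsUnit B := Matrix.linearIndependent_cols_iff_isUnit.1 hli
  obtain ⟨P, hP⟩ := hBu
  have hA : am * B = B * (lam • xM ν) := by
    ext x i
    show (am *ᵥ w i) x = _
    rw [hwa, Matrix.mul_apply, Fin.sum_univ_three]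
    fin_cases i <;> simp [B, Λ, xM, dg] <;> ring
  have hb : bm * B = B * yM := by
    have hwb : ∀ i, bm *ᵥ w i = w (i + 1) := by
      intro i
      fin_cases i
      · rfl
      · rfl
      · exact hb3 v
    ext x i
    show (bm *ᵥ w i) x = _
    rw [hwb, Matrix.mul_apply, Fin.sum_univ_three]
    fin_cases i <;> simp [B, yM]
  -- the group in the new frame
  set R' : Subgroup GL3 := R.comap (MulAut.conj P).toMonoidHom with hR'
  have memR' : ∀ g, g ∈ R' ↔ P * g * P⁻¹ ∈ R := fun g => Iff.rfl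
  have hexp' : ∀ g ∈ R', g ^ 3 = 1 := fun g hg => by
    have := hexp _ ((memR' g).1 hg)
    rwa [conj_pow, conj_eq_one_iff] at this
  have mA : Mem R' (lam • xM ν) := ⟨P⁻¹ * a * P, (memR' _).2 (by simp [mul_assoc]), by
    rw [Units.val_mul, Units.val_mul, Matrix.mul_assoc, hP, hA, ← hP, Units.inv_mul_cancel_left]⟩
  have mY : Mem R' (yM : M3) := ⟨P⁻¹ * b * P, (memR' _).2 (by simp [mul_assoc]), by
    rw [Units.val_mul, Units.val_mul, Matrix.mul_assoc, hP, hb, ← hP, Units.inv_mul_cancel_left]⟩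
  have mZ : Mem R' (ν • (1 : M3)) := by
    refine ⟨P⁻¹ * ((a * b) * (b * a)⁻¹ : R) * P, (memR' _).2 (by
      rw [show P * (P⁻¹ * (((a * b) * (b * a)⁻¹ : R) : GL3) * P) * P⁻¹ = (((a * b) * (b * a)⁻¹ : R) : GL3) by group]
      exact SetLike.coe_mem _), ?_⟩
    have e : (((a * b) * (b * a)⁻¹ : R) : GL3) = a * b * (b * a : GL3)⁻¹ := by simp
    rw [e, Units.val_mul, Units.val_mul, Units.val_mul, Units.val_mul, ← ham, ← hbm, hν, Matrix.smul_mul,
      ham, hbm, ← Units.val_mul (b : GL3), ← Units.val_mul, mul_inv_cancel, Units.val_one, Matrix.mul_smul,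
      Matrix.mul_one, Matrix.smul_mul, Units.inv_mul]
  have hν2 : ν ^ 2 ≠ 1 := fun e => hν1 (by linear_combination hν3 - ν * e)
  have cube_pow : ∀ y : F, y ^ 3 = 1 → ∃ i : Fin 3, y = ν ^ (i : ℕ) := fun y hy => by
    have e : (y - 1) * ((y - ν) * (y - ν ^ 2)) = 0 := by
      linear_combination hy + (y - y ^ 2 + (ν - 1) * (y - 1)) * hω
    rcases mul_eq_zero.1 e with e | e
    · exact ⟨0, by simpa using sub_eq_zero.1 e⟩
    · rcases mul_eq_zero.1 e with e | e
      · exact ⟨1, by simpa using sub_eq_zero.1 e⟩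
      · exact ⟨2, by simpa using sub_eq_zero.1 e⟩
  have mX : Mem R' (xM ν) := by
    obtain ⟨i, hi⟩ := cube_pow lam hl3
    have := (mZ.pow (2 * (i : ℕ))).mul mA
    rwa [smul_pow, one_pow, Matrix.smul_mul, one_mul, smul_smul, hi, ← pow_add,
      show 2 * (i : ℕ) + i = 3 * i by ring, pow_mul, hν3, one_pow, one_smul] at this
  have hsub : ∀ i j k : Fin 3, Mem R' (ν ^ (i : ℕ) • (xM ν ^ (j : ℕ) * yM ^ (k : ℕ))) := fun i j k => by
    have := (mZ.pow (i : ℕ)).mul ((mX.pow (j : ℕ)).mul (mY.pow (k : ℕ)))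
    rwa [smul_pow, one_pow, Matrix.smul_mul, one_mul] at this
  -- every element is monomial
  have hcov : ∀ g ∈ R', ∃ n a b c : Fin 3,
      (g : M3) = dg (ν ^ (a : ℕ)) (ν ^ (b : ℕ)) (ν ^ (c : ℕ)) * yM ^ (n : ℕ) := by
    intro g hg
    obtain ⟨μ, hμ3, hμ⟩ := hcomm ⟨_, (memR' g).1 hg⟩
    have e : xM ν * (g : M3) = μ • ((g : M3) * xM ν) := by
      have hx : ((P * g * P⁻¹ : GL3) : M3) * B = B * (g : M3) := by
        rw [← hP, Units.val_mul, Units.val_mul, Units.inv_mul_cancel_right]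
      have e1 : B * ((lam • xM ν) * (g : M3)) = B * (μ • ((g : M3) * (lam • xM ν))) := by
        have e2 : am * ((P * g * P⁻¹ : GL3) : M3) * B = μ • (((P * g * P⁻¹ : GL3) : M3) * am) * B :=
          congrArg (fun M => M * B) hμ
        rw [Matrix.mul_assoc, hx, ← Matrix.mul_assoc, hA, Matrix.smul_mul, Matrix.mul_assoc _ am, hA,
          ← Matrix.mul_assoc ((P * g * P⁻¹ : GL3) : M3), hx, Matrix.mul_assoc, Matrix.mul_assoc] at e2
        rw [e2]; simp only [Matrix.mul_smul, Matrix.smul_mul, Matrix.mul_assoc]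
      have e3 : (lam • xM ν) * (g : M3) = μ • ((g : M3) * (lam • xM ν)) := by
        rw [← hP] at e1; exact (Units.mul_right_inj P).1 e1
      rw [Matrix.smul_mul, Matrix.mul_smul, smul_comm μ lam] at e3
      exact smul_right_injective M3 hl0 e3
    obtain ⟨k, rfl⟩ := cube_pow μ hμ3
    have hy : (yM : M3) * yM = !![0, 1, 0; 0, 0, 1; 1, 0, 0] := by
      ext i j
      fin_cases i <;> fin_cases j <;> simp [yM, Matrix.mul_apply, Fin.sum_univ_three]
    have hw2 : ν ≠ ν ^ 2 := fun e => hν1 (mul_left_cancel₀ hν0 (by linear_combination -e))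
    set M := (g : M3)
    have e00 := congrFun (congrFun e 0) 0
    have e01 := congrFun (congrFun e 0) 1
    have e02 := congrFun (congrFun e 0) 2
    have e10 := congrFun (congrFun e 1) 0
    have e11 := congrFun (congrFun e 1) 1
    have e12 := congrFun (congrFun e 1) 2
    have e20 := congrFun (congrFun e 2) 0
    have e21 := congrFun (congrFun e 2) 1
    have e22 := congrFun (congrFun e 2) 2
    simp [xM, dg, Matrix.mul_apply, Fin.sum_univ_three, Matrix.vecMul, dotProduct] at e00 e01 e02 e10 e11 e12 e20 e21 e22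
    obtain ⟨n, a, b, c, hn⟩ : ∃ (n : Fin 3) (a b c : F), M = dg a b c * yM ^ (n : ℕ) := by
      fin_cases k <;> simp at e00 e01 e02 e10 e11 e12 e20 e21 e22
      · refine ⟨0, M 0 0, M 1 1, M 2 2, ?_⟩
        ext i j
        fin_cases i <;> fin_cases j <;> simp [dg]
        all_goals grind
      · refine ⟨1, M 0 2, M 1 0, M 2 1, ?_⟩
        ext i j
        fin_cases i <;> fin_cases j <;> simp [dg, yM, Matrix.mul_apply, Fin.sum_univ_three]
        all_goals grind
      · refine ⟨2, M 0 1, M 1 2, M 2 0, ?_⟩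
        rw [show ((2 : Fin 3) : ℕ) = 2 from rfl, pow_two, hy]
        ext i j
        fin_cases i <;> fin_cases j <;> simp [dg, Matrix.mul_apply, Fin.sum_univ_three]
        all_goals grind
    have hD : Mem R' (dg a b c) := by
      have h1 := (show Mem R' M from ⟨g, hg, rfl⟩).mul (mY.pow (2 * (n : ℕ)))
      rwa [hn, Matrix.mul_assoc, ← pow_add, show (n : ℕ) + 2 * n = 3 * n by ring, pow_mul, yM_pow_three, one_pow,
        mul_one] at h1
    obtain ⟨d, hd, ed⟩ := hD
    have h1 : (d : M3) ^ 3 = 1 := by rw [← Units.val_pow_eq_pow_val, hexp' d hd, Units.val_one]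
    rw [ed, pow_succ, pow_two, dg_mul, dg_mul] at h1
    have ea : a ^ 3 = 1 := by simpa [dg, pow_succ] using congrFun (congrFun h1 0) 0
    have eb : b ^ 3 = 1 := by simpa [dg, pow_succ] using congrFun (congrFun h1 1) 1
    have ec : c ^ 3 = 1 := by simpa [dg, pow_succ] using congrFun (congrFun h1 2) 2
    obtain ⟨i, rfl⟩ := cube_pow a ea
    obtain ⟨j, rfl⟩ := cube_pow b eb
    obtain ⟨l, rfl⟩ := cube_pow c ec
    exact ⟨n, i, j, l, hn⟩
  have hR'card : Nat.card R' = 3 ^ (1 + 2 * m) := by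
    rw [← hcard]
    exact Nat.card_congr (Equiv.subtypeEquiv (MulAut.conj P).toEquiv fun g => Iff.rfl)
  have h27 : Nat.card R' = 27 := by
    choose n a' b' c' hh using fun g : R' => hcov g g.2
    have hle : Nat.card R' ≤ 81 := by
      have hinj : Function.Injective fun g => (n g, a' g, b' g, c' g) := fun g g' e => by
        simp only [Prod.mk.injEq] at e
        refine Subtype.ext (Units.ext ?_)
        rw [hh g, hh g', e.1, e.2.1, e.2.2.1, e.2.2.2]
      refine (Nat.card_le_card_of_injective _ hinj).trans ?_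
      simp [Nat.card_eq_fintype_card]
    have hm1 : m = 1 := by
      by_contra hne
      have : 3 ^ (1 + 2 * 2) ≤ 3 ^ (1 + 2 * m) := Nat.pow_le_pow_right (by norm_num) (by omega)
      omega
    rw [hR'card, hm1]; norm_num
  let φ : Fin 3 × Fin 3 × Fin 3 → R' := fun t =>
    ⟨(hsub t.1 t.2.1 t.2.2).choose, (hsub t.1 t.2.1 t.2.2).choose_spec.1⟩
  have hφ : ∀ t, ((φ t : GL3) : M3) = ν ^ (t.1 : ℕ) • (xM ν ^ (t.2.1 : ℕ) * yM ^ (t.2.2 : ℕ)) :=
    fun t => (hsub t.1 t.2.1 t.2.2).choose_spec.2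
  have hbij : Function.Bijective φ := by
    refine (Nat.bijective_iff_injective_and_card φ).2 ⟨fun t t' e => ?_, ?_⟩
    · have e' := congrArg (fun g : R' => ((g : GL3) : M3)) e
      simp only [hφ] at e'
      obtain ⟨e1, e2, e3⟩ := r0_inj hω hν1 e'
      exact Prod.ext e1 (Prod.ext e2 e3)
    · rw [h27]; simp [Nat.card_eq_fintype_card]
  refine ⟨P, ν, hω, hν1, fun x => ⟨fun hx => ?_, ?_⟩⟩
  · obtain ⟨t, ht⟩ := hbij.2 ⟨P⁻¹ * x * P, (memR' _).2 (by simpa [mul_assoc] using hx)⟩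
    exact ⟨t.1, t.2.1, t.2.2, by rw [← hφ, ht]⟩
  · rintro ⟨i, j, k, e⟩
    obtain ⟨g, hg, hge⟩ := hsub i j k
    have : P⁻¹ * x * P = g := Units.ext (by rw [e, hge])
    have h' := (memR' g).1 hg
    rw [← this] at h'
    simpa [mul_assoc] using h'

section Standard

variable {ω : F}

theorem nrm0_normalises (R' : Subgroup GL3) (hR' : ∀ x, x ∈ R' ↔ IsR0 ω (x : M3)) (h0 : ω ≠ 0) {g : GL3}
    (hg : Nrm0 ω g) : g ∈ Subgroup.normalizer (R' : Set GL3) := by
  classical
  haveI := Fintype.ofFinite GL3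
  obtain ⟨⟨x, hx, ex⟩, ⟨y, hy, ey⟩⟩ := hg
  have unit : ∀ {N M : M3}, IsR0 ω N → (g : M3) * M = N * (g : M3) → ∀ h : GL3, (h : M3) = M →
      g * h * g⁻¹ ∈ R' := fun {N M} hN e h eh => by
    rw [hR', Units.val_mul, Units.val_mul, eh, e, Matrix.mul_assoc, Units.mul_inv, Matrix.mul_one]
    exact hN
  have key : ∀ h ∈ R', g * h * g⁻¹ ∈ R' := by
    intro h hh
    obtain ⟨i, j, k, e⟩ := (hR' h).1 hh
    have e1 : SemiconjBy (g : M3) (xM ω ^ (j : ℕ) * yM ^ (k : ℕ)) (x ^ (j : ℕ) * y ^ (k : ℕ)) :=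
      (SemiconjBy.pow_right (show SemiconjBy (g : M3) (xM ω) x from ex) _).mul_right
        (SemiconjBy.pow_right (show SemiconjBy (g : M3) yM y from ey) _)
    -- members of the group
    have mR : ∀ {N : M3}, IsR0 ω N → ∀ u : GL3, (u : M3) = N → u ∈ R' := fun hN u eu => (hR' u).2 (eu ▸ hN)
    have lift : ∀ {N M : M3}, IsR0 ω N → (g : M3) * M = N * (g : M3) → IsUnit M → Mem R' N := fun {N M} hN e' hM => by
      obtain ⟨u, hu⟩ := hM
      exact ⟨g * u * g⁻¹, unit hN e' u hu, by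
        rw [Units.val_mul, Units.val_mul, hu, e', Matrix.mul_assoc, Units.mul_inv, Matrix.mul_one]⟩
    have huX : IsUnit (xM ω) := (Matrix.isUnit_iff_isUnit_det _).2 (isUnit_iff_ne_zero.2 (by
      rw [xM, det_dg]; simp [h0]))
    have huY : IsUnit (yM : M3) := IsUnit.of_mul_eq_one (yM ^ 2) (by rw [← pow_succ', yM_pow_three])
    have m1 := (lift hx ex huX).pow (j : ℕ)
    have m2 := (lift hy ey huY).pow (k : ℕ)
    obtain ⟨u, hu, eu⟩ := m1.mul m2
    have hz : Mem R' (ω ^ (i : ℕ) • (1 : M3)) := by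
      obtain ⟨v, hv⟩ : IsUnit (ω ^ (i : ℕ) • (1 : M3)) := (Matrix.isUnit_iff_isUnit_det _).2
        (isUnit_iff_ne_zero.2 (by simp [h0]))
      exact ⟨v, mR ⟨i, 0, 0, by simp⟩ v hv, hv⟩
    obtain ⟨w, hw, ew⟩ := hz.mul ⟨u, hu, eu⟩
    have : g * h * g⁻¹ = w := Units.ext (by
      rw [ew, Units.val_mul, Units.val_mul, e, Matrix.mul_smul, e1.eq, Matrix.smul_mul, Matrix.mul_assoc,
        Units.mul_inv, Matrix.mul_one, Matrix.smul_mul, one_mul])
    rwa [this]
  refine Subgroup.mem_normalizer_iff.2 fun h => ⟨key h, fun hh => ?_⟩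
  let f : R' → R' := fun u => ⟨g * u * g⁻¹, key u u.2⟩
  have hf : Function.Injective f := fun u v e => Subtype.ext (mul_left_cancel (mul_right_cancel (congrArg Subtype.val e)))
  obtain ⟨u, hu⟩ := Finite.surjective_of_injective hf ⟨_, hh⟩
  rw [← mul_left_cancel (mul_right_cancel (congrArg Subtype.val hu))]
  exact u.2

/-- the conjugates of the generators and the two Fourier elements -/
theorem fourier_conj (hr : ω ^ 2 + ω + 1 = 0) (h3 : (3 : F) ≠ 0) :
    fM ω * xM ω = yM ^ 2 * fM ω ∧ fM ω * yM = xM ω * fM ω ∧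
    qM ω * xM ω = ω • (xM ω ^ 2 * yM ^ 2) * qM ω ∧ qM ω * yM = ω ^ 2 • (xM ω ^ 2 * yM) * qM ω ∧
    (fM ω).det = 1 ∧ (qM ω).det = 1 := by
  have hne : ω - ω ^ 2 ≠ 0 := fun e => h3 (by linear_combination (4 - (2 * ω + 1)) * hr - (2 * ω + 1) * e)
  have hsr : sr ω * (ω - ω ^ 2) = 1 := inv_mul_cancel₀ hne
  refine ⟨?_, ?_, ?_, ?_, ?_, ?_⟩
  · ext i j
    fin_cases i <;> fin_cases j <;> simp [fM, xM, dg, yM, pow_two, Matrix.mul_apply, Fin.sum_univ_three]
    all_goals grind
  · ext i j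
    fin_cases i <;> fin_cases j <;> simp [fM, xM, dg, yM, Matrix.mul_apply, Fin.sum_univ_three]
    all_goals grind
  · ext i j
    fin_cases i <;> fin_cases j <;> simp [qM, xM, dg, yM, pow_two, Matrix.mul_apply, Fin.sum_univ_three]
    all_goals grind
  · ext i j
    fin_cases i <;> fin_cases j <;> simp [qM, xM, dg, yM, pow_two, Matrix.mul_apply, Fin.sum_univ_three]
    all_goals grind
  · rw [Matrix.det_fin_three]; simp [fM]; grind
  · rw [Matrix.det_fin_three]; simp [qM]; grind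

end Standard

/-- **The symplectic-type conjunct follows from the normalising statement.** -/
theorem maximal_of_key {F : Type*} [Field F] [Fintype F]
    (key : ∀ {H : Subgroup (GL (Fin 3) F)} {p : ℕ} {ω : F}, Amb H p ω →
      (p % 9 = 1 → ∃ c : F, c ^ 3 * ω = 1 ∧ Mem H (c • dg ω 1 1)) → ∀ g ∈ H, Nrm0 ω g) :
    ∀ (p : ℕ) (R : Subgroup (Matrix.GeneralLinearGroup (Fin 3) F)), p.Prime → Fintype.card F = p → p % 3 = 1 →
      Cfsg.Geo.IsLinearSymplecticTypeData 3 R →
      Cfsg.Geo.IsMaximalIn (Cfsg.Geo.specialLinear (Fin 3) F)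
        (Cfsg.Geo.subgroupNormalizer R ⊓ Cfsg.Geo.specialLinear (Fin 3) F) := by
  classical
  intro p R hp hc h3 hR
  obtain ⟨P, ω, hω, hω1, hiff⟩ := exists_std hp hc h3 hR
  haveI : Fact p.Prime := ⟨hp⟩
  haveI : CharP F p := charP_of_card_eq_prime (by rw [hc])
  have three : (3 : F) ≠ 0 := fun e => by
    have := (CharP.cast_eq_zero_iff F p 3).1 (by exact_mod_cast e)
    rw [(Nat.prime_dvd_prime_iff_eq hp Nat.prime_three).1 this] at h3
    omega
  have hω3 : ω ^ 3 = 1 := by linear_combination (ω - 1) * hω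
  have hω0 : ω ≠ 0 := fun e => by simp [e] at hω3
  have hω2 : ω ^ 2 ≠ 1 := fun e => hω1 (by linear_combination hω3 - ω * e)
  set c := MulAut.conj P
  set R' : Subgroup (GL (Fin 3) F) := R.comap c.toMonoidHom with hR'
  have memR' : ∀ x, x ∈ R' ↔ IsR0 ω (x : Matrix (Fin 3) (Fin 3) F) := fun x => by
    rw [hR', Subgroup.mem_comap]
    show P * x * P⁻¹ ∈ R ↔ _
    rw [hiff]
    simp [mul_assoc]
  have nrmR : ∀ g, Nrm0 ω g → c g ∈ Subgroup.normalizer (R : Set (GL (Fin 3) F)) := fun g hg => by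
    have hn := nrm0_normalises R' memR' hω0 hg
    refine Subgroup.mem_normalizer_iff.2 fun h => ?_
    have := Subgroup.mem_normalizer_iff.1 hn (P⁻¹ * h * P)
    simp only [hR', Subgroup.mem_comap, MulEquiv.coe_toMonoidHom, c, MulAut.conj_apply] at this ⊢
    simpa [mul_assoc] using this
  have detc : ∀ g : GL (Fin 3) F, c g ∈ Cfsg.Geo.specialLinear (Fin 3) F ↔ g ∈ Cfsg.Geo.specialLinear (Fin 3) F :=
    fun g => by
      show Matrix.GeneralLinearGroup.det (P * g * P⁻¹) = 1 ↔ Matrix.GeneralLinearGroup.det g = 1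
      rw [map_mul, map_mul, map_inv, mul_inv_cancel_comm]
  obtain ⟨fx, fy, qx, qy, df, dq⟩ := fourier_conj hω three
  refine Cfsg.Agent.Forms.Max.isMaximalIn_of inf_le_right (fun hle => ?_) fun M hNM hMS g hgM hg => ?_
  · -- a transvection does not normalise
    let e : GL (Fin 3) F := Matrix.GeneralLinearGroup.mkOfDetNeZero !![1, 1, 0; 0, 1, 0; 0, 0, 1]
      (by simp [Matrix.det_fin_three])
    have he : e ∈ Cfsg.Geo.specialLinear (Fin 3) F := mem_sl.2 (by simp [e, Matrix.det_fin_three])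
    have hn := (hle ((detc e).2 he)).1
    obtain ⟨x, hx⟩ : IsUnit (xM ω) := (Matrix.isUnit_iff_isUnit_det _).2 (isUnit_iff_ne_zero.2 (by
      rw [xM, det_dg]; simp [hω0]))
    have hxR : c x ∈ R := by
      have : x ∈ R' := (memR' x).2 ⟨0, 1, 0, by simp [hx]⟩
      exact this
    have h1 := (Subgroup.mem_normalizer_iff.1 hn (c x)).1 hxR
    rw [← map_inv, ← map_mul, ← map_mul] at h1
    obtain ⟨i, j, k, hk⟩ := (memR' _).1 h1
    have hk' : (e : Matrix (Fin 3) (Fin 3) F) * xM ω = ω ^ (i : ℕ) • (xM ω ^ (j : ℕ) * yM ^ (k : ℕ)) *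
        (e : Matrix (Fin 3) (Fin 3) F) := by
      rw [← hk, Units.val_mul, Units.val_mul, hx, Matrix.mul_assoc, Units.inv_mul, Matrix.mul_one]
    have hN : ∀ r c : Fin 3, (ω ^ (i : ℕ) • (xM ω ^ (j : ℕ) * yM ^ (k : ℕ)) : Matrix (Fin 3) (Fin 3) F) r c =
        if r = c + k then ω ^ (i : ℕ) * (ω ^ (r : ℕ)) ^ (j : ℕ) else 0 := r0_entry ω i j k
    generalize (ω ^ (i : ℕ) • (xM ω ^ (j : ℕ) * yM ^ (k : ℕ)) : Matrix (Fin 3) (Fin 3) F) = N at hk' hN
    have hk0 := congrFun (congrFun hk' 0) 0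
    have hk1 := congrFun (congrFun hk' 0) 1
    have hk2 := congrFun (congrFun hk' 1) 0
    have hk3 := congrFun (congrFun hk' 1) 1
    simp [e, Matrix.mul_apply, Fin.sum_univ_three, hN, xM, dg] at hk0 hk1 hk2 hk3
    fin_cases k <;> simp at hk0 hk1 hk2 hk3
    all_goals grind
  -- the group in the standard frame
  set H : Subgroup (GL (Fin 3) F) := M.comap c.toMonoidHom with hH
  have hle : H ≤ Cfsg.Geo.specialLinear (Fin 3) F := fun x hx => (detc x).1 (hMS hx)
  have into : ∀ {N : Matrix (Fin 3) (Fin 3) F}, N.det = 1 →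
      (∀ u : GL (Fin 3) F, (u : Matrix (Fin 3) (Fin 3) F) = N → Nrm0 ω u) → Mem H N := fun {N} hd hn => by
    let u := Matrix.GeneralLinearGroup.mkOfDetNeZero N (by rw [hd]; exact one_ne_zero)
    exact ⟨u, hNM ⟨nrmR u (hn u rfl), (detc u).2 (mem_sl.2 hd)⟩, rfl⟩
  have r0 : ∀ i j k : Fin 3, IsR0 ω (ω ^ (i : ℕ) • (xM ω ^ (j : ℕ) * yM ^ (k : ℕ))) := fun i j k => ⟨i, j, k, rfl⟩
  have hy3 := yM_pow_three (F := F)
  have hX : Mem H (xM ω) := into (by rw [xM, det_dg]; linear_combination hω3) fun u eu =>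
    ⟨⟨_, by simpa using r0 0 1 0, by rw [eu]⟩, ⟨_, by simpa using r0 1 0 1, by
      rw [eu]
      ext i j
      fin_cases i <;> fin_cases j <;> simp [xM, dg, yM, Matrix.mul_apply, Fin.sum_univ_three]
      all_goals grind⟩⟩
  have hY : Mem H (yM : Matrix (Fin 3) (Fin 3) F) := into (by simp [yM, Matrix.det_fin_three]) fun u eu =>
    ⟨⟨_, by simpa using r0 2 1 0, by
      rw [eu]
      ext i j
      fin_cases i <;> fin_cases j <;> simp [xM, dg, yM, Matrix.mul_apply, Fin.sum_univ_three]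
      all_goals grind⟩, ⟨_, by simpa using r0 0 0 1, by rw [eu]⟩⟩
  have hF : Mem H (fM ω) := into df fun u eu =>
    ⟨⟨_, by simpa using r0 0 0 2, by rw [eu, fx]⟩, ⟨_, by simpa using r0 0 1 0, by rw [eu, fy]⟩⟩
  have hQ : Mem H (qM ω) := into dq fun u eu =>
    ⟨⟨_, by simpa using r0 1 2 2, by rw [eu, qx]⟩, ⟨_, by simpa using r0 2 2 1, by rw [eu, qy]⟩⟩
  have back : ∀ {K : Subgroup (GL (Fin 3) F)}, Cfsg.Geo.specialLinear (Fin 3) F ≤ K.comap c.toMonoidHom →
      Cfsg.Geo.specialLinear (Fin 3) F ≤ K := fun {K} hK x hx => by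
    have := hK (show c.symm x ∈ Cfsg.Geo.specialLinear (Fin 3) F from (detc _).1 (by simpa using hx))
    simpa using this
  obtain ⟨ux, hux, ex⟩ := id hX
  obtain ⟨uy, huy, ey⟩ := id hY
  by_cases hT : NoTr H
  · exfalso
    have hA : Amb H p ω := ⟨hp, hc, h3, hω, hle, hX, hY, hF, hQ, hT⟩
    refine hg ⟨?_, hMS hgM⟩
    have hn := key hA (fun h9 => ?_) (c.symm g) (by
      show c (c.symm g) ∈ M
      rw [MulEquiv.apply_symm_apply]; exact hgM)
    · have := nrmR _ hn
      rwa [MulEquiv.apply_symm_apply] at this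
    -- the diagonal element of order nine
    obtain ⟨γ, hγ⟩ := IsCyclic.exists_ofOrder_eq_natCard (α := Fˣ)
    rw [Nat.card_units, Nat.card_eq_fintype_card, hc] at hγ
    have h9' : 9 ∣ orderOf γ := by rw [hγ]; omega
    have hu := orderOf_pow_orderOf_div (orderOf_pos γ).ne' h9'
    set v := γ ^ (orderOf γ / 9) with hv
    have hv9 : ((v : F)) ^ 9 = 1 := by
      have := pow_orderOf_eq_one v
      rw [hu] at this
      rw [← Units.val_pow_eq_pow_val, this, Units.val_one]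
    have hv3 : (v : F) ^ 3 ≠ 1 := fun e => by
      have e' : v ^ 3 = 1 := Units.ext (by simpa using e)
      have := Nat.le_of_dvd (by norm_num) (orderOf_dvd_of_pow_eq_one e')
      omega
    obtain ⟨d, hd⟩ : ∃ d : F, d ^ 3 * ω = 1 := by
      have hprod : ((v : F) ^ 3 - ω) * ((v : F) ^ 3 - ω ^ 2) = 0 := by
        refine (mul_eq_zero.1 (show ((v : F) ^ 3 - 1) * (((v : F) ^ 3 - ω) * ((v : F) ^ 3 - ω ^ 2)) = 0 by
          linear_combination hv9 + ((v : F) ^ 3 - (v : F) ^ 6 + (ω - 1) * ((v : F) ^ 3 - 1)) * hω)).resolve_left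
          (sub_ne_zero.2 hv3)
      rcases mul_eq_zero.1 hprod with e | e
      · exact ⟨((v : F))⁻¹, by rw [inv_pow, sub_eq_zero.1 e, inv_mul_cancel₀ hω0]⟩
      · exact ⟨(v : F), by rw [sub_eq_zero.1 e, ← pow_succ]; exact hω3⟩
    refine ⟨d, hd, into (by rw [smul_dg, det_dg]; linear_combination hd) fun u eu => ⟨⟨_, by simpa using r0 0 1 0, ?_⟩,
      ⟨_, by simpa using r0 1 1 1, ?_⟩⟩⟩
    · rw [eu]
      ext i j
      fin_cases i <;> fin_cases j <;> simp [xM, dg, Matrix.mul_apply, Fin.sum_univ_three]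
      all_goals grind
    · rw [eu]
      ext i j
      fin_cases i <;> fin_cases j <;> simp [xM, dg, yM, Matrix.mul_apply, Fin.sum_univ_three]
      all_goals grind
  · simp only [NoTr, not_forall, not_not] at hT
    obtain ⟨u, φ, hu, hφ, hT⟩ := hT
    refine back (Cfsg.Agent.Forms.Max.SL3.Elation.sl_le_of_tr (hc ▸ hp) ?_ ?_ hu hφ hT)
    · intro v hv
      by_contra hcon
      push Not at hcon
      obtain ⟨a, ha⟩ := hcon ux hux
      obtain ⟨b, hb⟩ := hcon uy huy
      rw [ex] at ha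
      rw [ey] at hb
      have a0 := congrFun ha 0
      have a1 := congrFun ha 1
      have a2 := congrFun ha 2
      have b0 := congrFun hb 0
      have b1 := congrFun hb 1
      have b2 := congrFun hb 2
      simp [Matrix.mulVec, dotProduct, Fin.sum_univ_three, xM, dg, yM] at a0 a1 a2 b0 b1 b2
      refine hv (funext fun i => ?_)
      fin_cases i <;> simp <;> grind
    · intro v hv
      by_contra hcon
      push Not at hcon
      obtain ⟨a, ha⟩ := hcon ux hux
      obtain ⟨b, hb⟩ := hcon uy huy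
      rw [ex] at ha
      rw [ey] at hb
      have a0 := congrFun ha 0
      have a1 := congrFun ha 1
      have a2 := congrFun ha 2
      have b0 := congrFun hb 0
      have b1 := congrFun hb 1
      have b2 := congrFun hb 2
      simp [Matrix.vecMul, dotProduct, Fin.sum_univ_three, xM, dg, yM] at a0 a1 a2 b0 b1 b2
      refine hv (funext fun i => ?_)
      fin_cases i <;> simp <;> grind

end Cfsg.Agent.Forms.Max.SL3.SympType
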